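import Mathlib
import Groth.Agent.H14.AnnParams

/-!
# Multipliers with the annihilator condition for ALL subsets (variant of `H14.AnnParams.main`)

* `regular_mod_pows_subset`: in a regular local ring with a regular system of parameters `x`,
  `x k` is a nonzerodivisor modulo `(x j ^ e : j ∈ W)` for every `W ∌ k`.
* `exists_saturation_multiplier`: `s ∉ q` with `s • (J^sat) ⊆ J`.
* `exists_multipliers_subsets`: the requested statement.
-/

set_option autoImplicit false
universe u

namespace Groth.Agent.H76.MultSubsets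

open IsLocalRing

theorem regular_mod_pows_subset (R : Type u) [CommRing R] [IsRegularLocalRing R] (d : ℕ)
    (hd : ringKrullDim R = d) (x : Fin d → R) (hx : Ideal.span (Set.range x) = maximalIdeal R)
    (e : ℕ) (he : 0 < e) (k : Fin d) (W : Finset (Fin d)) (hk : k ∉ W) (y : R)
    (hy : x k * y ∈ Ideal.span ((fun j => x j ^ e) '' (W : Set (Fin d)))) :
    y ∈ Ideal.span ((fun j => x j ^ e) '' (W : Set (Fin d))) := by
  classical
  have hCM := Groth.Agent.H79.RegCM.isCM_of_sop R d hd x hx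
  have hxm : ∀ j, x j ∈ maximalIdeal R := fun j => hx ▸ Ideal.subset_span ⟨j, rfl⟩
  obtain ⟨L1, hL1⟩ : ∃ L1 : List R, L1 = W.toList.map (fun j => x j ^ e) := ⟨_, rfl⟩
  obtain ⟨rest, hrest⟩ : ∃ rest : Finset (Fin d), rest = Finset.univ \ insert k W := ⟨_, rfl⟩
  obtain ⟨L2, hL2⟩ : ∃ L2 : List R, L2 = rest.toList.map x := ⟨_, rfl⟩
  have hlen1 : L1.length = W.card := by simp [hL1]
  have hlen2 : L2.length = rest.card := by simp [hL2]
  have hcard : rest.card + (W.card + 1) = d := by
    have h1 := Finset.card_sdiff_add_card_eq_card (Finset.subset_univ (insert k W))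
    rw [Finset.card_insert_of_notMem hk, Finset.card_univ, Fintype.card_fin] at h1
    rw [hrest]
    exact h1
  have hmemL1 : ∀ z, z ∈ L1 ↔ ∃ j ∈ W, x j ^ e = z := by
    intro z
    rw [hL1, List.mem_map]
    constructor
    · rintro ⟨j, hj, rfl⟩
      exact ⟨j, Finset.mem_toList.mp hj, rfl⟩
    · rintro ⟨j, hj, rfl⟩
      exact ⟨j, Finset.mem_toList.mpr hj, rfl⟩
  have hmemL2 : ∀ z, z ∈ L2 ↔ ∃ j ∈ rest, x j = z := by
    intro z
    rw [hL2, List.mem_map]
    constructor
    · rintro ⟨j, hj, rfl⟩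
      exact ⟨j, Finset.mem_toList.mp hj, rfl⟩
    · rintro ⟨j, hj, rfl⟩
      exact ⟨j, Finset.mem_toList.mpr hj, rfl⟩
  have hreg := Groth.Agent.H79.RegCM.isWeaklyRegular_of_radical hCM hd (L1 ++ x k :: L2)
    (by rw [List.length_append, List.length_cons, hlen1, hlen2]; omega)
    (by
      intro z hz
      rw [List.mem_append, List.mem_cons] at hz
      rcases hz with hz | hz | hz
      · obtain ⟨j, -, rfl⟩ := (hmemL1 z).mp hz
        exact Ideal.pow_mem_of_mem _ (hxm j) e he
      · rw [hz]; exact hxm k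
      · obtain ⟨j, -, rfl⟩ := (hmemL2 z).mp hz
        exact hxm j)
    (by
      rw [← hx, Ideal.span_le]
      rintro _ ⟨j, rfl⟩
      by_cases hjW : j ∈ W
      · refine ⟨e, Ideal.subset_span ?_⟩
        show x j ^ e ∈ L1 ++ x k :: L2
        rw [List.mem_append]
        exact Or.inl ((hmemL1 _).mpr ⟨j, hjW, rfl⟩)
      · by_cases hjk : j = k
        · refine ⟨1, Ideal.subset_span ?_⟩
          show x j ^ 1 ∈ L1 ++ x k :: L2
          rw [pow_one, hjk, List.mem_append, List.mem_cons]
          exact Or.inr (Or.inl rfl)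
        · refine ⟨1, Ideal.subset_span ?_⟩
          show x j ^ 1 ∈ L1 ++ x k :: L2
          rw [pow_one, List.mem_append, List.mem_cons]
          refine Or.inr (Or.inr ((hmemL2 _).mpr ⟨j, ?_, rfl⟩))
          rw [hrest, Finset.mem_sdiff, Finset.mem_insert]
          exact ⟨Finset.mem_univ j, fun h => h.elim hjk hjW⟩)
  rw [Groth.Agent.H9.isWeaklyRegular_ring_iff] at hreg
  have hi : L1.length < (L1 ++ x k :: L2).length := by
    rw [List.length_append, List.length_cons]; omega
  have h1 := hreg L1.length hi y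
  have h2 : (L1 ++ x k :: L2)[L1.length] = x k := by
    rw [List.getElem_append_right (le_refl _)]
    simp
  have h3 : Ideal.ofList ((L1 ++ x k :: L2).take L1.length) =
      Ideal.span ((fun j => x j ^ e) '' (W : Set (Fin d))) := by
    rw [List.take_left' rfl]
    show Ideal.span {z | z ∈ L1} = _
    congr 1
    ext z
    constructor
    · intro hz
      obtain ⟨j, hj, rfl⟩ := (hmemL1 z).mp hz
      exact ⟨j, Finset.mem_coe.mpr hj, rfl⟩
    · rintro ⟨j, hj, rfl⟩
      exact (hmemL1 _).mpr ⟨j, Finset.mem_coe.mp hj, rfl⟩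
  rw [h2, h3] at h1
  exact h1 hy

theorem exists_saturation_multiplier {Λ : Type u} [CommRing Λ] [IsNoetherianRing Λ]
    (q : Ideal Λ) [q.IsPrime] (J : Ideal Λ) :
    ∃ s : Λ, s ∉ q ∧ ∀ y : Λ,
      algebraMap Λ (Localization.AtPrime q) y ∈ J.map (algebraMap Λ (Localization.AtPrime q)) →
        s * y ∈ J := by
  classical
  obtain ⟨K, hK⟩ : ∃ K : Ideal Λ, K = (J.map (algebraMap Λ (Localization.AtPrime q))).comap
      (algebraMap Λ (Localization.AtPrime q)) := ⟨_, rfl⟩
  obtain ⟨S, hS⟩ : K.FG := IsNoetherian.noetherian _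
  have h3 : ∀ y ∈ S, ∃ s : Λ, s ∉ q ∧ s * y ∈ J := by
    intro y hy
    have h2 : algebraMap Λ (Localization.AtPrime q) y ∈
        J.map (algebraMap Λ (Localization.AtPrime q)) := by
      have hyK : y ∈ K := hS ▸ Ideal.subset_span hy
      rw [hK] at hyK
      exact hyK
    rw [IsLocalization.mem_map_algebraMap_iff q.primeCompl (Localization.AtPrime q)] at h2
    obtain ⟨⟨j, s⟩, hjs⟩ := h2
    rw [← map_mul] at hjs
    obtain ⟨c, hc⟩ := (IsLocalization.eq_iff_exists q.primeCompl (Localization.AtPrime q)).mp hjs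
    refine ⟨c * s, q.primeCompl.mul_mem c.2 s.2, ?_⟩
    have h3 : (c : Λ) * s * y = c * j := by
      rw [← hc]; ring
    rw [h3]
    exact J.mul_mem_left _ j.2
  choose! σ hσq hσJ using h3
  refine ⟨∏ y ∈ S, σ y, ?_, ?_⟩
  · intro hmem
    obtain ⟨y, hy, hyq⟩ := (Ideal.IsPrime.prod_mem_iff).mp hmem
    exact hσq y hy hyq
  · intro y hy
    have hyK : y ∈ K := by rw [hK]; exact hy
    rw [← hS] at hyK
    refine Submodule.span_induction (p := fun y _ => (∏ y ∈ S, σ y) * y ∈ J) ?_ ?_ ?_ ?_ hyK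
    · intro y hy
      obtain ⟨c, hc⟩ := Finset.dvd_prod_of_mem σ hy
      rw [hc, mul_comm (σ y) c, mul_assoc]
      exact J.mul_mem_left c (hσJ y hy)
    · simp
    · intro x y _ _ hx hy
      rw [mul_add]
      exact J.add_mem hx hy
    · intro r x _ hx
      rw [smul_eq_mul, mul_left_comm]
      exact J.mul_mem_left r hx

theorem span_mul_units {P : Type u} [CommRing P] (𝔭 : Ideal P) [𝔭.IsPrime] {d : ℕ}
    (π g : Fin d → P) (hg : ∀ i, g i ∉ 𝔭) :
    Ideal.span (Set.range fun i => algebraMap P (Localization.AtPrime 𝔭) (g i * π i)) =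
      Ideal.span (Set.range fun i => algebraMap P (Localization.AtPrime 𝔭) (π i)) := by
  have hu : ∀ i, IsUnit (algebraMap P (Localization.AtPrime 𝔭) (g i)) := fun i =>
    IsLocalization.map_units _ (⟨g i, hg i⟩ : 𝔭.primeCompl)
  apply le_antisymm
  · rw [Ideal.span_le]
    rintro _ ⟨i, rfl⟩
    show algebraMap P (Localization.AtPrime 𝔭) (g i * π i) ∈ _
    rw [map_mul]
    exact Ideal.mul_mem_left _ _ (Ideal.subset_span ⟨i, rfl⟩)
  · rw [Ideal.span_le]
    rintro _ ⟨i, rfl⟩
    obtain ⟨w, hw⟩ := (hu i).exists_left_inv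
    have h : algebraMap P (Localization.AtPrime 𝔭) (π i) =
        w * algebraMap P (Localization.AtPrime 𝔭) (g i * π i) := by
      rw [map_mul, ← mul_assoc, hw, one_mul]
    show algebraMap P (Localization.AtPrime 𝔭) (π i) ∈ _
    rw [h]
    exact Ideal.mul_mem_left _ _ (Ideal.subset_span ⟨i, rfl⟩)

theorem ann_step {P : Type u} [CommRing P] (𝔭 : Ideal P) [𝔭.IsPrime]
    [IsRegularLocalRing (Localization.AtPrime 𝔭)] (d : ℕ)
    (hd : ringKrullDim (Localization.AtPrime 𝔭) = d) (π : Fin d → P)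
    (hgen : Ideal.span (Set.range fun i => algebraMap P (Localization.AtPrime 𝔭) (π i)) =
      maximalIdeal (Localization.AtPrime 𝔭))
    (e : ℕ) (he : 0 < e) (g : Fin d → P) (hg : ∀ i, g i ∉ 𝔭) (k : Fin d)
    (W : Finset (Fin d)) (hk : k ∉ W) (s₀ : P)
    (hs₀ : ∀ y : P, algebraMap P (Localization.AtPrime 𝔭) y ∈
        (Ideal.span ((fun j => (g j * π j) ^ e) '' (W : Set (Fin d)))).map
          (algebraMap P (Localization.AtPrime 𝔭)) →
        s₀ * y ∈ Ideal.span ((fun j => (g j * π j) ^ e) '' (W : Set (Fin d))))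
    (c : P) (hc : g k = c * s₀) (y : P)
    (hy : (g k * π k) ^ 2 * y ∈ Ideal.span ((fun j => (g j * π j) ^ e) '' (W : Set (Fin d)))) :
    (g k * π k) * y ∈ Ideal.span ((fun j => (g j * π j) ^ e) '' (W : Set (Fin d))) := by
  obtain ⟨x, hx⟩ : ∃ x : Fin d → Localization.AtPrime 𝔭,
      x = fun j => algebraMap P (Localization.AtPrime 𝔭) (g j * π j) := ⟨_, rfl⟩
  have hxgen : Ideal.span (Set.range x) = maximalIdeal (Localization.AtPrime 𝔭) := by
    rw [← hgen, hx]; exact span_mul_units 𝔭 π g hg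
  have hJmap : (Ideal.span ((fun j => (g j * π j) ^ e) '' (W : Set (Fin d)))).map
      (algebraMap P (Localization.AtPrime 𝔭)) =
      Ideal.span ((fun j => x j ^ e) '' (W : Set (Fin d))) := by
    rw [Ideal.map_span, Set.image_image]
    congr 1
    apply Set.image_congr
    intro j _
    rw [hx]
    simp only [map_pow]
  have h1 : x k * (x k * algebraMap P (Localization.AtPrime 𝔭) y) ∈
      Ideal.span ((fun j => x j ^ e) '' (W : Set (Fin d))) := by
    rw [← hJmap]
    have h0 : x k * (x k * algebraMap P (Localization.AtPrime 𝔭) y) =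
        algebraMap P (Localization.AtPrime 𝔭) ((g k * π k) ^ 2 * y) := by
      rw [hx]
      simp only [map_mul, map_pow]
      ring
    rw [h0]
    exact Ideal.mem_map_of_mem _ hy
  have h2 := regular_mod_pows_subset _ d hd x hxgen e he k W hk _ h1
  have h3 := regular_mod_pows_subset _ d hd x hxgen e he k W hk _ h2
  rw [← hJmap] at h3
  have h4 := hs₀ y h3
  have h5 : g k * π k * y = (c * π k) * (s₀ * y) := by rw [hc]; ring
  rw [h5]
  exact Ideal.mul_mem_left _ _ h4

theorem exists_multipliers_subsets {P : Type u} [CommRing P] [IsNoetherianRing P] (𝔭 : Ideal P)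
    [𝔭.IsPrime] [IsRegularLocalRing (Localization.AtPrime 𝔭)] (d : ℕ)
    (hd : ringKrullDim (Localization.AtPrime 𝔭) = d) (π : Fin d → P)
    (hgen : Ideal.span (Set.range fun i => algebraMap P (Localization.AtPrime 𝔭) (π i)) =
      IsLocalRing.maximalIdeal (Localization.AtPrime 𝔭)) (e : ℕ) (he : 0 < e) :
    ∃ g : Fin d → P, (∀ i, g i ∉ 𝔭) ∧ ∀ (i : Fin d) (W : Finset (Fin d)), (∀ j ∈ W, j < i) →
      ∀ y : P, (g i * π i) ^ 2 * y ∈
          Ideal.span ((fun j => (g j * π j) ^ e) '' (W : Set (Fin d))) →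
        (g i * π i) * y ∈ Ideal.span ((fun j => (g j * π j) ^ e) '' (W : Set (Fin d))) := by
  classical
  have key : ∀ k : ℕ, k ≤ d → ∃ g : Fin d → P, (∀ i, g i ∉ 𝔭) ∧ ∀ i : Fin d, (i : ℕ) < k →
      ∀ W : Finset (Fin d), (∀ j ∈ W, j < i) → ∀ y : P,
        (g i * π i) ^ 2 * y ∈ Ideal.span ((fun j => (g j * π j) ^ e) '' (W : Set (Fin d))) →
        (g i * π i) * y ∈ Ideal.span ((fun j => (g j * π j) ^ e) '' (W : Set (Fin d))) := by
    intro k
    induction k with
    | zero =>
      intro _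
      exact ⟨fun _ => 1, fun _ h => (Ideal.IsPrime.ne_top inferInstance)
        ((Ideal.eq_top_iff_one 𝔭).mpr h), fun i hi => absurd hi (Nat.not_lt_zero _)⟩
    | succ k ih =>
      intro hk
      obtain ⟨g, hg, hgA⟩ := ih (by omega)
      have hkd : k < d := by omega
      obtain ⟨kk, hkk⟩ : ∃ kk : Fin d, (kk : ℕ) = k := ⟨⟨k, hkd⟩, rfl⟩
      obtain ⟨𝒲, h𝒲⟩ : ∃ 𝒲 : Finset (Finset (Fin d)),
          𝒲 = (Finset.univ.filter (fun j : Fin d => j < kk)).powerset := ⟨_, rfl⟩
      have hsat : ∀ W : Finset (Fin d), ∃ s : P, s ∉ 𝔭 ∧ ∀ y : P,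
          algebraMap P (Localization.AtPrime 𝔭) y ∈
            (Ideal.span ((fun j => (g j * π j) ^ e) '' (W : Set (Fin d)))).map
              (algebraMap P (Localization.AtPrime 𝔭)) →
          s * y ∈ Ideal.span ((fun j => (g j * π j) ^ e) '' (W : Set (Fin d))) :=
        fun W => exists_saturation_multiplier 𝔭 _
      choose s₀ hs₀q hs₀ using hsat
      obtain ⟨gk, hgk⟩ : ∃ gk : P, gk = ∏ W ∈ 𝒲, s₀ W := ⟨_, rfl⟩
      have hgkq : gk ∉ 𝔭 := by
        intro hmem
        rw [hgk] at hmem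
        obtain ⟨W, _, hW⟩ := (Ideal.IsPrime.prod_mem_iff).mp hmem
        exact hs₀q W hW
      obtain ⟨g', hg'⟩ : ∃ g' : Fin d → P, g' = Function.update g kk gk := ⟨_, rfl⟩
      have hg'kk : g' kk = gk := by rw [hg', Function.update_self]
      have hg'ne : ∀ j, j ≠ kk → g' j = g j := fun j hj => by
        rw [hg', Function.update_of_ne hj]
      have hg'q : ∀ i, g' i ∉ 𝔭 := by
        intro i
        by_cases h : i = kk
        · rw [h, hg'kk]; exact hgkq
        · rw [hg'ne i h]; exact hg i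
      have himg : ∀ (i : Fin d) (W : Finset (Fin d)), (∀ j ∈ W, j < i) → (i : ℕ) ≤ k →
          (fun j => (g' j * π j) ^ e) '' (W : Set (Fin d)) =
            (fun j => (g j * π j) ^ e) '' (W : Set (Fin d)) := by
        intro i W hW hik
        apply Set.image_congr
        intro j hj
        have hjlt : j < i := hW j (Finset.mem_coe.mp hj)
        have hne : j ≠ kk := by
          intro h
          rw [h] at hjlt
          have h' : (kk : ℕ) < (i : ℕ) := hjlt
          omega
        show (g' j * π j) ^ e = (g j * π j) ^ e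
        rw [hg'ne j hne]
      refine ⟨g', hg'q, ?_⟩
      intro i hi W hW y
      by_cases h : i = kk
      · rw [h] at hW ⊢
        have hkW : kk ∉ W := fun hmem => lt_irrefl kk (hW kk hmem)
        have hW𝒲 : W ∈ 𝒲 := by
          rw [h𝒲, Finset.mem_powerset]
          intro j hj
          rw [Finset.mem_filter]
          exact ⟨Finset.mem_univ j, hW j hj⟩
        obtain ⟨c, hc⟩ := Finset.dvd_prod_of_mem s₀ hW𝒲
        have hc' : g' kk = c * s₀ W := by rw [hg'kk, hgk, hc, mul_comm]
        have hs₀' : ∀ y : P, algebraMap P (Localization.AtPrime 𝔭) y ∈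
            (Ideal.span ((fun j => (g' j * π j) ^ e) '' (W : Set (Fin d)))).map
              (algebraMap P (Localization.AtPrime 𝔭)) →
            s₀ W * y ∈ Ideal.span ((fun j => (g' j * π j) ^ e) '' (W : Set (Fin d))) := by
          rw [himg kk W hW (by omega)]
          exact hs₀ W
        exact ann_step 𝔭 d hd π hgen e he g' hg'q kk W hkW (s₀ W) hs₀' c hc' y
      · have hik : (i : ℕ) < k := by
          have hne : (i : ℕ) ≠ k := fun h' => h (Fin.ext (by rw [h', hkk]))
          omega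
        rw [himg i W hW (by omega), hg'ne i h]
        exact hgA i hik W hW y
  obtain ⟨g, hg, hgA⟩ := key d le_rfl
  exact ⟨g, hg, fun i W hW y => hgA i i.2 W hW y⟩

end Groth.Agent.H76.MultSubsets
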