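import Mathlib
import Groth.Prelude.Def_CohB1
import Groth.Agent.H22.FPExt.Defs
import Groth.Agent.H8.FinType
set_option autoImplicit false
universe u
open CategoryTheory CategoryTheory.Limits AlgebraicGeometry TopologicalSpace Opposite
open AlgebraicGeometry.Scheme.Modules
open Groth.Agent.H22.FPExt
variable {X : Scheme.{u}}

namespace Groth.Agent.H76.FPExt_P2

/-- (P2) for helper22's S2115. -/
theorem isFP_of_fpOn_top (M : X.Modules) [M.IsQuasicoherent] (h : FPOn M ⊤) : CohB1.IsFP M := by
  choose O hO using fun x : X => h x (Opens.mem_top x)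
  have hcov : IsOpenCover (fun x : X => O x) := by
    apply IsOpenCover.mk
    rw [eq_top_iff]
    intro x _
    exact Opens.mem_iSup.mpr ⟨x, (hO x).2.1⟩
  exact Groth.Agent.H8.isFinitePresentation_of_finitePresentation_sections M (fun x : X => O x)
    hcov (fun x => (hO x).1) (fun x => (hO x).2.2.2)

end Groth.Agent.H76.FPExt_P2
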