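import Groth.Agent.H76.TFCoreBasis
import Groth.Agent.H55.TFL.Defs

/-!
# (Q2) for S15012/S15035: a `K`-basis inside a lattice generating its `Õ`-span
-/

set_option autoImplicit false
set_option linter.style.haveILetI false
universe u
open Groth.Agent.H55.TFL

namespace Groth.Agent.H76.TFQ2

set_option maxHeartbeats 1600000 in
theorem exists_basis_in_lattice (O : Type u) [CommRing O] [IsDomain O] [IsNoetherianRing O] [IsLocalRing O] (hdim : ringKrullDim O = 1) [IsAlgClosed (IsLocalRing.ResidueField O)] (K : Type u) [Field K] [Algebra O K] [IsFractionRing O K] (hfin : Module.Finite O ↥(integralClosure O K)) (n : ℕ) (L : Submodule O (Fin n → K)) (hL : IsLat O K n L) : ∃ u : Fin n → (Fin n → K), (∀ i, u i ∈ L) ∧ LinearIndependent K u ∧ Submodule.span ↥(integralClosure O K) (Set.range u) = Submodule.span ↥(integralClosure O K) (L : Set (Fin n → K)) := by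
  haveI : Infinite (IsLocalRing.ResidueField O) := inferInstance
  have hm : IsLocalRing.maximalIdeal O ≠ ⊥ := by
    intro h
    have hF : IsField O := IsLocalRing.isField_iff_maximalIdeal_eq.mpr h
    rw [ringKrullDim_eq_zero_of_isField hF] at hdim
    exact zero_ne_one hdim
  haveI : Ring.DimensionLEOne O := by
    have h1 : Ring.KrullDimLE 1 O := Ring.krullDimLE_iff.mpr (by rw [hdim]; rfl)
    exact ⟨fun {p} hp hpp => Ring.krullDimLE_one_iff_of_noZeroDivisors.mp h1 p hp hpp⟩
  haveI : Module.Finite O (integralClosure O K) := hfin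
  haveI : IsNoetherianRing (integralClosure O K) := by
    haveI : IsNoetherian O (integralClosure O K) := inferInstance
    exact isNoetherian_of_tower O inferInstance
  haveI : IsFractionRing (integralClosure O K) K :=
    integralClosure.isFractionRing_of_finite_extension (A := O) K K
  haveI : IsDedekindDomain (integralClosure O K) := by
    refine (isDedekindDomain_iff (↥(integralClosure O K)) K).mpr
      ⟨inferInstance, inferInstance, inferInstance, ?_⟩
    intro x hx
    have hx' : IsIntegral O x := isIntegral_trans x hx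
    exact ⟨⟨x, hx'⟩, rfl⟩
  have hmax : {P : Ideal (integralClosure O K) | P.IsMaximal}.Finite := by
    refine (Ideal.finite_minimalPrimes_of_isNoetherianRing (integralClosure O K)
      ((IsLocalRing.maximalIdeal O).map (algebraMap O (integralClosure O K)))).subset ?_
    intro P hP
    haveI : P.IsMaximal := hP
    have hcomap : P.comap (algebraMap O (integralClosure O K)) = IsLocalRing.maximalIdeal O :=
      IsLocalRing.eq_maximalIdeal (Ideal.isMaximal_comap_of_isIntegral_of_isMaximal (R := O) P)
    have hle : (IsLocalRing.maximalIdeal O).map (algebraMap O (integralClosure O K)) ≤ P := by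
      rw [Ideal.map_le_iff_le_comap, hcomap]
    refine ⟨⟨hP.isPrime, hle⟩, fun Q hQ hQP => ?_⟩
    have hQne : Q ≠ ⊥ := by
      intro h
      apply hm
      rw [eq_bot_iff]
      intro x hx
      have h3 : algebraMap O (integralClosure O K) x ∈ Q := hQ.2 (Ideal.mem_map_of_mem _ hx)
      rw [h, Ideal.mem_bot] at h3
      have h4 : algebraMap O K x = 0 := by
        rw [IsScalarTower.algebraMap_apply O (integralClosure O K) K, h3, map_zero]
      exact (Ideal.mem_bot).mpr
        ((injective_iff_map_eq_zero (algebraMap O K)).mp (IsFractionRing.injective O K) x h4)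
    have hQmax : Q.IsMaximal := Ring.DimensionLEOne.maximalOfPrime hQne hQ.1
    exact (hQmax.eq_of_le hP.ne_top hQP).ge
  haveI : IsPrincipalIdealRing (integralClosure O K) := IsPrincipalIdealRing.of_finite_maximals hmax
  obtain ⟨d, hd0, hd1, hd2⟩ := hL
  have hdK : algebraMap O K d ≠ 0 := fun h => hd0
    ((injective_iff_map_eq_zero (algebraMap O K)).mp (IsFractionRing.injective O K) d h)
  -- `L` is a finite `O`-module
  haveI : Module.Finite O ↥L := by
    let φ : (Fin n → O) →ₗ[O] (Fin n → K) := (Algebra.linearMap O K).compLeft (Fin n)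
    let ψ : (Fin n → K) →ₗ[O] (Fin n → K) := LinearMap.lsmul O (Fin n → K) d
    have hψ : Function.Injective ψ := by
      intro x y hxy
      have h1 : d • x = d • y := hxy
      rw [← algebraMap_smul K d x, ← algebraMap_smul K d y] at h1
      exact (smul_right_inj hdK).mp h1
    haveI : IsNoetherian O ↥(LinearMap.range φ) := inferInstance
    have hle : L.map ψ ≤ LinearMap.range φ := by
      rintro _ ⟨x, hx, rfl⟩
      have h1 := hd2 x hx
      rw [mem_On] at h1
      choose a ha using fun i => Submodule.mem_one.mp (h1 i)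
      refine ⟨a, ?_⟩
      funext i
      exact ha i
    haveI : IsNoetherian O ↥(L.map ψ) := isNoetherian_of_le hle
    exact Module.Finite.equiv (Submodule.equivMapOfInjective ψ hψ L).symm
  have hspan0 : Submodule.span K (Set.range L.subtype) = ⊤ := by
    rw [eq_top_iff, ← (Pi.basisFun K (Fin n)).span_eq]
    refine Submodule.span_le.mpr ?_
    rintro _ ⟨i, rfl⟩
    have h1 : (Pi.single i (1 : K) : Fin n → K) ∈ On O K n := by
      rw [mem_On]
      intro j
      by_cases hij : j = i
      · subst hij
        rw [Pi.single_eq_same]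
        exact Submodule.mem_one.mpr ⟨1, map_one _⟩
      · rw [Pi.single_eq_of_ne hij]
        exact Submodule.zero_mem _
    have h2 := hd1 _ h1
    have h3 : (Pi.basisFun K (Fin n)) i
        = (algebraMap O K d)⁻¹ • (d • (Pi.single i (1 : K) : Fin n → K)) := by
      rw [← algebraMap_smul K d (Pi.single i (1 : K) : Fin n → K), smul_smul,
        inv_mul_cancel₀ hdK, one_smul, Pi.basisFun_apply]
    rw [h3]
    exact Submodule.smul_mem _ _ (Submodule.subset_span ⟨⟨_, h2⟩, rfl⟩)
  have hn : Module.finrank K (Fin n → K) = n := Module.finrank_fin_fun K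
  obtain ⟨b, hb1, hb2⟩ := Groth.Agent.H76.TFCoreBasis.core_basis O K (integralClosure O K) hmax
    ↥L (Fin n → K) L.subtype Subtype.val_injective hspan0 n hn
  have hbL : ∀ i, b i ∈ L := by
    intro i
    obtain ⟨⟨y, hy⟩, h⟩ := hb1 i
    rw [← h]
    exact hy
  refine ⟨fun i => b i, hbL, b.linearIndependent, le_antisymm ?_ ?_⟩
  · refine Submodule.span_mono ?_
    rintro _ ⟨i, rfl⟩
    exact hbL i
  · refine Submodule.span_le.mpr ?_
    intro x hx
    exact hb2 ⟨x, hx⟩

end Groth.Agent.H76.TFQ2
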