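import Mathlib
import Groth.Prelude
set_option autoImplicit false
universe u
open CategoryTheory CategoryTheory.Limits MonoidalCategory CartesianMonoidalCategory MonObj GrpObj AlgebraicGeometry

namespace Groth.Agent.H76.InfGrp_SH

/-- (SH) for helper63's S13951: if every section of the commutative group scheme `I` over an etale `U ⟶ S`
is the unit section, then the restriction of the sheaf of points of `I` to the small etale site is zero. -/
theorem isZero_resEt_pts (S : Scheme.{u}) (I : Over S) [GrpObj I] [IsCommMonObj I]
    (h : ∀ (U : S.Etale) (σ : (EtFppf.a S).obj U ⟶ I), σ = 1) :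
    IsZero ((BigSite.resEt Scheme.fppfPrecoverage S).obj (CGrpSh.pts Scheme.fppfPrecoverage I)) := by
  rw [IsZero.iff_id_eq_zero]
  apply Sheaf.hom_ext
  apply NatTrans.ext
  funext U
  apply AddCommGrpCat.hom_ext
  apply AddMonoidHom.ext
  intro x
  have hsub : Subsingleton (ULift.{u + 1} (Additive ((EtFppf.a S).obj U.unop ⟶ I))) := by
    constructor
    intro a b
    apply ULift.ext
    have ha := h U.unop a.down.toMul
    have hb := h U.unop b.down.toMul
    change Additive.ofMul a.down.toMul = Additive.ofMul b.down.toMul
    rw [ha, hb]
  exact hsub.elim _ _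

end Groth.Agent.H76.InfGrp_SH
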