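import Mathlib
import Groth.Prelude.Def_PolLaw

/-!
# Helper library (helper76): kernels of polynomial laws `B → A` under base change

* `val f S z`: the value in `S` of a law `f : B →ₚₗ[A] A` (through `S ⊗ A ≃ S`), with naturality `val_map`.
* the universal test algebra `MvPolynomial (Fin n ⊕ Fin n) A'` for a finite `B` (generators `e`), the polynomials
  `P1`, `P0` and the criterion `mem_kerBC_iff`.
* polynomial base change: `kerBC_poly_apply`, `kerBC_poly_of_X_mul` (Laurent polynomial trick).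
-/

set_option autoImplicit false
universe u
open scoped TensorProduct

namespace Groth.Agent.H76.PolLawBC

section Basic

variable {A : Type u} [CommRing A] {B : Type u} [CommRing B] [Algebra A B]

theorem rTensor_eq_map {C : Type u} [CommRing C] [Algebra A C] {S S' : Type u} [CommSemiring S]
    [Algebra A S] [CommSemiring S'] [Algebra A S'] (φ : S →ₐ[A] S') (z : S ⊗[A] C) :
    φ.toLinearMap.rTensor C z = Algebra.TensorProduct.map φ (AlgHom.id A C) z := by
  induction z using TensorProduct.induction_on with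
  | zero => simp
  | tmul a b => rfl
  | add a b ha hb => simp [ha, hb]

theorem map_map_apply {S₁ S₂ S₃ : Type u} [CommSemiring S₁] [Algebra A S₁] [CommSemiring S₂]
    [Algebra A S₂] [CommSemiring S₃] [Algebra A S₃] (φ : S₂ →ₐ[A] S₃) (ψ : S₁ →ₐ[A] S₂)
    (z : S₁ ⊗[A] B) :
    Algebra.TensorProduct.map φ (AlgHom.id A B) (Algebra.TensorProduct.map ψ (AlgHom.id A B) z) =
      Algebra.TensorProduct.map (φ.comp ψ) (AlgHom.id A B) z := by
  rw [← AlgHom.comp_apply, ← Algebra.TensorProduct.map_comp, AlgHom.comp_id]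

theorem map_id_apply {S : Type u} [CommSemiring S] [Algebra A S] (z : S ⊗[A] B) :
    Algebra.TensorProduct.map (AlgHom.id A S) (AlgHom.id A B) z = z := by
  rw [Algebra.TensorProduct.map_id]; rfl

/-- The value in `S` of a law `B → A` (via `S ⊗ A ≃ S`). -/
noncomputable def val (f : B →ₚₗ[A] A) (S : Type u) [CommSemiring S] [Algebra A S]
    (z : S ⊗[A] B) : S :=
  TensorProduct.rid A S (f.toFun' S z)

theorem toFun'_eq_iff (f : B →ₚₗ[A] A) (S : Type u) [CommSemiring S] [Algebra A S]
    (z z' : S ⊗[A] B) :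
    f.toFun' S z = f.toFun' S z' ↔ val f S z = val f S z' :=
  (TensorProduct.rid A S).injective.eq_iff.symm

theorem rid_rTensor {S S' : Type u} [CommSemiring S] [Algebra A S] [CommSemiring S'] [Algebra A S']
    (φ : S →ₐ[A] S') (y : S ⊗[A] A) :
    TensorProduct.rid A S' (φ.toLinearMap.rTensor A y) = φ (TensorProduct.rid A S y) := by
  induction y using TensorProduct.induction_on with
  | zero => simp
  | tmul s a => simp [TensorProduct.rid_tmul]
  | add y y' h h' => simp [h, h']

theorem val_map (f : B →ₚₗ[A] A) {S S' : Type u} [CommSemiring S] [Algebra A S] [CommSemiring S']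
    [Algebra A S'] (φ : S →ₐ[A] S') (z : S ⊗[A] B) :
    val f S' (Algebra.TensorProduct.map φ (AlgHom.id A B) z) = φ (val f S z) := by
  unfold val
  rw [← rTensor_eq_map, ← PolynomialLaw.isCompat_apply', rid_rTensor]

theorem map_ker_le_kerBC (f : B →ₚₗ[A] A) (A' : Type u) [CommRing A'] [Algebra A A'] :
    (PolLaw.ker f).map (Algebra.TensorProduct.includeRight : B →ₐ[A] A' ⊗[A] B) ≤
      PolLaw.kerBC f A' := by
  rw [Ideal.map_le_iff_le_comap]
  intro b hb
  rw [Ideal.mem_comap]
  intro R _ _ _ _ x w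
  rw [Algebra.TensorProduct.includeRight_apply, Algebra.TensorProduct.map_tmul, map_one,
    AlgHom.id_apply]
  exact hb R x w

theorem exists_rep {n : ℕ} (e : Fin n → B) (he : Submodule.span A (Set.range e) = ⊤)
    (S : Type u) [CommSemiring S] [Algebra A S] (z : S ⊗[A] B) :
    ∃ s : Fin n → S, z = ∑ i, s i ⊗ₜ[A] e i := by
  induction z using TensorProduct.induction_on with
  | zero => exact ⟨0, by simp⟩
  | tmul r b =>
    have hb : b ∈ Submodule.span A (Set.range e) := he ▸ Submodule.mem_top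
    obtain ⟨c, hc⟩ := (Submodule.mem_span_range_iff_exists_fun A).mp hb
    refine ⟨fun i => c i • r, ?_⟩
    rw [← hc, TensorProduct.tmul_sum]
    refine Finset.sum_congr rfl (fun i _ => ?_)
    rw [TensorProduct.tmul_smul, TensorProduct.smul_tmul']
  | add z z' h h' =>
    obtain ⟨s, rfl⟩ := h
    obtain ⟨s', rfl⟩ := h'
    refine ⟨s + s', ?_⟩
    rw [← Finset.sum_add_distrib]
    refine Finset.sum_congr rfl (fun i _ => ?_)
    rw [Pi.add_apply, TensorProduct.add_tmul]

end Basic

section Univ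

variable {A : Type u} [CommRing A] {B : Type u} [CommRing B] [Algebra A B] {n : ℕ} (e : Fin n → B)

/-- the universal argument `x`. -/
noncomputable def xu (A' : Type u) [CommRing A'] [Algebra A A'] :
    MvPolynomial (Fin n ⊕ Fin n) A' ⊗[A] B :=
  ∑ i, (MvPolynomial.X (Sum.inl i) : MvPolynomial (Fin n ⊕ Fin n) A') ⊗ₜ[A] e i

/-- the universal multiplier `w`. -/
noncomputable def wu (A' : Type u) [CommRing A'] [Algebra A A'] :
    MvPolynomial (Fin n ⊕ Fin n) A' ⊗[A] B :=
  ∑ i, (MvPolynomial.X (Sum.inr i) : MvPolynomial (Fin n ⊕ Fin n) A') ⊗ₜ[A] e i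

theorem map_xu {A' : Type u} [CommRing A'] [Algebra A A'] {R : Type u} [CommSemiring R]
    [Algebra A R] (ψ : MvPolynomial (Fin n ⊕ Fin n) A' →ₐ[A] R) :
    Algebra.TensorProduct.map ψ (AlgHom.id A B) (xu e A') =
      ∑ i, ψ (MvPolynomial.X (Sum.inl i)) ⊗ₜ[A] e i := by
  rw [xu, map_sum]
  exact Finset.sum_congr rfl (fun i _ => Algebra.TensorProduct.map_tmul _ _ _ _)

theorem map_wu {A' : Type u} [CommRing A'] [Algebra A A'] {R : Type u} [CommSemiring R]
    [Algebra A R] (ψ : MvPolynomial (Fin n ⊕ Fin n) A' →ₐ[A] R) :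
    Algebra.TensorProduct.map ψ (AlgHom.id A B) (wu e A') =
      ∑ i, ψ (MvPolynomial.X (Sum.inr i)) ⊗ₜ[A] e i := by
  rw [wu, map_sum]
  exact Finset.sum_congr rfl (fun i _ => Algebra.TensorProduct.map_tmul _ _ _ _)

/-- evaluation of the universal algebra, as an `A`-algebra map. -/
noncomputable def evalHom (A' : Type u) [CommRing A'] [Algebra A A'] (R : Type u) [CommSemiring R]
    [Algebra A R] [Algebra A' R] [IsScalarTower A A' R] (t : Fin n ⊕ Fin n → R) :
    MvPolynomial (Fin n ⊕ Fin n) A' →ₐ[A] R :=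
  (MvPolynomial.aeval t : MvPolynomial (Fin n ⊕ Fin n) A' →ₐ[A'] R).restrictScalars A

theorem evalHom_X (A' : Type u) [CommRing A'] [Algebra A A'] (R : Type u) [CommSemiring R]
    [Algebra A R] [Algebra A' R] [IsScalarTower A A' R] (t : Fin n ⊕ Fin n → R) (i : Fin n ⊕ Fin n) :
    evalHom (A := A) A' R t (MvPolynomial.X i) = t i := by
  show MvPolynomial.aeval t (MvPolynomial.X i : MvPolynomial (Fin n ⊕ Fin n) A') = t i
  exact MvPolynomial.aeval_X t i

theorem evalHom_comp (A' : Type u) [CommRing A'] [Algebra A A'] (R : Type u) [CommSemiring R]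
    [Algebra A R] [Algebra A' R] [IsScalarTower A A' R] (t : Fin n ⊕ Fin n → R) :
    (evalHom (A := A) A' R t).comp
      (IsScalarTower.toAlgHom A A' (MvPolynomial (Fin n ⊕ Fin n) A')) =
      IsScalarTower.toAlgHom A A' R := by
  refine AlgHom.ext (fun a => ?_)
  show MvPolynomial.aeval t (algebraMap A' (MvPolynomial (Fin n ⊕ Fin n) A') a) = algebraMap A' R a
  exact AlgHom.commutes _ a

/-- the universal value `F(x + w c)`. -/
noncomputable def P1 (f : B →ₚₗ[A] A) (A' : Type u) [CommRing A'] [Algebra A A'] (c : A' ⊗[A] B) :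
    MvPolynomial (Fin n ⊕ Fin n) A' :=
  val f _ (xu e A' + wu e A' * Algebra.TensorProduct.map
    (IsScalarTower.toAlgHom A A' (MvPolynomial (Fin n ⊕ Fin n) A')) (AlgHom.id A B) c)

/-- the universal value `F(x)`. -/
noncomputable def P0 (f : B →ₚₗ[A] A) (A' : Type u) [CommRing A'] [Algebra A A'] :
    MvPolynomial (Fin n ⊕ Fin n) A' :=
  val f _ (xu e A')

theorem val_eq_eval (f : B →ₚₗ[A] A) (A' : Type u) [CommRing A'] [Algebra A A'] (R : Type u)
    [CommSemiring R] [Algebra A R] [Algebra A' R] [IsScalarTower A A' R] (s s' : Fin n → R)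
    (c : A' ⊗[A] B) :
    val f R ((∑ i, s i ⊗ₜ[A] e i) + (∑ i, s' i ⊗ₜ[A] e i) *
      Algebra.TensorProduct.map (IsScalarTower.toAlgHom A A' R) (AlgHom.id A B) c) =
      evalHom (A := A) A' R (Sum.elim s s') (P1 e f A' c) := by
  unfold P1
  rw [← val_map, map_add, map_mul, map_xu, map_wu, map_map_apply, evalHom_comp]
  simp only [evalHom_X, Sum.elim_inl, Sum.elim_inr]

theorem val_eq_eval0 (f : B →ₚₗ[A] A) (A' : Type u) [CommRing A'] [Algebra A A'] (R : Type u)
    [CommSemiring R] [Algebra A R] [Algebra A' R] [IsScalarTower A A' R] (s s' : Fin n → R) :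
    val f R (∑ i, s i ⊗ₜ[A] e i) = evalHom (A := A) A' R (Sum.elim s s') (P0 e f A') := by
  unfold P0
  rw [← val_map, map_xu]
  simp only [evalHom_X, Sum.elim_inl]

theorem mem_kerBC_iff (he : Submodule.span A (Set.range e) = ⊤) (f : B →ₚₗ[A] A) (A' : Type u)
    [CommRing A'] [Algebra A A'] (c : A' ⊗[A] B) :
    c ∈ PolLaw.kerBC f A' ↔ P1 e f A' c = P0 e f A' := by
  constructor
  · intro hc
    exact (toFun'_eq_iff f _ _ _).mp
      (hc (MvPolynomial (Fin n ⊕ Fin n) A') (xu e A') (wu e A'))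
  · intro h R _ _ _ _ x w
    obtain ⟨s, rfl⟩ := exists_rep e he R x
    obtain ⟨s', rfl⟩ := exists_rep e he R w
    rw [toFun'_eq_iff, val_eq_eval, val_eq_eval0 e f A' R s s', h]

theorem mapAlgHom_comp_toAlgHom {A₁ A₂ : Type u} [CommRing A₁] [Algebra A A₁] [CommRing A₂]
    [Algebra A A₂] (g : A₁ →ₐ[A] A₂) :
    (MvPolynomial.mapAlgHom g : MvPolynomial (Fin n ⊕ Fin n) A₁ →ₐ[A] _).comp
      (IsScalarTower.toAlgHom A A₁ (MvPolynomial (Fin n ⊕ Fin n) A₁)) =
      (IsScalarTower.toAlgHom A A₂ (MvPolynomial (Fin n ⊕ Fin n) A₂)).comp g := by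
  refine AlgHom.ext (fun a => ?_)
  show MvPolynomial.map (g : A₁ →+* A₂) (algebraMap A₁ (MvPolynomial (Fin n ⊕ Fin n) A₁) a) =
    algebraMap A₂ (MvPolynomial (Fin n ⊕ Fin n) A₂) (g a)
  rw [MvPolynomial.algebraMap_eq, MvPolynomial.map_C, MvPolynomial.algebraMap_eq]
  rfl

theorem mapHom_P1 (f : B →ₚₗ[A] A) {A₁ A₂ : Type u} [CommRing A₁] [Algebra A A₁] [CommRing A₂]
    [Algebra A A₂] (g : A₁ →ₐ[A] A₂) (c : A₁ ⊗[A] B) :
    MvPolynomial.mapAlgHom g (P1 e f A₁ c) =
      P1 e f A₂ (Algebra.TensorProduct.map g (AlgHom.id A B) c) := by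
  unfold P1
  rw [← val_map, map_add, map_mul, map_xu, map_wu, map_map_apply, map_map_apply,
    mapAlgHom_comp_toAlgHom]
  simp only [MvPolynomial.mapAlgHom_apply, MvPolynomial.map_X, xu, wu]

theorem mapHom_P0 (f : B →ₚₗ[A] A) {A₁ A₂ : Type u} [CommRing A₁] [Algebra A A₁] [CommRing A₂]
    [Algebra A A₂] (g : A₁ →ₐ[A] A₂) :
    MvPolynomial.mapAlgHom g (P0 e f A₁) = P0 e f A₂ := by
  unfold P0
  rw [← val_map, map_xu]
  simp only [MvPolynomial.mapAlgHom_apply, MvPolynomial.map_X, xu]

end Univ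

section Poly

variable {A : Type u} [CommRing A] {B : Type u} [CommRing B] [Algebra A B]

/-- `Polynomial.toLaurent` as an algebra map over the base ring. -/
noncomputable def toLaurentA (R : Type u) [CommSemiring R] [Algebra A R] :
    Polynomial R →ₐ[A] LaurentPolynomial R :=
  { toRingHom := Polynomial.toLaurent
    commutes' := fun a => by
      show Polynomial.toLaurent (algebraMap A (Polynomial R) a) =
        algebraMap A (LaurentPolynomial R) a
      rw [Polynomial.algebraMap_apply, Polynomial.toLaurent_C, LaurentPolynomial.algebraMap_apply] }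

theorem toLaurentA_injective (R : Type u) [CommSemiring R] [Algebra A R] :
    Function.Injective (toLaurentA (A := A) R) :=
  fun _ _ h => Polynomial.toLaurent_injective h

/-- evaluation of polynomials as an algebra map over the base ring. -/
noncomputable def evA {R : Type u} [CommSemiring R] [Algebra A R] (r : R) : Polynomial R →ₐ[A] R :=
  { toRingHom := Polynomial.eval₂RingHom (RingHom.id R) r
    commutes' := fun a => by
      show Polynomial.eval₂ (RingHom.id R) r (algebraMap A (Polynomial R) a) = algebraMap A R a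
      rw [Polynomial.algebraMap_apply, Polynomial.eval₂_C]; rfl }

theorem evA_apply {R : Type u} [CommSemiring R] [Algebra A R] (r : R) (p : Polynomial R) :
    evA (A := A) r p = Polynomial.eval r p := rfl

theorem evA_comp_C {R : Type u} [CommSemiring R] [Algebra A R] (r : R) :
    (evA (A := A) r).comp (Polynomial.CAlgHom : R →ₐ[A] Polynomial R) = AlgHom.id A R := by
  refine AlgHom.ext (fun s => ?_)
  show Polynomial.eval r (Polynomial.C s) = s
  exact Polynomial.eval_C

theorem evA_comp_aeval_X {R : Type u} [CommSemiring R] [Algebra A R] (r : R) :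
    (evA (A := A) r).comp (Polynomial.aeval (Polynomial.X : Polynomial R) :
      Polynomial A →ₐ[A] Polynomial R) = (Polynomial.aeval r : Polynomial A →ₐ[A] R) := by
  apply Polynomial.algHom_ext
  rw [AlgHom.comp_apply, Polynomial.aeval_X, Polynomial.aeval_X, evA_apply, Polynomial.eval_X]

theorem toLaurentA_comp_aeval_X (R : Type u) [CommSemiring R] [Algebra A R] :
    (toLaurentA (A := A) R).comp (Polynomial.aeval (Polynomial.X : Polynomial R) :
      Polynomial A →ₐ[A] Polynomial R) =
      (Polynomial.aeval (LaurentPolynomial.T 1 : LaurentPolynomial R) :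
        Polynomial A →ₐ[A] LaurentPolynomial R) := by
  apply Polynomial.algHom_ext
  rw [AlgHom.comp_apply, Polynomial.aeval_X, Polynomial.aeval_X]
  exact Polynomial.toLaurent_X

/-- the value of `F` over `S[V]` at `x + V w` specialises to `F(x + r w)`. -/
theorem eval_val_line (f : B →ₚₗ[A] A) (S : Type u) [CommSemiring S] [Algebra A S]
    (x w : S ⊗[A] B) (r : S) :
    Polynomial.eval r (val f (Polynomial S)
      (Algebra.TensorProduct.map (Polynomial.CAlgHom : S →ₐ[A] Polynomial S) (AlgHom.id A B) x +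
        ((Polynomial.X : Polynomial S) ⊗ₜ[A] (1 : B)) *
          Algebra.TensorProduct.map (Polynomial.CAlgHom : S →ₐ[A] Polynomial S) (AlgHom.id A B) w)) =
      val f S (x + (r ⊗ₜ[A] (1 : B)) * w) := by
  rw [← evA_apply (A := A), ← val_map, map_add, map_mul, map_map_apply, map_map_apply, evA_comp_C,
    map_id_apply, map_id_apply, Algebra.TensorProduct.map_tmul, evA_apply, Polynomial.eval_X,
    AlgHom.id_apply]

theorem kerBC_poly_apply {f : B →ₚₗ[A] A} {b' : Polynomial A ⊗[A] B}
    (hb' : b' ∈ PolLaw.kerBC f (Polynomial A)) (R : Type u) [CommSemiring R] [Algebra A R] (r : R)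
    (x w : R ⊗[A] B) :
    f.toFun' R (x + w * Algebra.TensorProduct.map (Polynomial.aeval r : Polynomial A →ₐ[A] R)
      (AlgHom.id A B) b') = f.toFun' R x := by
  let alg : Algebra (Polynomial A) R :=
    (Polynomial.aeval r : Polynomial A →ₐ[A] R).toRingHom.toAlgebra
  have tow : IsScalarTower A (Polynomial A) R := IsScalarTower.of_algebraMap_eq (fun a => by
    show algebraMap A R a = Polynomial.aeval r (algebraMap A (Polynomial A) a)
    rw [AlgHom.commutes])
  have h := hb' R x w
  have e1 : IsScalarTower.toAlgHom A (Polynomial A) R =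
      (Polynomial.aeval r : Polynomial A →ₐ[A] R) := AlgHom.ext (fun p => rfl)
  rw [e1] at h
  exact h

theorem mem_kerBC_poly_of {f : B →ₚₗ[A] A} {b' : Polynomial A ⊗[A] B}
    (h : ∀ (R : Type u) [CommSemiring R] [Algebra A R] (r : R) (x w : R ⊗[A] B),
      f.toFun' R (x + w * Algebra.TensorProduct.map (Polynomial.aeval r : Polynomial A →ₐ[A] R)
        (AlgHom.id A B) b') = f.toFun' R x) :
    b' ∈ PolLaw.kerBC f (Polynomial A) := by
  intro R _ _ _ _ x w
  have e1 : IsScalarTower.toAlgHom A (Polynomial A) R =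
      (Polynomial.aeval (algebraMap (Polynomial A) R Polynomial.X) : Polynomial A →ₐ[A] R) := by
    apply Polynomial.algHom_ext
    simp
  rw [e1]
  exact h R _ x w

theorem kerBC_poly_of_X_mul {f : B →ₚₗ[A] A} {b'' : Polynomial A ⊗[A] B}
    (h : ((Polynomial.X : Polynomial A) ⊗ₜ[A] (1 : B)) * b'' ∈ PolLaw.kerBC f (Polynomial A)) :
    b'' ∈ PolLaw.kerBC f (Polynomial A) := by
  apply mem_kerBC_poly_of
  intro R _ _ r x w
  rw [toFun'_eq_iff]
  obtain ⟨x₁, hx₁⟩ : ∃ x₁ : Polynomial R ⊗[A] B, x₁ = Algebra.TensorProduct.map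
      (Polynomial.CAlgHom : R →ₐ[A] Polynomial R) (AlgHom.id A B) x := ⟨_, rfl⟩
  obtain ⟨w₁, hw₁⟩ : ∃ w₁ : Polynomial R ⊗[A] B, w₁ = Algebra.TensorProduct.map
      (Polynomial.CAlgHom : R →ₐ[A] Polynomial R) (AlgHom.id A B) w := ⟨_, rfl⟩
  obtain ⟨c, hc⟩ : ∃ c : Polynomial R ⊗[A] B, c = Algebra.TensorProduct.map
      (Polynomial.aeval (Polynomial.X : Polynomial R) : Polynomial A →ₐ[A] Polynomial R)
      (AlgHom.id A B) b'' := ⟨_, rfl⟩
  have ex : Algebra.TensorProduct.map (evA (A := A) r) (AlgHom.id A B) x₁ = x := by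
    rw [hx₁, map_map_apply, evA_comp_C, map_id_apply]
  have ew : Algebra.TensorProduct.map (evA (A := A) r) (AlgHom.id A B) w₁ = w := by
    rw [hw₁, map_map_apply, evA_comp_C, map_id_apply]
  have ec : Algebra.TensorProduct.map (evA (A := A) r) (AlgHom.id A B) c =
      Algebra.TensorProduct.map (Polynomial.aeval r : Polynomial A →ₐ[A] R) (AlgHom.id A B) b'' := by
    rw [hc, map_map_apply, evA_comp_aeval_X]
  have hL := kerBC_poly_apply h (LaurentPolynomial R) (LaurentPolynomial.T 1)
    (Algebra.TensorProduct.map (toLaurentA (A := A) R) (AlgHom.id A B) x₁)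
    (((LaurentPolynomial.T (-1) : LaurentPolynomial R) ⊗ₜ[A] (1 : B)) *
      Algebra.TensorProduct.map (toLaurentA (A := A) R) (AlgHom.id A B) w₁)
  have e2 : Algebra.TensorProduct.map (Polynomial.aeval (LaurentPolynomial.T 1 : LaurentPolynomial R) :
        Polynomial A →ₐ[A] LaurentPolynomial R) (AlgHom.id A B)
        (((Polynomial.X : Polynomial A) ⊗ₜ[A] (1 : B)) * b'') =
      ((LaurentPolynomial.T 1 : LaurentPolynomial R) ⊗ₜ[A] (1 : B)) *
        Algebra.TensorProduct.map (toLaurentA (A := A) R) (AlgHom.id A B) c := by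
    rw [map_mul, Algebra.TensorProduct.map_tmul, Polynomial.aeval_X, map_one, hc, map_map_apply,
      toLaurentA_comp_aeval_X]
  have e3 : ((LaurentPolynomial.T (-1) : LaurentPolynomial R) ⊗ₜ[A] (1 : B)) *
      ((LaurentPolynomial.T 1 : LaurentPolynomial R) ⊗ₜ[A] (1 : B)) = 1 := by
    have h0 : (-1 : ℤ) + 1 = 0 := by norm_num
    rw [Algebra.TensorProduct.tmul_mul_tmul, ← LaurentPolynomial.T_add, mul_one, h0,
      LaurentPolynomial.T_zero, Algebra.TensorProduct.one_def]
  have e4 : ((LaurentPolynomial.T (-1) : LaurentPolynomial R) ⊗ₜ[A] (1 : B)) *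
      Algebra.TensorProduct.map (toLaurentA (A := A) R) (AlgHom.id A B) w₁ *
      (((LaurentPolynomial.T 1 : LaurentPolynomial R) ⊗ₜ[A] (1 : B)) *
        Algebra.TensorProduct.map (toLaurentA (A := A) R) (AlgHom.id A B) c) =
      Algebra.TensorProduct.map (toLaurentA (A := A) R) (AlgHom.id A B) (w₁ * c) := by
    rw [map_mul]
    calc _ = (((LaurentPolynomial.T (-1) : LaurentPolynomial R) ⊗ₜ[A] (1 : B)) *
          ((LaurentPolynomial.T 1 : LaurentPolynomial R) ⊗ₜ[A] (1 : B))) *
          (Algebra.TensorProduct.map (toLaurentA (A := A) R) (AlgHom.id A B) w₁ *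
            Algebra.TensorProduct.map (toLaurentA (A := A) R) (AlgHom.id A B) c) := by ring
      _ = _ := by rw [e3, one_mul]
  rw [e2, e4, ← map_add, toFun'_eq_iff, val_map, val_map] at hL
  have h4 := toLaurentA_injective (A := A) R hL
  have h5 := congrArg (evA (A := A) r) h4
  rw [← val_map, ← val_map, map_add, map_mul, ex, ew, ec] at h5
  exact h5

theorem const_mem_ker {f : B →ₚₗ[A] A} {b0 : B} {b'' : Polynomial A ⊗[A] B}
    (h : (1 : Polynomial A) ⊗ₜ[A] b0 + ((Polynomial.X : Polynomial A) ⊗ₜ[A] (1 : B)) * b'' ∈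
      PolLaw.kerBC f (Polynomial A)) : b0 ∈ PolLaw.ker f := by
  intro S _ _ x w
  have h1 := kerBC_poly_apply h S (0 : S) x w
  simp only [map_add, map_mul, Algebra.TensorProduct.map_tmul, Polynomial.aeval_X, map_one,
    AlgHom.id_apply, TensorProduct.zero_tmul, zero_mul, add_zero] at h1
  exact h1

end Poly

end Groth.Agent.H76.PolLawBC
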