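import Mathlib
import Groth.Prelude.Def_PolLaw
import Groth.Agent.H76.PolLawBC

/-!
# Helper library (helper76): kernels of polynomial laws, part 2

* `map_mem_kerBC`: `kerBC` is functorial in the base-change algebra.
* `mem_ker_of_one_tmul_mem_kerBC`: descent of kernel membership along a module-split ring map.
* `exists_rep_left`, `exists_split` (splitting tower of a monic separable polynomial).
-/

set_option autoImplicit false
universe u
open scoped TensorProduct

namespace Groth.Agent.H76.PolLawBC

section More

variable {A : Type u} [CommRing A] {B : Type u} [CommRing B] [Algebra A B]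

theorem map_mem_kerBC (f : B →ₚₗ[A] A) {A' R : Type u} [CommRing A'] [Algebra A A'] [CommRing R]
    [Algebra A R] (e : A' →ₐ[A] R) {c : A' ⊗[A] B} (hc : c ∈ PolLaw.kerBC f A') :
    Algebra.TensorProduct.map e (AlgHom.id A B) c ∈ PolLaw.kerBC f R := by
  intro R' _ _ _ _ x w
  let _ : Algebra A' R' := ((algebraMap R R').comp (e : A' →+* R)).toAlgebra
  have : IsScalarTower A A' R' := IsScalarTower.of_algebraMap_eq (fun a => by
    show algebraMap A R' a = algebraMap R R' (e (algebraMap A A' a))
    rw [AlgHom.commutes, ← IsScalarTower.algebraMap_apply])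
  have h := hc R' x w
  have e1 : (IsScalarTower.toAlgHom A R R').comp e = IsScalarTower.toAlgHom A A' R' :=
    AlgHom.ext (fun a => rfl)
  rw [map_map_apply, e1]
  exact h

theorem mem_ker_of_one_tmul_mem_kerBC (f : B →ₚₗ[A] A) {R : Type u} [CommRing R] [Algebra A R]
    (ρ : R →ₗ[A] A) (hρ : ρ 1 = 1) {b : B} (hb : (1 : R) ⊗ₜ[A] b ∈ PolLaw.kerBC f R) :
    b ∈ PolLaw.ker f := by
  intro S _ _ x w
  rw [toFun'_eq_iff]
  have h := hb (R ⊗[A] S)
    (Algebra.TensorProduct.map (Algebra.TensorProduct.includeRight : S →ₐ[A] R ⊗[A] S)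
      (AlgHom.id A B) x)
    (Algebra.TensorProduct.map (Algebra.TensorProduct.includeRight : S →ₐ[A] R ⊗[A] S)
      (AlgHom.id A B) w)
  rw [Algebra.TensorProduct.map_tmul, map_one, AlgHom.id_apply] at h
  have h1 : ((1 : R ⊗[A] S) ⊗ₜ[A] b) = Algebra.TensorProduct.map
      (Algebra.TensorProduct.includeRight : S →ₐ[A] R ⊗[A] S) (AlgHom.id A B)
      ((1 : S) ⊗ₜ[A] b) := by
    rw [Algebra.TensorProduct.map_tmul, map_one, AlgHom.id_apply]
  rw [h1, ← map_mul, ← map_add, toFun'_eq_iff, val_map, val_map] at h
  have hinj : Function.Injective (Algebra.TensorProduct.includeRight : S →ₐ[A] R ⊗[A] S) := by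
    have hleft : Function.LeftInverse
        (fun z : R ⊗[A] S => TensorProduct.lid A S (ρ.rTensor S z))
        (Algebra.TensorProduct.includeRight : S →ₐ[A] R ⊗[A] S) := by
      intro s
      simp [hρ]
    exact hleft.injective
  exact hinj h

theorem exists_rep_left {A' : Type u} [CommRing A'] [Algebra A A'] {n : ℕ} (e : Fin n → A')
    (he : Submodule.span A (Set.range e) = ⊤) (z : A' ⊗[A] B) :
    ∃ β : Fin n → B, z = ∑ i, e i ⊗ₜ[A] β i := by
  induction z using TensorProduct.induction_on with
  | zero => exact ⟨0, by simp⟩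
  | tmul a b =>
    have ha : a ∈ Submodule.span A (Set.range e) := he ▸ Submodule.mem_top
    obtain ⟨c, hc⟩ := (Submodule.mem_span_range_iff_exists_fun A).mp ha
    refine ⟨fun i => c i • b, ?_⟩
    rw [← hc, TensorProduct.sum_tmul]
    refine Finset.sum_congr rfl (fun i _ => ?_)
    rw [TensorProduct.smul_tmul]
  | add z z' h h' =>
    obtain ⟨s, rfl⟩ := h
    obtain ⟨s', rfl⟩ := h'
    refine ⟨s + s', ?_⟩
    rw [← Finset.sum_add_distrib]
    refine Finset.sum_congr rfl (fun i _ => ?_)
    rw [Pi.add_apply, TensorProduct.tmul_add]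

end More

section Split

/-- A splitting tower for a monic separable polynomial: a ring `R`, module-split over `A`, in which `g` has
`deg g` roots with pairwise invertible differences. -/
theorem exists_split (N : ℕ) : ∀ (A : Type u) [CommRing A] (g : Polynomial A), g.Monic → g.Separable →
    g.natDegree = N →
    ∃ (R : Type u) (_ : CommRing R) (_ : Algebra A R) (ρ : R →ₗ[A] A) (r : Fin N → R),
      ρ 1 = 1 ∧ (∀ j, Polynomial.aeval (r j) g = 0) ∧ (∀ i j, i ≠ j → IsUnit (r i - r j)) := by
  induction N with
  | zero =>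
    intro A _ g _ _ _
    exact ⟨A, inferInstance, inferInstance, LinearMap.id, fun j => j.elim0, rfl,
      fun j => j.elim0, fun i => i.elim0⟩
  | succ N ih =>
    intro A _ g hg hsep hdeg
    haveI : Nontrivial A := by
      by_contra hA
      rw [not_nontrivial_iff_subsingleton] at hA
      have : g = 0 := Subsingleton.elim _ _
      rw [this, Polynomial.natDegree_zero] at hdeg
      omega
    have hdim : (AdjoinRoot.powerBasis' hg).dim = N + 1 := hdeg
    obtain ⟨ρ₀, hρ₀⟩ : ∃ ρ₀ : AdjoinRoot g →ₗ[A] A, ρ₀ 1 = 1 := by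
      refine ⟨(AdjoinRoot.powerBasis' hg).basis.coord ⟨0, by omega⟩, ?_⟩
      have h1 : (AdjoinRoot.powerBasis' hg).basis ⟨0, by omega⟩ = 1 := by
        rw [PowerBasis.basis_eq_pow]
        exact pow_zero _
      show ((AdjoinRoot.powerBasis' hg).basis.repr 1) ⟨0, by omega⟩ = 1
      rw [← h1, Module.Basis.repr_self, Finsupp.single_eq_same]
    haveI : Nontrivial (AdjoinRoot g) := by
      refine ⟨⟨1, 0, fun h => ?_⟩⟩
      have h2 := hρ₀
      rw [h, map_zero] at h2
      exact zero_ne_one h2
    -- factor off the tautological root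
    have hroot : Polynomial.IsRoot (g.map (AdjoinRoot.of g)) (AdjoinRoot.root g) :=
      AdjoinRoot.isRoot_root g
    obtain ⟨h, hh⟩ : ∃ h : Polynomial (AdjoinRoot g),
        h = (g.map (AdjoinRoot.of g)) /ₘ (Polynomial.X - Polynomial.C (AdjoinRoot.root g)) := ⟨_, rfl⟩
    have hfac : (Polynomial.X - Polynomial.C (AdjoinRoot.root g)) * h = g.map (AdjoinRoot.of g) := by
      rw [hh]
      exact Polynomial.mul_divByMonic_eq_iff_isRoot.mpr hroot
    have hg₁ : (g.map (AdjoinRoot.of g)).Monic := hg.map _
    have hhm : h.Monic :=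
      Polynomial.Monic.of_mul_monic_left (Polynomial.monic_X_sub_C _) (hfac ▸ hg₁)
    have hhdeg : h.natDegree = N := by
      rw [hh, Polynomial.natDegree_divByMonic _ (Polynomial.monic_X_sub_C _),
        Polynomial.natDegree_X_sub_C, hg.natDegree_map, hdeg]
      omega
    have hhsep : h.Separable := by
      have := hsep.map (f := AdjoinRoot.of g)
      rw [← hfac] at this
      exact this.of_mul_right
    -- the value of `h` at the root is a unit
    have hunit : IsUnit (h.eval (AdjoinRoot.root g)) := by
      obtain ⟨a, b, hab⟩ := (Polynomial.separable_def' _).mp (hsep.map (f := AdjoinRoot.of g))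
      have hd : Polynomial.eval (AdjoinRoot.root g) (Polynomial.derivative (g.map (AdjoinRoot.of g))) =
          h.eval (AdjoinRoot.root g) := by
        rw [← hfac, Polynomial.derivative_mul]
        simp
      have h3 := congrArg (Polynomial.eval (AdjoinRoot.root g)) hab
      rw [Polynomial.eval_add, Polynomial.eval_mul, Polynomial.eval_mul, hroot, mul_zero, zero_add,
        hd, Polynomial.eval_one] at h3
      exact IsUnit.of_mul_eq_one_right _ h3
    obtain ⟨R, _, _, ρ₁, r', hρ₁, hr', hu'⟩ := ih (AdjoinRoot g) h hhm hhsep hhdeg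
    letI : Algebra A R := ((algebraMap (AdjoinRoot g) R).comp (algebraMap A (AdjoinRoot g))).toAlgebra
    haveI : IsScalarTower A (AdjoinRoot g) R := IsScalarTower.of_algebraMap_eq (fun _ => rfl)
    refine ⟨R, inferInstance, inferInstance, ρ₀.comp (ρ₁.restrictScalars A),
      Fin.cons (algebraMap (AdjoinRoot g) R (AdjoinRoot.root g)) r', ?_, ?_, ?_⟩
    · show ρ₀ (ρ₁ 1) = 1
      rw [hρ₁, hρ₀]
    · intro j
      refine Fin.cases ?_ (fun k => ?_) j
      · rw [Fin.cons_zero, Polynomial.aeval_algebraMap_apply, AdjoinRoot.aeval_eq, AdjoinRoot.mk_self,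
          map_zero]
      · rw [Fin.cons_succ, ← Polynomial.aeval_map_algebraMap (AdjoinRoot g), AdjoinRoot.algebraMap_eq,
          ← hfac, map_mul, hr' k, mul_zero]
    · -- units
      have key : ∀ k : Fin N,
          IsUnit (algebraMap (AdjoinRoot g) R (AdjoinRoot.root g) - r' k) := by
        intro k
        have hdvd := Polynomial.sub_dvd_eval_sub (algebraMap (AdjoinRoot g) R (AdjoinRoot.root g))
          (r' k) (h.map (algebraMap (AdjoinRoot g) R))
        rw [Polynomial.eval_map_algebraMap, Polynomial.eval_map_algebraMap, hr' k, sub_zero,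
          Polynomial.aeval_algebraMap_apply, Polynomial.coe_aeval_eq_eval] at hdvd
        exact isUnit_of_dvd_unit hdvd (hunit.map _)
      intro i j
      refine Fin.cases ?_ (fun k => ?_) i <;> refine Fin.cases ?_ (fun l => ?_) j
      · intro h
        exact absurd rfl h
      · intro _
        rw [Fin.cons_zero, Fin.cons_succ]
        exact key l
      · intro _
        rw [Fin.cons_zero, Fin.cons_succ]
        have := (key k).neg
        rwa [neg_sub] at this
      · intro h
        rw [Fin.cons_succ, Fin.cons_succ]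
        exact hu' k l (fun e => h (by rw [e]))

end Split

end Groth.Agent.H76.PolLawBC
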