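import Mathlib

/-!
# Hensel by hand for Artin–Schreier polynomials over `K⟦X⟧` (char `p`)

If `a ∈ X·K⟦X⟧` then `y = ∑_{j ≥ 0} a^(p^j)` solves `y^p - y + a = 0`.
-/

set_option autoImplicit false
universe u
namespace Groth.Agent.H76.ASHensel

theorem exists_root_artinSchreier (p : ℕ) [Fact p.Prime] (K : Type u) [Field K] [CharP K p]
    (a : PowerSeries K) (ha : PowerSeries.constantCoeff a = 0) :
    ∃ y : PowerSeries K, y ^ p - y + a = 0 := by
  classical
  have hp : p.Prime := Fact.out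
  haveI : CharP (PowerSeries K) p :=
    charP_of_injective_ringHom (PowerSeries.C_injective (R := K)) p
  obtain ⟨a1, ha1⟩ := PowerSeries.X_dvd_iff.mpr ha
  have hcoef : ∀ (m n : ℕ), n < m → PowerSeries.coeff n (a ^ m) = 0 := by
    intro m n hnm
    rw [ha1, mul_pow]
    exact (PowerSeries.X_pow_dvd_iff.mp (Dvd.intro _ rfl)) n hnm
  obtain ⟨yN, hyN⟩ : ∃ yN : ℕ → PowerSeries K,
      ∀ N, yN N = ∑ j ∈ Finset.range N, a ^ (p ^ j) := ⟨_, fun _ => rfl⟩
  have hsucc : ∀ N, yN (N + 1) = yN N + a ^ (p ^ N) := by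
    intro N; rw [hyN, hyN, Finset.sum_range_succ]
  obtain ⟨y, hy⟩ : ∃ y : PowerSeries K,
      ∀ n, PowerSeries.coeff n y = PowerSeries.coeff n (yN (n + 1)) :=
    ⟨PowerSeries.mk _, fun n => PowerSeries.coeff_mk _ _⟩
  have hstab : ∀ n N, n + 1 ≤ N →
      PowerSeries.coeff n (yN N) = PowerSeries.coeff n (yN (n + 1)) := by
    intro n N hN
    induction N, hN using Nat.le_induction with
    | base => rfl
    | succ N hN ih =>
      rw [hsucc, map_add, ih, hcoef (p ^ N) n
        (lt_trans (Nat.lt_of_succ_le hN) (Nat.lt_pow_self hp.one_lt)), add_zero]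
  have hdvd : ∀ N, (PowerSeries.X : PowerSeries K) ^ N ∣ y - yN N := by
    intro N
    rw [PowerSeries.X_pow_dvd_iff]
    intro n hn
    rw [map_sub, hy, hstab n N hn, sub_self]
  have hyN_eq : ∀ N, (yN N) ^ p - yN N + a = a ^ (p ^ N) := by
    intro N
    induction N with
    | zero =>
      rw [hyN, Finset.range_zero, Finset.sum_empty, zero_pow hp.ne_zero, sub_zero, zero_add,
        pow_zero, pow_one]
    | succ N ih =>
      rw [hsucc, add_pow_char, pow_succ p N, pow_mul]
      linear_combination ih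
  refine ⟨y, ?_⟩
  have hall : ∀ N, (PowerSeries.X : PowerSeries K) ^ N ∣ y ^ p - y + a := by
    intro N
    have h1 : y ^ p - y + a = (y - yN N) ^ p - (y - yN N) + a ^ (p ^ N) := by
      rw [sub_pow_char, ← hyN_eq N]; ring
    rw [h1]
    refine dvd_add (dvd_sub ((hdvd N).trans (dvd_pow_self _ hp.ne_zero)) (hdvd N)) ?_
    rw [ha1, mul_pow]
    exact (pow_dvd_pow _ (Nat.lt_pow_self hp.one_lt).le).trans (Dvd.intro _ rfl)
  ext n
  rw [map_zero]
  exact (PowerSeries.X_pow_dvd_iff.mp (hall (n + 1))) n (Nat.lt_succ_self n)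

end Groth.Agent.H76.ASHensel
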