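import Groth.Agent.H29.CM2
import Groth.Agent.H9.RegSpreadLen
import Groth.Agent.H24.CatenaryOrder

/-!
# Generators of an ideal of maximal height in a Cohen–Macaulay localization spread out to a
regular sequence on a basic open
-/

set_option autoImplicit false
universe u

open RingTheory.Sequence IsLocalRing

namespace Groth.Agent.H76.CMRegSpread

/-- `ht I + dim A/I ≤ dim A` for an arbitrary ideal. -/
theorem height_add_ringKrullDim_quotient_le {A : Type*} [CommRing A] (I : Ideal A) :
    (I.height : WithBot ℕ∞) + ringKrullDim (A ⧸ I) ≤ ringKrullDim A := by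
  rw [ringKrullDim_quotient]
  by_cases hne : Nonempty (PrimeSpectrum.zeroLocus (R := A) (I : Set A))
  · haveI := hne
    obtain ⟨P0⟩ := hne
    haveI : Nonempty (PrimeSpectrum A) := ⟨P0.1⟩
    rw [Order.krullDim_eq_iSup_coheight_of_nonempty, ← WithBot.coe_add, ENat.add_iSup,
      ringKrullDim, Order.krullDim_eq_iSup_height_add_coheight_of_nonempty, WithBot.coe_le_coe]
    refine iSup_le fun P => ?_
    refine le_trans ?_ (le_iSup (fun a : PrimeSpectrum A => Order.height a + Order.coheight a) P.1)
    have h1 : I.height ≤ Order.height P.1 := by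
      rw [← PrimeSpectrum.height_eq_orderHeight]
      exact Ideal.height_mono (SetLike.coe_subset_coe.mp ((PrimeSpectrum.mem_zeroLocus _ _).mp P.2))
    have h2 : Order.coheight P ≤ Order.coheight P.1 :=
      Order.coheight_le_coheight_apply_of_strictMono Subtype.val (fun _ _ h => h) P
    exact add_le_add h1 h2
  · rw [not_nonempty_iff] at hne
    rw [Order.krullDim_eq_bot, WithBot.add_bot]
    exact bot_le

theorem ofList_ofFn {S : Type*} [CommRing S] {c : ℕ} (t : Fin c → S) :
    Ideal.ofList (List.ofFn t) = Ideal.span (Set.range t) := by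
  unfold Ideal.ofList
  congr 1
  ext r
  simp [List.mem_ofFn]

/-- In a Cohen–Macaulay local ring, `c` elements of the maximal ideal generating an ideal of height
at least `c` form a (weakly) regular sequence. -/
theorem isWeaklyRegular_of_height_ge {A : Type u} [CommRing A] [hA : LocCoh.IsCohenMacaulayLocalRing A]
    (c : ℕ) (t : Fin c → A) (ht : ∀ k, t k ∈ maximalIdeal A)
    (hht : (c : ℕ∞) ≤ (Ideal.span (Set.range t)).height) :
    IsWeaklyRegular A (List.ofFn t) := by
  have hCM : LocCoh.IsCohenMacaulayModule A A := hA.supportDim_eq_depth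
  have hmem : ∀ x ∈ List.ofFn t, x ∈ maximalIdeal A := by
    intro x hx
    rw [List.mem_ofFn] at hx
    obtain ⟨j, rfl⟩ := hx
    exact ht j
  have hofl := ofList_ofFn t
  have hI : Ideal.ofList (List.ofFn t) • (⊤ : Submodule A A) = Ideal.ofList (List.ofFn t) := by
    rw [smul_eq_mul, Ideal.mul_top]
  have hdim : ringKrullDim (A ⧸ Ideal.ofList (List.ofFn t)) +
      ((List.ofFn t).length : WithBot ℕ∞) ≤ ringKrullDim A := by
    have h3 := height_add_ringKrullDim_quotient_le (Ideal.ofList (List.ofFn t))
    have hc : (((List.ofFn t).length : ℕ) : WithBot ℕ∞) ≤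
        ((Ideal.ofList (List.ofFn t)).height : WithBot ℕ∞) := by
      rw [List.length_ofFn, hofl]
      exact_mod_cast hht
    exact (add_le_add le_rfl hc).trans ((add_comm _ _).le.trans h3)
  obtain ⟨hiff, _⟩ := Groth.Agent.H29.CM.isWeaklyRegular_iff_of_isCM (List.ofFn t) A hCM hmem
  have hlow :=
    Groth.Agent.H29.CM.supportDim_le_supportDim_quotient_ofList_add_length (List.ofFn t) A hmem
  have heq : Module.supportDim A (A ⧸ (Ideal.ofList (List.ofFn t) • (⊤ : Submodule A A))) +
      ((List.ofFn t).length : WithBot ℕ∞) = Module.supportDim A A := by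
    refine le_antisymm ?_ hlow
    rw [hI, Module.supportDim_quotient_eq_ringKrullDim, Module.supportDim_self_eq_ringKrullDim]
    exact hdim
  exact hiff.2 heq

/-- Spreading out: `R` Noetherian, `A = R_p` Cohen–Macaulay, `g_1, …, g_c ∈ p` generating in `A` an
ideal of height `≥ c`. Then on some basic open `D(h) ∋ p` the ideal `(g)` is generated by a weakly
regular sequence of length `c`. -/
theorem exists_away_weaklyRegular {R : Type u} [CommRing R] [IsNoetherianRing R] (p : Ideal R)
    [p.IsPrime] (A : Type u) [CommRing A] [Algebra R A] [IsLocalization.AtPrime A p]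
    [LocCoh.IsCohenMacaulayLocalRing A] (c : ℕ) (g : Fin c → R) (hg : ∀ k, g k ∈ p)
    (hht : (c : ℕ∞) ≤ ((Ideal.span (Set.range g)).map (algebraMap R A)).height) :
    ∃ h : R, h ∉ p ∧ ∀ (S : Type u) [CommRing S] [Algebra R S] [IsLocalization.Away h S],
      ∃ f : Fin c → S, (Ideal.span (Set.range g)).map (algebraMap R S) = Ideal.span (Set.range f) ∧
        IsWeaklyRegular S (List.ofFn f) := by
  have hmap : (Ideal.span (Set.range g)).map (algebraMap R A) =
      Ideal.span (Set.range fun k => algebraMap R A (g k)) := by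
    rw [Ideal.map_span, ← Set.range_comp]
    rfl
  have hreg : IsWeaklyRegular A (List.ofFn fun k => algebraMap R A (g k)) := by
    apply isWeaklyRegular_of_height_ge c
    · intro k
      exact (IsLocalization.AtPrime.to_map_mem_maximal_iff A p (g k)).mpr (hg k)
    · rw [← hmap]
      exact hht
  have hI : (Ideal.span (Set.range g)).map (algebraMap R A) =
      Ideal.ofList (List.ofFn fun k => algebraMap R A (g k)) := by
    rw [ofList_ofFn, hmap]
  obtain ⟨s, hs, hS⟩ := Groth.Agent.H9.exists_away_isWeaklyRegular_length.{u, u} p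
    (Ideal.span (Set.range g)) _ hreg hI
  refine ⟨s, hs, fun S _ _ _ => ?_⟩
  obtain ⟨rs', hreg', hI', hlen⟩ := hS S
  rw [List.length_ofFn] at hlen
  have hof : List.ofFn (fun k : Fin c => rs'.get (Fin.cast hlen.symm k)) = rs' := by
    apply List.ext_getElem
    · rw [List.length_ofFn, hlen]
    · intro i h1 h2
      simp
  refine ⟨fun k : Fin c => rs'.get (Fin.cast hlen.symm k), ?_, ?_⟩
  · rw [hI', ← ofList_ofFn, hof]
  · rw [hof]
    exact hreg'

end Groth.Agent.H76.CMRegSpread
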