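import Mathlib.RingTheory.Spectrum.Prime.FreeLocus
import Mathlib.RingTheory.LocalRing.Module
import Mathlib.LinearAlgebra.TensorProduct.RightExactness
import Mathlib.RingTheory.Flat.Localization
import Mathlib.Algebra.Module.FinitePresentation

/-!
# Projectivity of a cokernel and the residue-field kernel condition

For a linear map `d : M → N` with `M` finite and `N` finite projective, a prime `p` lies in the
free locus of `Coker d` iff `κ(p) ⊗ Ker d → Ker (κ(p) ⊗ d)` is surjective.
-/

set_option autoImplicit false
universe u v w

namespace Groth.Agent.H76

open TensorProduct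

section general

variable {R : Type u} [CommRing R] {M : Type v} {N : Type w}
  [AddCommGroup M] [Module R M] [AddCommGroup N] [Module R N]

lemma exact_ker_subtype_rangeRestrict (d : M →ₗ[R] N) :
    Function.Exact (LinearMap.ker d).subtype d.rangeRestrict := by
  intro x
  constructor
  · intro h
    refine ⟨⟨x, ?_⟩, rfl⟩
    have := congrArg Subtype.val h
    simpa using this
  · rintro ⟨⟨y, hy⟩, rfl⟩
    exact Subtype.ext hy

/-- The kernel condition is equivalent to injectivity of the base change of `range d ↪ N`. -/
lemma ker_baseChange_le_iff_injective (T : Type*) [CommRing T] [Algebra R T] (d : M →ₗ[R] N) :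
    LinearMap.ker (d.baseChange T) ≤ LinearMap.range ((LinearMap.ker d).subtype.baseChange T) ↔
      Function.Injective ((LinearMap.range d).subtype.baseChange T) := by
  have hcomp : ∀ y, d.baseChange T y =
      (LinearMap.range d).subtype.baseChange T (d.rangeRestrict.baseChange T y) := by
    intro y
    have h1 : (LinearMap.range d).subtype ∘ₗ d.rangeRestrict = d := LinearMap.ext fun v => rfl
    have h2 : d.baseChange T = (LinearMap.range d).subtype.baseChange T ∘ₗ
        d.rangeRestrict.baseChange T := by
      rw [← LinearMap.baseChange_comp, h1]
    rw [h2]; rfl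
  have hsurj : Function.Surjective (d.rangeRestrict.baseChange T) := by
    rw [LinearMap.baseChange_eq_ltensor]
    exact LinearMap.lTensor_surjective T d.surjective_rangeRestrict
  have hexact : Function.Exact ((LinearMap.ker d).subtype.baseChange T)
      (d.rangeRestrict.baseChange T) := by
    rw [LinearMap.baseChange_eq_ltensor, LinearMap.baseChange_eq_ltensor]
    exact lTensor_exact T (exact_ker_subtype_rangeRestrict d) d.surjective_rangeRestrict
  constructor
  · intro hcond
    rw [injective_iff_map_eq_zero]
    intro z hz
    obtain ⟨y, rfl⟩ := hsurj z
    have hy : y ∈ LinearMap.ker (d.baseChange T) := by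
      rw [LinearMap.mem_ker, hcomp, hz]
    obtain ⟨w, rfl⟩ := hcond hy
    exact hexact.apply_apply_eq_zero w
  · intro hinj y hy
    rw [LinearMap.mem_ker, hcomp] at hy
    have h0 : d.rangeRestrict.baseChange T y = 0 := by
      apply hinj
      rw [hy, map_zero]
    exact (hexact y).mp h0

lemma injective_baseChange_baseChange_iff (A B : Type*) [CommRing A] [Algebra R A]
    [CommRing B] [Algebra R B] [Algebra A B] [IsScalarTower R A B] (f : M →ₗ[R] N) :
    Function.Injective ((f.baseChange A).baseChange B) ↔ Function.Injective (f.baseChange B) := by
  have h := LinearMap.baseChange_baseChange (R := R) (A := A) (B := B) f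
  have h' : ∀ x, ((f.baseChange A).baseChange B) x =
      (AlgebraTensorModule.cancelBaseChange R A B B N).symm
        ((f.baseChange B) (AlgebraTensorModule.cancelBaseChange R A B B M x)) := by
    intro x
    rw [h]; rfl
  constructor
  · intro hinj y y' hyy'
    have h1 := hinj (a₁ := (AlgebraTensorModule.cancelBaseChange R A B B M).symm y)
      (a₂ := (AlgebraTensorModule.cancelBaseChange R A B B M).symm y')
      (by rw [h', h', LinearEquiv.apply_symm_apply, LinearEquiv.apply_symm_apply, hyy'])
    exact (AlgebraTensorModule.cancelBaseChange R A B B M).symm.injective h1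
  · intro hinj x x' hxx'
    rw [h', h'] at hxx'
    exact (AlgebraTensorModule.cancelBaseChange R A B B M).injective
      (hinj ((AlgebraTensorModule.cancelBaseChange R A B B N).symm.injective hxx'))

lemma finitePresentation_coker [Module.Finite R M] [Module.Finite R N] [Module.Projective R N]
    (d : M →ₗ[R] N) : Module.FinitePresentation R (N ⧸ LinearMap.range d) := by
  have : Module.FinitePresentation R N := Module.finitePresentation_of_projective R N
  refine Module.finitePresentation_of_surjective (LinearMap.range d).mkQ
    (Submodule.mkQ_surjective _) ?_
  rw [Submodule.ker_mkQ]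
  exact Module.Finite.iff_fg.mp (Module.Finite.range d)

end general

section localring

variable {S : Type*} [CommRing S] [IsLocalRing S]
  {D N C : Type*} [AddCommGroup D] [Module S D] [AddCommGroup N] [Module S N]
  [AddCommGroup C] [Module S C] [Module.Finite S D] [Module.Finite S N] [Module.Free S N]

lemma free_iff_lTensor_residueField_injective (l : D →ₗ[S] N) (g : N →ₗ[S] C)
    (hl : Function.Injective l) (hg : Function.Surjective g) (h : Function.Exact l g) :
    Module.Free S C ↔ Function.Injective (l.lTensor (IsLocalRing.ResidueField S)) := by
  constructor
  · intro hC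
    have h01 := (Function.Exact.split_tfae h hl hg).out 0 1
    obtain ⟨l', hl'⟩ := h01.mp (Module.projective_lifting_property g LinearMap.id hg)
    exact (IsLocalRing.split_injective_iff_lTensor_residueField_injective l).mp ⟨l', hl'⟩
  · intro hinj
    exact Module.free_of_lTensor_residueField_injective l g hg h hinj

end localring

/-- Key lemma: the free locus of `Coker d` is cut out by the residue-field kernel condition. -/
theorem mem_freeLocus_coker_iff (R : Type u) [CommRing R] (M : Type v) (N : Type w)
    [AddCommGroup M] [Module R M] [AddCommGroup N] [Module R N]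
    [Module.Finite R M] [Module.Finite R N] [Module.Projective R N]
    (d : M →ₗ[R] N) (p : PrimeSpectrum R) :
    p ∈ Module.freeLocus R (N ⧸ LinearMap.range d) ↔
      LinearMap.ker (d.baseChange p.asIdeal.ResidueField) ≤
        LinearMap.range ((LinearMap.ker d).subtype.baseChange p.asIdeal.ResidueField) := by
  rw [Module.mem_freeLocus_iff_tensor p (Localization.AtPrime p.asIdeal),
    ker_baseChange_le_iff_injective,
    ← injective_baseChange_baseChange_iff (Localization.AtPrime p.asIdeal)
      p.asIdeal.ResidueField (LinearMap.range d).subtype]
  have hflat : Module.Flat R (Localization.AtPrime p.asIdeal) :=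
    IsLocalization.flat (Localization.AtPrime p.asIdeal) p.asIdeal.primeCompl
  have : Module.Free (Localization.AtPrime p.asIdeal) (Localization.AtPrime p.asIdeal ⊗[R] N) :=
    Module.free_of_flat_of_isLocalRing
  have hl : Function.Injective
      ((LinearMap.range d).subtype.baseChange (Localization.AtPrime p.asIdeal)) := by
    rw [LinearMap.baseChange_eq_ltensor]
    exact Module.Flat.lTensor_preserves_injective_linearMap _ Subtype.val_injective
  have hg : Function.Surjective
      ((LinearMap.range d).mkQ.baseChange (Localization.AtPrime p.asIdeal)) := by
    rw [LinearMap.baseChange_eq_ltensor]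
    exact LinearMap.lTensor_surjective _ (Submodule.mkQ_surjective _)
  have hex : Function.Exact
      ((LinearMap.range d).subtype.baseChange (Localization.AtPrime p.asIdeal))
      ((LinearMap.range d).mkQ.baseChange (Localization.AtPrime p.asIdeal)) := by
    rw [LinearMap.baseChange_eq_ltensor, LinearMap.baseChange_eq_ltensor]
    exact lTensor_exact _ (LinearMap.exact_subtype_mkQ (LinearMap.range d))
      (Submodule.mkQ_surjective _)
  rw [LinearMap.baseChange_eq_ltensor]
  exact free_iff_lTensor_residueField_injective _ _ hl hg hex

end Groth.Agent.H76
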