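import Groth.Prelude.Def_DeRham

set_option autoImplicit false
universe u

namespace Groth.Agent.H76

open exteriorPower

variable {R A : Type u} [CommRing R] [CommRing A] [Algebra R A]

/-- Additive induction principle: the exterior powers of the Kähler differentials are generated,
as abelian groups, by the elements `b₀ · db₁ ∧ … ∧ db_p`. -/
lemma gen_induction (p : ℕ) (C : ↥(⋀[A]^p (Ω[A⁄R])) → Prop)
    (h0 : C 0) (hadd : ∀ x y, C x → C y → C (x + y))
    (hgen : ∀ (b₀ : A) (b : Fin p → A), C (DeRham.gen (KaehlerDifferential.D R A) p b₀ b)) :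
    ∀ x, C x := by
  intro x
  have hx : x ∈ Submodule.span A
      (ιMulti A p '' {a : Fin p → Ω[A⁄R] | Set.range a ⊆ Set.range (KaehlerDifferential.D R A)}) := by
    rw [ιMulti_span_of_span A p _ (KaehlerDifferential.span_range_derivation R A)]
    trivial
  suffices h : ∀ r : A, C (r • x) by simpa using h 1
  induction hx using Submodule.span_induction with
  | mem y hy =>
    obtain ⟨a, ha, rfl⟩ := hy
    intro r
    have hch : ∀ i, ∃ b : A, KaehlerDifferential.D R A b = a i := fun i => ha ⟨i, rfl⟩
    choose b hb using hch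
    have : a = fun i => KaehlerDifferential.D R A (b i) := funext fun i => (hb i).symm
    rw [this]
    exact hgen r b
  | zero => intro r; simpa using h0
  | add y z _ _ hy hz => intro r; rw [smul_add]; exact hadd _ _ (hy r) (hz r)
  | smul s y _ hy => intro r; rw [smul_smul]; exact hy (r * s)

/-- `ιMulti` of `d b₀, d b₁, …` as a generator with coefficient `1`. -/
lemma ιMulti_cons_eq_gen (p : ℕ) (b₀ : A) (b : Fin p → A) :
    ιMulti A (p + 1) (Fin.cons (KaehlerDifferential.D R A b₀)
      (fun i => KaehlerDifferential.D R A (b i)) : Fin (p + 1) → Ω[A⁄R]) =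
    DeRham.gen (KaehlerDifferential.D R A) (p + 1) 1 (Fin.cons b₀ b) := by
  unfold DeRham.gen
  rw [one_smul]
  congr 1
  funext i
  refine Fin.cases ?_ (fun j => ?_) i
  · simp
  · simp

end Groth.Agent.H76
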