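import Mathlib
import Groth.Prelude.Def_PolLaw
import Groth.Prelude.Def_PolLaw2
import Groth.Agent.H76.PolLawBC
import Groth.Agent.S13719

/-!
# The determinant law of a finitely generated projective module (helper76)

`M` a `B`-module, finite projective over `A`. Choose `Q` with `M × Q` finite free over `A`; `B × A`
acts on `M × Q`; the determinant law of that action, restricted along `x ↦ (x, 1)`, is a
multiplicative law `B → A` whose value over a local ring `S` is the determinant of `x` on `S ⊗ M`.
-/

set_option autoImplicit false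
universe u
open scoped TensorProduct

namespace Groth.Agent.H76.DetProj

open Groth.Agent.H76.PolLawBC

section ProdMod

variable (A : Type u) [CommRing A] (B : Type u) [CommRing B] [Algebra A B]
  (M : Type u) [AddCommGroup M] [Module A M] [Module B M] [IsScalarTower A B M]
  (Q : Type u) [AddCommGroup Q] [Module A Q]

/-- `M × Q` as a module over `B × A` -/
@[reducible] noncomputable def prodModule : Module (B × A) (M × Q) where
  smul c z := (c.1 • z.1, c.2 • z.2)
  one_smul z := Prod.ext (one_smul B z.1) (one_smul A z.2)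
  mul_smul c c' z := Prod.ext (mul_smul c.1 c'.1 z.1) (mul_smul c.2 c'.2 z.2)
  smul_zero c := Prod.ext (smul_zero c.1) (smul_zero c.2)
  smul_add c z z' := Prod.ext (smul_add c.1 z.1 z'.1) (smul_add c.2 z.2 z'.2)
  add_smul c c' z := Prod.ext (add_smul c.1 c'.1 z.1) (add_smul c.2 c'.2 z.2)
  zero_smul z := Prod.ext (zero_smul B z.1) (zero_smul A z.2)

attribute [local instance] prodModule

theorem prodTower : IsScalarTower A (B × A) (M × Q) :=
  ⟨fun a c z => Prod.ext (smul_assoc a c.1 z.1) (smul_assoc a c.2 z.2)⟩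

end ProdMod

section Conj

variable {A : Type u} [CommRing A] {B : Type u} [CommRing B] [Algebra A B]
  {M : Type u} [AddCommGroup M] [Module A M] [Module B M] [IsScalarTower A B M]
  {Q : Type u} [AddCommGroup Q] [Module A Q]

attribute [local instance] prodModule prodTower

theorem conj_actEnd (S : Type u) [CommRing S] [Algebra A S] (z : S ⊗[A] (B × A))
    (v : S ⊗[A] (M × Q)) :
    TensorProduct.prodRight A S S M Q (PolLaw.actEnd (M × Q) S z v) =
      (PolLaw.actEnd M S (LinearMap.lTensor S (LinearMap.fst A B A) z)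
          (TensorProduct.prodRight A S S M Q v).1,
        PolLaw.actEnd Q S (LinearMap.lTensor S (LinearMap.snd A B A) z)
          (TensorProduct.prodRight A S S M Q v).2) := by
  induction z using TensorProduct.induction_on with
  | zero =>
    simp
    rfl
  | tmul s c =>
    induction v using TensorProduct.induction_on with
    | zero =>
      simp
      rfl
    | tmul t mq =>
      simp only [PolLaw.actEnd_tmul_tmul, TensorProduct.prodRight_tmul, LinearMap.lTensor_tmul,
        LinearMap.fst_apply, LinearMap.snd_apply]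
      rfl
    | add v v' hv hv' =>
      simp only [map_add, hv, hv', Prod.fst_add, Prod.snd_add, Prod.mk_add_mk]
  | add z z' hz hz' =>
    simp only [map_add, LinearMap.add_apply, hz, hz', Prod.mk_add_mk]

theorem detAct_prod [Module.Finite A M] [Module.Projective A M] [Module.Finite A Q]
    [Module.Projective A Q] (S : Type u) [CommRing S] [IsLocalRing S] [Algebra A S]
    (x : S ⊗[A] B) :
    PolLaw.detAct (M × Q) S ((Algebra.TensorProduct.prodRight A S S B A).symm (x, 1)) =
      PolLaw.detAct M S x := by
  haveI : Module.Free S (S ⊗[A] M) := Module.free_of_flat_of_isLocalRing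
  haveI : Module.Free S (S ⊗[A] Q) := Module.free_of_flat_of_isLocalRing
  obtain ⟨z, hz⟩ : ∃ z, z = (Algebra.TensorProduct.prodRight A S S B A).symm
      (x, (1 : S ⊗[A] A)) := ⟨_, rfl⟩
  have hz1 : LinearMap.lTensor S (LinearMap.fst A B A) z = x := by
    rw [← S13719.Phi_fst, hz, AlgEquiv.apply_symm_apply]
  have hz2 : LinearMap.lTensor S (LinearMap.snd A B A) z = 1 := by
    rw [← S13719.Phi_snd, hz, AlgEquiv.apply_symm_apply]
  rw [← hz]
  unfold PolLaw.detAct
  have key : ∀ g : Module.End S ((S ⊗[A] M) × (S ⊗[A] Q)),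
      g = LinearMap.prodMap (PolLaw.actEnd M S x) (1 : Module.End S (S ⊗[A] Q)) →
      LinearMap.det g = LinearMap.det (PolLaw.actEnd M S x) := by
    intro g hg
    rw [hg, LinearMap.det_prodMap, map_one, mul_one]
  rw [← LinearMap.det_conj (PolLaw.actEnd (M × Q) S z) (TensorProduct.prodRight A S S M Q)]
  apply key
  apply LinearMap.ext
  intro w
  show TensorProduct.prodRight A S S M Q (PolLaw.actEnd (M × Q) S z
    ((TensorProduct.prodRight A S S M Q).symm w)) = _
  rw [conj_actEnd, hz1, hz2, map_one (PolLaw.actEnd Q S), LinearEquiv.apply_symm_apply]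
  rfl

theorem exists_law_aux [Module.Finite A M] [Module.Projective A M] [Module.Finite A Q]
    [Module.Projective A Q] [Module.Free A (M × Q)] [Module.Finite A (M × Q)] :
    ∃ N : B →ₚₗ[A] A, PolLaw.IsMult N ∧
      ∀ (S : Type u) [CommRing S] [IsLocalRing S] [Algebra A S] (x : S ⊗[A] B),
        N.toFun' S x = PolLaw.detAct M S x ⊗ₜ[A] (1 : A) := by
  have hD : PolLaw.IsMult (PolLaw.detPLaw (A := A) (B := B × A) (M := M × Q)) :=
    fun S _ _ => ⟨PolLaw.detFun_one (M := M × Q) S, PolLaw.detFun_mul (M := M × Q) S⟩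
  refine ⟨S13719.law₁ (PolLaw.detPLaw (A := A) (B := B × A) (M := M × Q)),
    S13719.law₁_mult _ hD, ?_⟩
  intro S _ _ _ x
  show PolLaw.detFun A (B × A) (M × Q) S
    ((Algebra.TensorProduct.prodRight A S S B A).symm (x, 1)) = _
  rw [PolLaw.detFun_eq_detAct, detAct_prod]

end Conj

section Main

variable {A : Type u} [CommRing A] {B : Type u} [CommRing B] [Algebra A B]
  {M : Type u} [AddCommGroup M] [Module A M] [Module B M] [IsScalarTower A B M]

variable (A B M) in
/-- existence of the determinant law of a finite projective module -/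
theorem exists_law [Module.Finite A M] [Module.Projective A M] :
    ∃ N : B →ₚₗ[A] A, PolLaw.IsMult N ∧
      ∀ (S : Type u) [CommRing S] [IsLocalRing S] [Algebra A S] (x : S ⊗[A] B),
        N.toFun' S x = PolLaw.detAct M S x ⊗ₜ[A] (1 : A) := by
  obtain ⟨n, π, hπ⟩ := Module.Finite.exists_fin' A M
  obtain ⟨s, hs⟩ := Module.projective_lifting_property π LinearMap.id hπ
  have hs' : ∀ m, π (s m) = m := fun m => LinearMap.congr_fun hs m
  let g₂ : (Fin n → A) →ₗ[A] LinearMap.ker π :=
    LinearMap.codRestrict (LinearMap.ker π) (LinearMap.id - s ∘ₗ π) (fun l => by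
      rw [LinearMap.mem_ker, LinearMap.sub_apply, LinearMap.id_apply, LinearMap.comp_apply,
        map_sub, hs', sub_self])
  have hg₂ : ∀ l, ((g₂ l : LinearMap.ker π) : Fin n → A) = l - s (π l) := fun l => rfl
  have hker : ∀ q : LinearMap.ker π, π (q : Fin n → A) = 0 := fun q => LinearMap.mem_ker.mp q.2
  let e : (M × LinearMap.ker π) ≃ₗ[A] (Fin n → A) :=
    LinearEquiv.ofLinearMap (s.coprod (LinearMap.ker π).subtype) (π.prod g₂)
      (LinearMap.ext fun l => by
        show s (π l) + ((g₂ l : LinearMap.ker π) : Fin n → A) = l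
        rw [hg₂]
        abel)
      (LinearMap.ext fun mq => by
        obtain ⟨m, q⟩ := mq
        refine Prod.ext ?_ (Subtype.ext ?_)
        · show π (s m + (q : Fin n → A)) = m
          rw [map_add, hs', hker, add_zero]
        · show ((g₂ (s m + (q : Fin n → A)) : LinearMap.ker π) : Fin n → A) = q
          rw [hg₂, map_add, hs', hker, add_zero, add_sub_cancel_left])
  haveI : Module.Free A (M × LinearMap.ker π) := Module.Free.of_equiv e.symm
  haveI : Module.Finite A (M × LinearMap.ker π) := Module.Finite.equiv e.symm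
  have hg₂q : ∀ q : LinearMap.ker π, g₂ (q : Fin n → A) = q := fun q =>
    Subtype.ext (by rw [hg₂, hker, map_zero, sub_zero])
  haveI : Module.Finite A (LinearMap.ker π) :=
    Module.Finite.of_surjective g₂ (fun q => ⟨q, hg₂q q⟩)
  haveI : Module.Projective A (LinearMap.ker π) :=
    Module.Projective.of_split (LinearMap.ker π).subtype g₂ (LinearMap.ext fun q => hg₂q q)
  exact exists_law_aux (Q := LinearMap.ker π)

/-- a law `B → A` is determined by its values over local rings -/
theorem law_ext_of_local (N N' : B →ₚₗ[A] A)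
    (h : ∀ (S : Type u) [CommRing S] [IsLocalRing S] [Algebra A S] (x : S ⊗[A] B),
      N.toFun' S x = N'.toFun' S x) : N = N' := by
  have hP : ∀ (n : ℕ) (x : MvPolynomial (Fin n) A ⊗[A] B),
      N.toFun' (MvPolynomial (Fin n) A) x = N'.toFun' (MvPolynomial (Fin n) A) x := by
    intro n x
    apply (TensorProduct.rid A (MvPolynomial (Fin n) A)).injective
    show val N (MvPolynomial (Fin n) A) x = val N' (MvPolynomial (Fin n) A) x
    rw [← sub_eq_zero]
    apply eq_zero_of_localization
    intro J hJ
    rw [map_sub, sub_eq_zero]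
    have e1 := val_map N (IsScalarTower.toAlgHom A (MvPolynomial (Fin n) A)
      (Localization.AtPrime J)) x
    have e2 := val_map N' (IsScalarTower.toAlgHom A (MvPolynomial (Fin n) A)
      (Localization.AtPrime J)) x
    rw [IsScalarTower.toAlgHom_apply] at e1 e2
    rw [← e1, ← e2]
    unfold val
    rw [h]
  apply PolynomialLaw.ext
  funext S _ _ x
  obtain ⟨n, ψ, p, hp⟩ := PolynomialLaw.exists_lift x
  rw [← hp, ← PolynomialLaw.isCompat_apply', ← PolynomialLaw.isCompat_apply', hP]

theorem detAct_tmul_one [Module.Finite A M] [Module.Projective A M] (d : ℕ)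
    (hd : ∀ p : PrimeSpectrum A, Module.rankAtStalk M p = d) (S : Type u) [CommRing S]
    [IsLocalRing S] [Algebra A S] (t : S) :
    PolLaw.detAct M S (t ⊗ₜ[A] (1 : B)) = t ^ d := by
  haveI : Module.Free S (S ⊗[A] M) := Module.free_of_flat_of_isLocalRing
  have h0 : t ⊗ₜ[A] (1 : B) = t • (1 : S ⊗[A] B) := by
    rw [Algebra.TensorProduct.one_def, TensorProduct.smul_tmul', smul_eq_mul, mul_one]
  have hrank : Module.finrank S (S ⊗[A] M) = d := by
    have h1 := congrFun (Module.rankAtStalk_eq_finrank_of_free (R := S) (M := S ⊗[A] M))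
      (IsLocalRing.closedPoint S)
    have h2 := Module.rankAtStalk_baseChange (R := A) (M := M) (S := S) (IsLocalRing.closedPoint S)
    rw [hd] at h2
    rw [h2] at h1
    simpa using h1.symm
  unfold PolLaw.detAct
  rw [h0, map_smul, map_one, LinearMap.det_smul, hrank, map_one, mul_one]

theorem val_X_tmul_one [Module.Finite A M] [Module.Projective A M] (N : B →ₚₗ[A] A)
    (hloc : ∀ (S : Type u) [CommRing S] [IsLocalRing S] [Algebra A S] (x : S ⊗[A] B),
      N.toFun' S x = PolLaw.detAct M S x ⊗ₜ[A] (1 : A))
    (d : ℕ) (hd : ∀ p : PrimeSpectrum A, Module.rankAtStalk M p = d) :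
    val N (Polynomial A) ((Polynomial.X : Polynomial A) ⊗ₜ[A] (1 : B)) = Polynomial.X ^ d := by
  rw [← sub_eq_zero]
  apply eq_zero_of_localization
  intro J hJ
  rw [map_sub, sub_eq_zero, map_pow]
  have e1 := val_map N (IsScalarTower.toAlgHom A (Polynomial A) (Localization.AtPrime J))
    ((Polynomial.X : Polynomial A) ⊗ₜ[A] (1 : B))
  rw [Algebra.TensorProduct.map_tmul, AlgHom.id_apply, IsScalarTower.toAlgHom_apply,
    IsScalarTower.toAlgHom_apply] at e1
  rw [← e1]
  unfold val
  rw [hloc, TensorProduct.rid_tmul, one_smul, detAct_tmul_one d hd]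

theorem homog_of_local [Module.Finite A M] [Module.Projective A M] (N : B →ₚₗ[A] A)
    (hN : PolLaw.IsMult N)
    (hloc : ∀ (S : Type u) [CommRing S] [IsLocalRing S] [Algebra A S] (x : S ⊗[A] B),
      N.toFun' S x = PolLaw.detAct M S x ⊗ₜ[A] (1 : A))
    (d : ℕ) (hd : ∀ p : PrimeSpectrum A, Module.rankAtStalk M p = d) : PolLaw.IsHomog N d := by
  intro S _ _ s x
  have hX := val_X_tmul_one N hloc d hd
  have h1 : N.toFun' S (s ⊗ₜ[A] (1 : B)) = s ^ d • (1 : S ⊗[A] A) := by
    apply (TensorProduct.rid A S).injective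
    have h2 := val_map N (Polynomial.aeval s : Polynomial A →ₐ[A] S)
      ((Polynomial.X : Polynomial A) ⊗ₜ[A] (1 : B))
    rw [Algebra.TensorProduct.map_tmul, AlgHom.id_apply, Polynomial.aeval_X, hX, map_pow,
      Polynomial.aeval_X] at h2
    have hr : TensorProduct.rid A S (s ^ d • (1 : S ⊗[A] A)) = s ^ d := by
      rw [Algebra.TensorProduct.one_def, TensorProduct.smul_tmul', TensorProduct.rid_tmul,
        one_smul, smul_eq_mul, mul_one]
    exact h2.trans hr.symm
  rw [S13719.smul_eq_tmul_mul, (hN S).2, h1, smul_mul_assoc, one_mul]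

end Main

end Groth.Agent.H76.DetProj
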