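import Mathlib
import Groth.Prelude.Def_RelSpec2
import Groth.Agent.H31.RpushCoprod

/-!
# The direct image `AMod.dirImg f` (modules over `f_* O_X`) commutes with coproducts and filtered
colimits, `f` qcqs
-/

set_option backward.isDefEq.respectTransparency false
set_option linter.style.haveILetI false
set_option autoImplicit false
universe u
open CategoryTheory CategoryTheory.Limits AlgebraicGeometry
attribute [local instance] HasDerivedCategory.standard

namespace Groth.Agent.H76.DirImgColim

open Groth.Agent.H33

variable {X S : Scheme.{u}} (f : X ⟶ S) [QuasiCompact f] [QuasiSeparated f]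

/-- `f_*` on abelian sheaves preserves filtered colimits, `f` qcqs. -/
theorem pushAb_preservesFiltered (J : Type u) [SmallCategory J] [IsFiltered J] :
    PreservesColimitsOfShape J (Coh.pushAb f) := by
  have h2 : PreservesFiniteLimits (Coh.pushAb f) := by
    have := Groth.Agent.H42.CohTopLib.preservesLimits_push f.base
    exact inferInstanceAs (PreservesFiniteLimits (CohTop.push f.base))
  have := Groth.Agent.S0800.result f 0 J
  exact preservesColimitsOfShape_of_natIso ((Coh.pushAb f).rightDerivedZeroIsoSelf)

/-- `AMod.dirImg f` preserves the colimits that `f_*` on abelian sheaves preserves. -/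
theorem dirImg_preservesColimitsOfShape (K : Type u) [SmallCategory K]
    (h : PreservesColimitsOfShape K (Coh.pushAb f)) :
    PreservesColimitsOfShape K (AMod.dirImg f) := by
  let E : X.Modules ⥤ Sheaf (Opens.grothendieckTopology X) AddCommGrpCat.{u} :=
    SheafOfModules.toSheaf.{u} X.ringCatSheaf
  let E' : AMod (RelSpec.QCAlg.directImage f) ⥤
      Sheaf (Opens.grothendieckTopology S) AddCommGrpCat.{u} :=
    SheafOfModules.toSheaf.{u} (AMod.ringSheaf (RelSpec.QCAlg.directImage f))
  let e : AMod.dirImg f ⋙ E' ≅ E ⋙ Coh.pushAb f :=
    NatIso.ofComponents (fun M => Iso.refl _) (by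
      intro M N g
      rfl)
  have h1 : PreservesColimitsOfShape K E :=
    Groth.Agent.H45.toSheaf_preservesColimitsOfShape X.ringCatSheaf K
  have h2 : PreservesColimitsOfShape K E' :=
    Groth.Agent.H45.toSheaf_preservesColimitsOfShape
      (AMod.ringSheaf (RelSpec.QCAlg.directImage f)) K
  have h3 : PreservesColimitsOfShape K (AMod.dirImg f ⋙ E') :=
    preservesColimitsOfShape_of_natIso e.symm
  have h4 : E'.ReflectsIsomorphisms :=
    inferInstanceAs (SheafOfModules.toSheaf.{u}
      (AMod.ringSheaf (RelSpec.QCAlg.directImage f))).ReflectsIsomorphisms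
  have h5 : ReflectsColimitsOfShape K E' :=
    reflectsColimitsOfShape_of_reflectsIsomorphisms
  exact preservesColimitsOfShape_of_reflects_of_preserves (AMod.dirImg f) E'

theorem dirImg_preservesCoproducts (J : Type u) :
    PreservesColimitsOfShape (Discrete J) (AMod.dirImg f) :=
  dirImg_preservesColimitsOfShape f (Discrete J)
    (Groth.Agent.H31.RpushCoprod.pushAb_preservesCoproducts f J)

theorem dirImg_preservesFiltered (J : Type u) [SmallCategory J] [IsFiltered J] :
    PreservesColimitsOfShape J (AMod.dirImg f) :=
  dirImg_preservesColimitsOfShape f J (pushAb_preservesFiltered f J)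

/-- The comparison map of a preserved colimit is an isomorphism. -/
theorem isIso_colimit_desc_mapCocone {C D : Type*} [Category C] [Category D] {J : Type*}
    [Category J] (G : C ⥤ D) (F : J ⥤ C) [HasColimit F] [HasColimit (F ⋙ G)]
    [PreservesColimit F G] :
    IsIso (colimit.desc (F ⋙ G) (G.mapCocone (colimit.cocone F))) := by
  have h : colimit.desc (F ⋙ G) (G.mapCocone (colimit.cocone F)) =
      (preservesColimitIso G F).inv := by
    apply colimit.hom_ext
    intro j
    rw [colimit.ι_desc, ι_preservesColimitIso_inv]
    rfl
  rw [h]
  infer_instance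

end Groth.Agent.H76.DirImgColim
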