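import Mathlib.AlgebraicGeometry.AffineScheme
import Mathlib.AlgebraicGeometry.Morphisms.QuasiCompact
import Mathlib.RingTheory.RingHom.EssFiniteType

set_option autoImplicit false
universe u

namespace Groth.Agent.H76

open AlgebraicGeometry CategoryTheory TopologicalSpace

/-- Restriction from an affine open to a basic open is essentially of finite type. -/
lemma eft_res_basicOpen {X : Scheme.{u}} {U : X.Opens} (hU : IsAffineOpen U) (a : Γ(X, U)) :
    (X.presheaf.map (homOfLE (X.basicOpen_le a)).op).hom.EssFiniteType := by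
  have := hU.isLocalization_basicOpen a
  exact RingHom.EssFiniteType.holdsForLocalization Γ(X, X.basicOpen a) (Submonoid.powers a)

/-- The local condition at a point: some affine open neighbourhood `V` of `x` inside `f⁻¹ U`
with `Γ(U) → Γ(V)` essentially of finite type. -/
def EFTAt {X Y : Scheme.{u}} (f : X ⟶ Y) (U : Y.Opens) (x : X) : Prop :=
  ∃ V : X.affineOpens, x ∈ (V : X.Opens) ∧
    ∃ e : (V : X.Opens) ≤ f ⁻¹ᵁ U, (f.appLE U (V : X.Opens) e).hom.EssFiniteType

/-- The covering form of the condition over one affine open of the target. -/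
def EFTOver {X Y : Scheme.{u}} (f : X ⟶ Y) (U : Y.Opens) : Prop :=
  ∃ T : Set X.affineOpens, (⋃ V ∈ T, ((V : X.Opens) : Set ↥X)) = ((f ⁻¹ᵁ U : X.Opens) : Set ↥X) ∧
    ∀ V ∈ T, ∃ e : (V : X.Opens) ≤ f ⁻¹ᵁ U, (f.appLE U (V : X.Opens) e).hom.EssFiniteType

lemma eftOver_iff {X Y : Scheme.{u}} (f : X ⟶ Y) (U : Y.Opens) :
    EFTOver f U ↔ ∀ x : X, x ∈ f ⁻¹ᵁ U → EFTAt f U x := by
  constructor
  · rintro ⟨T, hT, hP⟩ x hx
    have hx' : x ∈ ⋃ V ∈ T, ((V : X.Opens) : Set ↥X) := by rw [hT]; exact hx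
    simp only [Set.mem_iUnion] at hx'
    obtain ⟨V, hV, hxV⟩ := hx'
    exact ⟨V, hxV, hP V hV⟩
  · intro h
    refine ⟨{V | ∃ e : (V : X.Opens) ≤ f ⁻¹ᵁ U, (f.appLE U (V : X.Opens) e).hom.EssFiniteType},
      ?_, fun V hV => hV⟩
    apply Set.Subset.antisymm
    · intro x hx
      simp only [Set.mem_iUnion] at hx
      obtain ⟨V, ⟨e, _⟩, hxV⟩ := hx
      exact e hxV
    · intro x hx
      obtain ⟨V, hxV, e, hP⟩ := h x hx
      simp only [Set.mem_iUnion]
      exact ⟨V, ⟨e, hP⟩, hxV⟩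

/-- Shrinking the source to a basic open preserves the property. -/
lemma eft_appLE_basicOpen {X Y : Scheme.{u}} (f : X ⟶ Y) {U : Y.Opens} {V : X.Opens}
    (hV : IsAffineOpen V) (e : V ≤ f ⁻¹ᵁ U) (h : (f.appLE U V e).hom.EssFiniteType)
    (b : Γ(X, V)) :
    (f.appLE U (X.basicOpen b) ((X.basicOpen_le b).trans e)).hom.EssFiniteType := by
  have h1 := eft_res_basicOpen hV b
  have h2 := h.comp h1
  rw [← CommRingCat.hom_comp, Scheme.Hom.appLE_map] at h2
  exact h2

/-- Transfer of the local condition between two affine opens of the target containing `f x`. -/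
lemma eftAt_of_eftAt {X Y : Scheme.{u}} (f : X ⟶ Y) {U U' : Y.Opens} (hU : IsAffineOpen U)
    (hU' : IsAffineOpen U') (x : X) (hxU' : f x ∈ U') (h : EFTAt f U x) : EFTAt f U' x := by
  obtain ⟨V, hxV, e, hP⟩ := h
  have hxU : f x ∈ U := e hxV
  obtain ⟨a, a', haa', hxa⟩ := exists_basicOpen_le_affine_inter hU hU' (f x) ⟨hxU, hxU'⟩
  -- the basic open of `V` cut out by the image of `a`
  set b : Γ(X, (V : X.Opens)) := f.appLE U (V : X.Opens) e a with hb
  have hbV : X.basicOpen b = (V : X.Opens) ⊓ f ⁻¹ᵁ (Y.basicOpen a) := Scheme.basicOpen_appLE f _ _ e a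
  have hxb : x ∈ X.basicOpen b := by rw [hbV]; exact ⟨hxV, hxa⟩
  have hle : X.basicOpen b ≤ f ⁻¹ᵁ (Y.basicOpen a) := by rw [hbV]; exact inf_le_right
  have hle' : X.basicOpen b ≤ f ⁻¹ᵁ (Y.basicOpen a') := by rw [← haa']; exact hle
  have hleU' : X.basicOpen b ≤ f ⁻¹ᵁ U' :=
    hle'.trans (f.preimage_mono (Y.basicOpen_le a'))
  refine ⟨⟨X.basicOpen b, V.2.basicOpen b⟩, hxb, hleU', ?_⟩
  -- `Γ(U) → Γ(D(b))` is EFT
  have h1 := eft_appLE_basicOpen f V.2 e hP b
  -- factor through `Γ(D(a))`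
  have h2 : Y.presheaf.map (homOfLE (Y.basicOpen_le a)).op ≫ f.appLE (Y.basicOpen a) (X.basicOpen b) hle
      = f.appLE U (X.basicOpen b) ((X.basicOpen_le b).trans e) := Scheme.Hom.map_appLE _ _ _
  rw [← h2, CommRingCat.hom_comp] at h1
  have h3 : (f.appLE (Y.basicOpen a) (X.basicOpen b) hle).hom.EssFiniteType :=
    RingHom.EssFiniteType.of_comp _ h1
  have h4 : (f.appLE (Y.basicOpen a') (X.basicOpen b) hle').hom.EssFiniteType :=
    (Scheme.Hom.appLE_congr f hle haa' rfl (fun g => g.hom.EssFiniteType)).mp h3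
  have h5 := (eft_res_basicOpen hU' a').comp h4
  rw [← CommRingCat.hom_comp, Scheme.Hom.map_appLE] at h5
  exact h5

end Groth.Agent.H76
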