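import Groth.Agent.H76.EssFT
import Mathlib.AlgebraicGeometry.Morphisms.RingHomProperties
import Mathlib.AlgebraicGeometry.Pullbacks

set_option autoImplicit false
universe u

namespace Groth.Agent.H76

open AlgebraicGeometry CategoryTheory CategoryTheory.Limits TopologicalSpace

/-- In a pullback square of affine schemes, if `f` is essentially of finite type on global
sections then so is the projection `snd`. -/
lemma eft_snd_of_isPullback_affine {W X S T : Scheme.{u}} [IsAffine X] [IsAffine S] [IsAffine T]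
    {fst : W ⟶ X} {snd : W ⟶ T} {f : X ⟶ S} {g : T ⟶ S} (H : IsPullback fst snd f g)
    (hf : f.appTop.hom.EssFiniteType) : snd.appTop.hom.EssFiniteType := by
  have h1 := RingHom.IsStableUnderBaseChange.pullback_fst_appTop (P := @RingHom.EssFiniteType)
    RingHom.EssFiniteType.isStableUnderBaseChange RingHom.EssFiniteType.respectsIso g f hf
  have e := H.flip.isoPullback_hom_fst
  have hiso : IsIso (Scheme.Hom.appTop H.flip.isoPullback.hom) :=
    inferInstanceAs (IsIso (H.flip.isoPullback.hom.app ⊤))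
  rw [← e, Scheme.Hom.comp_appTop, CommRingCat.hom_comp]
  exact (RingHom.EssFiniteType.respectsIso.cancel_right_isIso _ _).mpr h1

/-- Base change of the local condition. -/
lemma eftAt_pullback_snd {X Y Y' : Scheme.{u}} (f : X ⟶ Y) (g : Y' ⟶ Y)
    (hf : ∀ U : Y.affineOpens, EFTOver f (U : Y.Opens))
    (U : Y'.Opens) (hU : IsAffineOpen U) (x : ↥(pullback f g))
    (hx : x ∈ (pullback.snd f g) ⁻¹ᵁ U) : EFTAt (pullback.snd f g) U x := by
  -- an affine neighbourhood `U₀` of the image point in `Y`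
  obtain ⟨U₀, hU₀, hyU₀, -⟩ := Opens.isBasis_iff_nbhd.mp Y.isBasis_affineOpens
    (Opens.mem_top (g (pullback.snd f g x)))
  have hfst : f (pullback.fst f g x) = g (pullback.snd f g x) := by
    rw [← Scheme.Hom.comp_apply, ← Scheme.Hom.comp_apply, pullback.condition]
  -- an affine neighbourhood `V` of `fst x` with the property over `U₀`
  have h0 := (eftOver_iff f U₀).mp (hf ⟨U₀, hU₀⟩) (pullback.fst f g x) (by
    change f (pullback.fst f g x) ∈ U₀
    rw [hfst]; exact hyU₀)
  obtain ⟨V, hxV, e, hP⟩ := h0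
  -- a basic open `U₁` of `U` around `snd x` inside `g⁻¹ U₀`
  obtain ⟨b, hb₁, hb₂⟩ := hU.exists_basicOpen_le
    (V := g ⁻¹ᵁ U₀) ⟨pullback.snd f g x, hyU₀⟩ hx
  set U₁ : Y'.Opens := Y'.basicOpen b with hU₁
  have hU₁aff : IsAffineOpen U₁ := hU.basicOpen b
  -- the affine open of the pullback
  set W : (pullback f g).Opens :=
    (pullback.fst f g) ⁻¹ᵁ (V : X.Opens) ⊓ (pullback.snd f g) ⁻¹ᵁ U₁ with hW
  have hxW : x ∈ W := ⟨hxV, hb₂⟩
  have Hpb := Scheme.Hom.isPullback_resLE (IsPullback.of_hasPullback f g)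
    (US := U₀) (UT := U₁) (UX := (V : X.Opens)) hb₁ e (UY := W) hW
  have : IsAffine (Scheme.Opens.toScheme (V : X.Opens)) := V.2
  have : IsAffine (Scheme.Opens.toScheme U₀) := hU₀
  have : IsAffine (Scheme.Opens.toScheme U₁) := hU₁aff
  have hWaff : IsAffineOpen W := by
    have : IsAffine (Scheme.Opens.toScheme W) := IsAffine.of_isIso Hpb.isoPullback.hom
    exact this
  have hWle₁ : W ≤ (pullback.snd f g) ⁻¹ᵁ U₁ := inf_le_right
  have hWle : W ≤ (pullback.snd f g) ⁻¹ᵁ U :=
    hWle₁.trans ((pullback.snd f g).preimage_mono (Y'.basicOpen_le b))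
  refine ⟨⟨W, hWaff⟩, hxW, hWle, ?_⟩
  -- the ring map over `U₁`
  have h1 : (f.resLE U₀ (V : X.Opens) e).appTop.hom.EssFiniteType :=
    (RingHom.EssFiniteType.respectsIso.arrow_mk_iso_iff
      (arrowResLEAppIso f U₀ (V : X.Opens) e)).mpr hP
  have h2 := eft_snd_of_isPullback_affine Hpb h1
  have h3 : ((pullback.snd f g).appLE U₁ W hWle₁).hom.EssFiniteType :=
    (RingHom.EssFiniteType.respectsIso.arrow_mk_iso_iff
      (arrowResLEAppIso (pullback.snd f g) U₁ W hWle₁)).mp h2
  have h4 := (eft_res_basicOpen hU b).comp h3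
  rw [← CommRingCat.hom_comp, Scheme.Hom.map_appLE] at h4
  exact h4

end Groth.Agent.H76
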