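import Mathlib
import Groth.Prelude.Def_PBC

set_option autoImplicit false
universe u
open CategoryTheory CategoryTheory.Limits AlgebraicGeometry Topology

namespace Groth.Agent.H76.EtCons_Q1

/-- In a compact space constructible sets are compact. -/
theorem isCompact_of_isConstructible {X : Type*} [TopologicalSpace X] [CompactSpace X] {s : Set X}
    (hs : IsConstructible s) : IsCompact s := by
  induction s, hs using BooleanSubalgebra.closure_sdiff_sup_induction with
  | isSublattice =>
    exact ⟨fun s hs t ht ↦ ⟨hs.1.union ht.1, hs.2.union ht.2⟩,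
      fun s hs t ht ↦ ⟨hs.1.inter ht.1, hs.2.inter_isOpen ht.2 ht.1⟩⟩
  | bot_mem => exact ⟨isOpen_empty, .empty⟩
  | top_mem => exact ⟨isOpen_univ, .univ⟩
  | sdiff U hU V hV => exact hU.2.isCompact.diff hV.1
  | sup s _ t _ hs' ht' => exact hs'.union ht'

/-- Pure topology version: the image of a constructible set under an embedding with constructible
range into a qcqs prespectral space is constructible. -/
theorem isConstructible_image_of_isEmbedding {T X : Type*} [TopologicalSpace T]
    [TopologicalSpace X] [CompactSpace X] [QuasiSeparatedSpace X] [PrespectralSpace X]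
    {f : T → X} (hf : IsEmbedding f) (hR : IsConstructible (Set.range f)) {A : Set T}
    (hA : IsConstructible A) : IsConstructible (f '' A) := by
  have hTc : CompactSpace T := by
    rw [← isCompact_univ_iff, hf.isCompact_iff, Set.image_univ]
    exact isCompact_of_isConstructible hR
  induction hA using IsConstructible.empty_union_induction with
  | open_retrocompact U hUopen hUcomp =>
    have hUc : IsCompact U := hUcomp.isCompact
    obtain ⟨O', hO', rfl⟩ := hf.isInducing.isOpen_iff.mp hUopen
    obtain ⟨W, hWc, hWo, hKW, hWO⟩ := PrespectralSpace.exists_isCompact_and_isOpen_between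
      (hUc.image hf.continuous) hO' (Set.image_preimage_subset _ _)
    have : f '' (f ⁻¹' O') = Set.range f ∩ W := by
      ext x; constructor
      · rintro ⟨t, ht, rfl⟩; exact ⟨⟨t, rfl⟩, hKW ⟨t, ht, rfl⟩⟩
      · rintro ⟨⟨t, rfl⟩, hW⟩; exact ⟨t, hWO hW, rfl⟩
    rw [this]
    exact hR.inter (hWc.isConstructible hWo)
  | union s hs t ht hs' ht' => rw [Set.image_union]; exact hs'.union ht'
  | compl s hs hs' =>
    rw [← Set.range_sdiff_image hf.injective]
    exact hR.sdiff hs'

/-- Q1 for helper24's S0130. -/
theorem isConstructible_image_of_immersion {X T : Scheme.{u}} [CompactSpace X]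
    [QuasiSeparatedSpace X] (g : T ⟶ X) [IsImmersion g]
    (hR : Topology.IsConstructible (Set.range g)) (A : Set T)
    (hA : Topology.IsConstructible A) : Topology.IsConstructible (g '' A) :=
  isConstructible_image_of_isEmbedding g.isEmbedding hR hA

end Groth.Agent.H76.EtCons_Q1
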