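import Groth.Agent.H5.ExDefs
import Groth.Agent.H26.Ex_D1

set_option autoImplicit false
set_option linter.style.haveILetI false
universe u

open CategoryTheory CategoryTheory.Limits AlgebraicGeometry Opposite
open Groth.Agent.S9528 Groth.Agent.H5.Ker Groth.Agent.H5.Ex Groth.Agent.H5.KerLoc
open Groth.Agent.H8 (appₗ app_res)
open Groth.Agent.S0833 (Jm)
open Groth.Agent.H26.Ex_D1 (pullback_section pullback_section_ext)

namespace Groth.Agent.H76.Ex_A

variable {A : Type u} [CommRing A] {X : Scheme.{u}} [X.Over (Spec (CommRingCat.of A))] (I : Ideal A)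

/-- local copy of (D2) -/
theorem smul_mem_range_of_killed_coker {M N : X.Modules} [M.IsQuasicoherent] [N.IsQuasicoherent]
    (f : M ⟶ N) {L : Ideal A} (h : Formal.KilledBy L (cokernel f)) {W : X.Opens}
    (hW : IsAffineOpen W) (b : Γ(X, W)) (hb : b ∈ Jm L W) (y : Γ(N, W)) :
    ∃ x : Γ(M, W), f.app W x = b • y := by
  haveI : (cokernel f).IsQuasicoherent := Groth.Agent.H8.isQuasicoherent_cokernel f
  haveI : (Abelian.image f).IsQuasicoherent :=
    Groth.Agent.H22.QCohLimits.isQuasicoherent_kernel (cokernel.π f)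
  have h0 : (cokernel.π f).app W (b • y) = 0 := by
    have e : (cokernel.π f).app W (b • y) = b • (cokernel.π f).app W y :=
      map_smul (appₗ (cokernel.π f) W) b y
    rw [e]
    exact Groth.Agent.S0833.smul_eq_zero_of_killed h W b hb _
  obtain ⟨z, hz⟩ := exists_kernel_section (cokernel.π f) W (b • y) h0
  haveI : Epi (Abelian.factorThruImage f) := inferInstance
  obtain ⟨x, hx⟩ := Groth.Agent.S0833.app_surjective_of_epi (Abelian.factorThruImage f) hW z
  refine ⟨x, ?_⟩
  have h1 : (Abelian.factorThruImage f ≫ Abelian.image.ι f).app W = f.app W := by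
    rw [Abelian.image.fac]
  have h2 := congr($h1 x)
  rw [← hz, ← hx]
  exact h2.symm

/-- sections form of (A) -/
theorem stab_sec {G : X.Modules} {F : ℕᵒᵖ ⥤ X.Modules} (α : F ⟶ Formal.completion I G)
    [IsNoetherian X] (hG : Coh.IsCoh G) (hF : Formal.IsCohFormal I F) {t : ℕ}
    (hcok : ∀ n, Formal.KilledBy (I ^ t) (cokernel (α.app (op n)))) (s n : ℕ) (hs : t ≤ s)
    {W : X.Opens} (hW : IsAffineOpen W) (w : Γ(P I α (n + s), W)) :
    ∃ w' : Γ(P I α (n + (s + 1)), W),
      (tP I α (Nat.le_add_right n (s + 1))).app W w' = (tP I α (Nat.le_add_right n s)).app W w := by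
  have hĜ := Groth.Agent.S9536.isCohFormal_completion I G hG
  haveI : G.IsQuasicoherent := hG.1
  haveI : ∀ k, (F.obj (op k)).IsQuasicoherent := fun k => (hF.1 k).1
  haveI : ∀ k, ((Formal.completion I G).obj (op k)).IsQuasicoherent := fun k => (hĜ.1 k).1
  have h1 : n + s ≤ n + (s + 1) := by omega
  -- components of w
  obtain ⟨x', hx'⟩ : ∃ x' : Γ(F.obj (op (n + s)), W), x' = (fstP I α (n + s)).app W w := ⟨_, rfl⟩
  obtain ⟨m, hm⟩ : ∃ m : Γ(G, W), m = (sndP I α (n + s)).app W w := ⟨_, rfl⟩
  have hcond : (α.app (op (n + s))).app W x' = (πG I G (n + s)).app W m := by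
    rw [hx', hm]
    have h0 : (fstP I α (n + s) ≫ α.app (op (n + s))).app W =
        (sndP I α (n + s) ≫ πG I G (n + s)).app W := by rw [condP]
    exact congr($h0 w)
  obtain ⟨x'', hx''⟩ := Tm_surjective I hF hW h1 x'
  -- the defect
  obtain ⟨δ, hδ⟩ : ∃ δ : Γ((Formal.completion I G).obj (op (n + (s + 1))), W),
      δ = (α.app (op (n + (s + 1)))).app W x'' - (πG I G (n + (s + 1))).app W m := ⟨_, rfl⟩
  have hδker : δ ∈ LinearMap.ker (Tm (Formal.completion I G) W h1) := by
    rw [LinearMap.mem_ker, hδ, map_sub]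
    have e1 : Tm (Formal.completion I G) W h1 ((α.app (op (n + (s + 1)))).app W x'') =
        (α.app (op (n + s))).app W (Tm F W h1 x'') := by
      have := am_Tm α W h1
      exact congr($this x'')
    have e2 : Tm (Formal.completion I G) W h1 ((πG I G (n + (s + 1))).app W m) =
        (πG I G (n + s)).app W m := by
      have h0 : (πG I G (n + (s + 1)) ≫ (Formal.completion I G).map (homOfLE h1).op).app W =
          (πG I G (n + s)).app W := by rw [πG_map]
      exact congr($h0 m)
    rw [e1, e2, hx'', hcond, sub_self]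
  rw [ker_Tm I hĜ hW h1] at hδker
  have hJ : (Jm I W) ^ (n + s + 1) •
      (⊤ : Submodule Γ(X, W) Γ((Formal.completion I G).obj (op (n + (s + 1))), W)) =
      (Jm I W) ^ (n + 1) • ((Jm I W) ^ s • ⊤) := by
    have e : n + s + 1 = n + 1 + s := by omega
    rw [← Submodule.mul_smul, ← pow_add, e]
  have hrange : (Jm I W) ^ s •
      (⊤ : Submodule Γ(X, W) Γ((Formal.completion I G).obj (op (n + (s + 1))), W)) ≤
      LinearMap.range (am α W (n + (s + 1))) := by
    rw [Submodule.smul_le]
    intro b hb y _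
    have hb' : b ∈ Jm (I ^ t) W := by
      have hle : (Jm I W) ^ s ≤ (Jm I W) ^ t := Ideal.pow_le_pow_right hs
      have hJt : (Jm I W) ^ t = Jm (I ^ t) W := (Ideal.map_pow _ _ _).symm
      rw [← hJt]
      exact hle hb
    obtain ⟨x, hx⟩ := smul_mem_range_of_killed_coker (α.app (op (n + (s + 1)))) (hcok _) hW b hb' y
    exact ⟨x, hx⟩
  have hδ2 : δ ∈ Submodule.map (am α W (n + (s + 1)))
      ((Jm I W) ^ (n + 1) • (⊤ : Submodule Γ(X, W) Γ(F.obj (op (n + (s + 1))), W))) := by
    rw [Submodule.map_smul'', Submodule.map_top]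
    rw [hJ] at hδker
    exact Submodule.smul_mono le_rfl hrange hδker
  obtain ⟨y, hy, hyδ⟩ := hδ2
  have hyker : y ∈ LinearMap.ker (Tm F W (Nat.le_add_right n (s + 1))) := by
    rw [ker_Tm I hF hW (Nat.le_add_right n (s + 1))]
    exact hy
  have hcond' : (α.app (op (n + (s + 1)))).app W (x'' - y) = (πG I G (n + (s + 1))).app W m := by
    have e0 : (α.app (op (n + (s + 1)))).app W (x'' - y) =
        (α.app (op (n + (s + 1)))).app W x'' - (α.app (op (n + (s + 1)))).app W y :=
      map_sub (am α W (n + (s + 1))) x'' y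
    have e1 : (α.app (op (n + (s + 1)))).app W y = δ := hyδ
    rw [e0, e1, hδ]
    abel
  obtain ⟨w', hw1, hw2⟩ := pullback_section (α.app (op (n + (s + 1)))) (πG I G (n + (s + 1))) W
    (x'' - y) m hcond'
  refine ⟨w', ?_⟩
  apply pullback_section_ext (α.app (op n)) (πG I G n) W
  · have eL : (fstP I α n).app W ((tP I α (Nat.le_add_right n (s + 1))).app W w') =
        Tm F W (Nat.le_add_right n (s + 1)) (x'' - y) := by
      have h0 : (tP I α (Nat.le_add_right n (s + 1)) ≫ fstP I α n).app W =
          (fstP I α (n + (s + 1)) ≫ F.map (homOfLE (Nat.le_add_right n (s + 1))).op).app W := by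
        rw [tP_fst]
      have h2 := congr($h0 w')
      rw [← hw1]
      exact h2
    have eR : (fstP I α n).app W ((tP I α (Nat.le_add_right n s)).app W w) =
        Tm F W (Nat.le_add_right n s) x' := by
      have h0 : (tP I α (Nat.le_add_right n s) ≫ fstP I α n).app W =
          (fstP I α (n + s) ≫ F.map (homOfLE (Nat.le_add_right n s)).op).app W := by
        rw [tP_fst]
      have h2 := congr($h0 w)
      rw [hx']
      exact h2
    refine eL.trans (Eq.trans ?_ eR.symm)
    rw [map_sub, LinearMap.mem_ker.mp hyker, sub_zero, ← hx'']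
    have h3 := Tm_comp F W (Nat.le_add_right n s) h1
    exact congr($h3 x'').symm
  · have eL : (sndP I α n).app W ((tP I α (Nat.le_add_right n (s + 1))).app W w') = m := by
      have h0 : (tP I α (Nat.le_add_right n (s + 1)) ≫ sndP I α n).app W =
          (sndP I α (n + (s + 1))).app W := by
        rw [tP_snd]
      have h2 := congr($h0 w')
      rw [← hw2]
      exact h2
    have eR : (sndP I α n).app W ((tP I α (Nat.le_add_right n s)).app W w) = m := by
      have h0 : (tP I α (Nat.le_add_right n s) ≫ sndP I α n).app W =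
          (sndP I α (n + s)).app W := by
        rw [tP_snd]
      have h2 := congr($h0 w)
      rw [hm]
      exact h2
    exact eL.trans eR.symm

/-- (A) -/
theorem stab {G : X.Modules} {F : ℕᵒᵖ ⥤ X.Modules} (α : F ⟶ Formal.completion I G)
    [IsNoetherian X] (hG : Coh.IsCoh G) (hF : Formal.IsCohFormal I F) {t : ℕ}
    (hcok : ∀ n, Formal.KilledBy (I ^ t) (cokernel (α.app (op n)))) (s n : ℕ) (hs : t ≤ s) :
    tP I α (Nat.le_add_right n s) ≫ cokernel.π (tP I α (Nat.le_add_right n (s + 1))) = 0 := by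
  have hĜ := Groth.Agent.S9536.isCohFormal_completion I G hG
  haveI : G.IsQuasicoherent := hG.1
  haveI : ∀ k, (F.obj (op k)).IsQuasicoherent := fun k => (hF.1 k).1
  haveI : ∀ k, ((Formal.completion I G).obj (op k)).IsQuasicoherent := fun k => (hĜ.1 k).1
  haveI : (P I α (n + s)).IsQuasicoherent :=
    Groth.Agent.H22.QCohLimits.isQuasicoherent_pullback _ _
  have hcov : TopologicalSpace.IsOpenCover (fun V : X.affineOpens => (V.1 : X.Opens)) := by
    apply TopologicalSpace.IsOpenCover.mk
    ext x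
    simp only [TopologicalSpace.Opens.coe_iSup, Set.mem_iUnion, SetLike.mem_coe,
      TopologicalSpace.Opens.coe_top, Set.mem_univ, iff_true]
    obtain ⟨_, ⟨V, hV, rfl⟩, hxV, -⟩ :=
      X.isBasis_affineOpens.exists_subset_of_mem_open (Set.mem_univ x) isOpen_univ
    exact ⟨⟨V, hV⟩, hxV⟩
  apply eq_zero_of_affine_cover _ (fun V : X.affineOpens => (V.1 : X.Opens)) hcov (fun V => V.2)
  intro V w
  obtain ⟨w', hw'⟩ := stab_sec I α hG hF hcok s n hs V.2 w
  change (cokernel.π (tP I α (Nat.le_add_right n (s + 1)))).app V.1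
    ((tP I α (Nat.le_add_right n s)).app V.1 w) = 0
  rw [← hw']
  have h0 : (tP I α (Nat.le_add_right n (s + 1)) ≫
      cokernel.π (tP I α (Nat.le_add_right n (s + 1)))).app V.1 = 0 := by
    rw [cokernel.condition]; rfl
  exact congr($h0 w')

end Groth.Agent.H76.Ex_A
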