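import Mathlib

set_option autoImplicit false
universe u

namespace Groth.Agent.H76

open TensorProduct exteriorPower

section
variable (A B M : Type u) [CommRing A] [CommRing B] [Algebra A B] [AddCommGroup M] [Module A M]

/-- The `A`-alternating map `m ↦ (1 ⊗ m₁) ∧ … ∧ (1 ⊗ m_p)`. -/
noncomputable def altBC (p : ℕ) : M [⋀^Fin p]→ₗ[A] ↥(⋀[B]^p (B ⊗[A] M)) :=
  { ((ιMulti B p (M := B ⊗[A] M)).toMultilinearMap.restrictScalars A).compLinearMap
      (fun _ => TensorProduct.mk A B M 1) with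
    map_eq_zero_of_eq' := by
      intro v i j hij hne
      exact (ιMulti B p (M := B ⊗[A] M)).map_eq_zero_of_eq
        (fun i => TensorProduct.mk A B M 1 (v i)) (by simp [hij]) hne }

lemma altBC_apply (p : ℕ) (m : Fin p → M) :
    altBC A B M p m = ιMulti B p (fun i => (1 : B) ⊗ₜ[A] m i) := rfl

/-- The `A`-linear map `⋀ᵖ_A M → ⋀ᵖ_B (B ⊗ M)`. -/
noncomputable def extPowToBaseChange (p : ℕ) : ↥(⋀[A]^p M) →ₗ[A] ↥(⋀[B]^p (B ⊗[A] M)) :=
  alternatingMapLinearEquiv (altBC A B M p)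

lemma extPowToBaseChange_ιMulti (p : ℕ) (m : Fin p → M) :
    extPowToBaseChange A B M p (ιMulti A p m) = ιMulti B p (fun i => (1 : B) ⊗ₜ[A] m i) := by
  unfold extPowToBaseChange
  rw [alternatingMapLinearEquiv_apply_ιMulti, altBC_apply]

/-- The base change map `B ⊗ ⋀ᵖ_A M → ⋀ᵖ_B (B ⊗ M)`. -/
noncomputable def extPowBC (p : ℕ) : B ⊗[A] ↥(⋀[A]^p M) →ₗ[B] ↥(⋀[B]^p (B ⊗[A] M)) :=
  LinearMap.liftBaseChange B (extPowToBaseChange A B M p)

lemma extPowBC_tmul (p : ℕ) (b : B) (x : ↥(⋀[A]^p M)) :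
    extPowBC A B M p (b ⊗ₜ[A] x) = b • extPowToBaseChange A B M p x := rfl

lemma span_one_tmul_eq_top :
    Submodule.span B (Set.range (fun m : M => (1 : B) ⊗ₜ[A] m)) = ⊤ := by
  rw [eq_top_iff]
  rintro x -
  induction x using TensorProduct.induction_on with
  | zero => exact Submodule.zero_mem _
  | tmul b m =>
    have : b ⊗ₜ[A] m = b • ((1 : B) ⊗ₜ[A] m) := by
      rw [TensorProduct.smul_tmul', smul_eq_mul, mul_one]
    rw [this]
    exact Submodule.smul_mem _ _ (Submodule.subset_span ⟨m, rfl⟩)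
  | add x y hx hy => exact Submodule.add_mem _ hx hy

lemma extPowBC_surjective (p : ℕ) : Function.Surjective (extPowBC A B M p) := by
  rw [← LinearMap.range_eq_top, eq_top_iff,
    ← ιMulti_span_of_span B p (B ⊗[A] M) (span_one_tmul_eq_top A B M)]
  refine Submodule.span_le.2 ?_
  rintro _ ⟨a, ha, rfl⟩
  have hch : ∀ i, ∃ m : M, (1 : B) ⊗ₜ[A] m = a i := fun i => ha ⟨i, rfl⟩
  choose m hm using hch
  refine ⟨(1 : B) ⊗ₜ[A] ιMulti A p m, ?_⟩
  rw [extPowBC_tmul, one_smul, extPowToBaseChange_ιMulti]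
  congr 1
  funext i
  exact hm i

/-- The base change of `ι`. -/
noncomputable def baseChangeι : B ⊗[A] M →ₗ[B] B ⊗[A] ExteriorAlgebra A M :=
  (ExteriorAlgebra.ι A).baseChange B

lemma baseChangeι_tmul (b : B) (m : M) :
    baseChangeι A B M (b ⊗ₜ[A] m) = b ⊗ₜ[A] ExteriorAlgebra.ι A m := rfl

lemma baseChangeι_swap (x y : B ⊗[A] M) :
    baseChangeι A B M x * baseChangeι A B M y + baseChangeι A B M y * baseChangeι A B M x = 0 := by
  induction x using TensorProduct.induction_on with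
  | zero => simp
  | tmul b m =>
    induction y using TensorProduct.induction_on with
    | zero => simp
    | tmul b' m' =>
      rw [baseChangeι_tmul, baseChangeι_tmul, Algebra.TensorProduct.tmul_mul_tmul,
        Algebra.TensorProduct.tmul_mul_tmul, mul_comm b' b, ← TensorProduct.tmul_add,
        ExteriorAlgebra.ι_add_mul_swap, TensorProduct.tmul_zero]
    | add y₁ y₂ h₁ h₂ =>
      rw [map_add, mul_add, add_mul, add_add_add_comm, h₁, h₂, add_zero]
  | add x₁ x₂ h₁ h₂ =>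
    rw [map_add, add_mul, mul_add, add_add_add_comm, h₁, h₂, add_zero]

lemma baseChangeι_sq (x : B ⊗[A] M) : baseChangeι A B M x * baseChangeι A B M x = 0 := by
  induction x using TensorProduct.induction_on with
  | zero => simp
  | tmul b m =>
    rw [baseChangeι_tmul, Algebra.TensorProduct.tmul_mul_tmul, ExteriorAlgebra.ι_sq_zero,
      TensorProduct.tmul_zero]
  | add x y hx hy =>
    rw [map_add, mul_add, add_mul, add_mul, hx, hy, zero_add, add_zero, baseChangeι_swap]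

/-- The algebra map `⋀_B (B ⊗ M) → B ⊗ ⋀_A M`. -/
noncomputable def extAlgBCInv : ExteriorAlgebra B (B ⊗[A] M) →ₐ[B] B ⊗[A] ExteriorAlgebra A M :=
  ExteriorAlgebra.lift B ⟨baseChangeι A B M, baseChangeι_sq A B M⟩

lemma extAlgBCInv_ι (x : B ⊗[A] M) :
    extAlgBCInv A B M (ExteriorAlgebra.ι B x) = baseChangeι A B M x :=
  ExteriorAlgebra.lift_ι_apply _ _ _ _

lemma extAlgBCInv_ιMulti (p : ℕ) (m : Fin p → M) :
    extAlgBCInv A B M (ExteriorAlgebra.ιMulti B p (fun i => (1 : B) ⊗ₜ[A] m i)) =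
      (1 : B) ⊗ₜ[A] ExteriorAlgebra.ιMulti A p m := by
  induction p with
  | zero =>
    rw [ExteriorAlgebra.ιMulti_zero_apply, ExteriorAlgebra.ιMulti_zero_apply, map_one,
      Algebra.TensorProduct.one_def]
  | succ p ih =>
    rw [ExteriorAlgebra.ιMulti_succ_apply, ExteriorAlgebra.ιMulti_succ_apply, map_mul,
      extAlgBCInv_ι]
    have : Matrix.vecTail (fun i => (1 : B) ⊗ₜ[A] m i) =
        fun i => (1 : B) ⊗ₜ[A] (Matrix.vecTail m) i := rfl
    rw [this, ih (Matrix.vecTail m), baseChangeι_tmul, Algebra.TensorProduct.tmul_mul_tmul,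
      mul_one]

/-- Projection of the exterior algebra onto its degree `p` part. -/
noncomputable def extProj (p : ℕ) : ExteriorAlgebra A M →ₗ[A] ↥(⋀[A]^p M) :=
  (DirectSum.component A ℕ (fun i => ↥(⋀[A]^i M)) p) ∘ₗ
    (DirectSum.decomposeLinearEquiv (fun i : ℕ => ⋀[A]^i M)).toLinearMap

lemma extProj_coe (p : ℕ) (x : ↥(⋀[A]^p M)) : extProj A M p (x : ExteriorAlgebra A M) = x := by
  show (DirectSum.decompose (fun i : ℕ => ⋀[A]^i M) (x : ExteriorAlgebra A M)) p = x
  rw [DirectSum.decompose_coe, DirectSum.of_eq_same]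

lemma extPowBC_injective (p : ℕ) : Function.Injective (extPowBC A B M p) := by
  let γ : ↥(⋀[B]^p (B ⊗[A] M)) →ₗ[B] B ⊗[A] ↥(⋀[A]^p M) :=
    ((extProj A M p).baseChange B) ∘ₗ (extAlgBCInv A B M).toLinearMap ∘ₗ
      (⋀[B]^p (B ⊗[A] M)).subtype
  have h : γ ∘ₗ extPowBC A B M p = LinearMap.id := by
    apply TensorProduct.AlgebraTensorModule.curry_injective
    apply LinearMap.ext_ring
    apply exteriorPower.linearMap_ext
    ext m
    show γ (extPowBC A B M p ((1 : B) ⊗ₜ[A] ιMulti A p m)) = (1 : B) ⊗ₜ[A] ιMulti A p m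
    rw [extPowBC_tmul, one_smul, extPowToBaseChange_ιMulti]
    show (extProj A M p).baseChange B (extAlgBCInv A B M
      ((ιMulti B p (fun i => (1 : B) ⊗ₜ[A] m i) : ↥(⋀[B]^p (B ⊗[A] M))) :
        ExteriorAlgebra B (B ⊗[A] M))) = _
    rw [exteriorPower.ιMulti_apply_coe, extAlgBCInv_ιMulti, LinearMap.baseChange_tmul,
      ← exteriorPower.ιMulti_apply_coe, extProj_coe]
  exact Function.LeftInverse.injective (g := γ) (fun z => LinearMap.congr_fun h z)

lemma extPowBC_bijective (p : ℕ) : Function.Bijective (extPowBC A B M p) :=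
  ⟨extPowBC_injective A B M p, extPowBC_surjective A B M p⟩

end

end Groth.Agent.H76
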