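import Mathlib

set_option autoImplicit false
universe u

namespace Groth.Agent.H76

open exteriorPower

variable {A M N : Type u} [CommRing A] [AddCommGroup M] [Module A M] [AddCommGroup N] [Module A N]

/-- The inclusion of an exterior power into the exterior algebra is compatible with the maps
induced by a linear map. -/
lemma coe_map (n : ℕ) (f : M →ₗ[A] N) (x : ↥(⋀[A]^n M)) :
    ((exteriorPower.map n f x : ↥(⋀[A]^n N)) : ExteriorAlgebra A N) =
      ExteriorAlgebra.map f (x : ExteriorAlgebra A M) := by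
  have h : (⋀[A]^n N).subtype ∘ₗ exteriorPower.map n f =
      (ExteriorAlgebra.map f).toLinearMap ∘ₗ (⋀[A]^n M).subtype := by
    apply exteriorPower.linearMap_ext
    ext m
    simp only [LinearMap.compAlternatingMap_apply, LinearMap.coe_comp, Function.comp_apply,
      Submodule.coe_subtype, exteriorPower.map_apply_ιMulti, exteriorPower.ιMulti_apply_coe,
      AlgHom.toLinearMap_apply, ExteriorAlgebra.map_apply_ιMulti]
  exact LinearMap.congr_fun h x

lemma coe_ιMulti_cons (n : ℕ) (x : M) (v : Fin n → M) :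
    ((ιMulti A (n + 1) (Fin.cons x v : Fin (n + 1) → M) : ↥(⋀[A]^(n + 1) M)) : ExteriorAlgebra A M) =
      ExteriorAlgebra.ι A x * ExteriorAlgebra.ιMulti A n v := by
  rw [exteriorPower.ιMulti_apply_coe, ExteriorAlgebra.ιMulti_succ_apply, Fin.cons_zero]
  congr 2

lemma oneEquiv_symm_eq (x : M) : (oneEquiv A M).symm x = ιMulti A 1 (fun _ => x) := by
  rw [LinearEquiv.symm_apply_eq, oneEquiv_ιMulti]

lemma coe_oneEquiv_symm (x : M) :
    (((oneEquiv A M).symm x : ↥(⋀[A]^1 M)) : ExteriorAlgebra A M) = ExteriorAlgebra.ι A x := by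
  rw [oneEquiv_symm_eq, exteriorPower.ιMulti_apply_coe, ExteriorAlgebra.ιMulti_succ_apply,
    ExteriorAlgebra.ιMulti_zero_apply, mul_one]

/-- `x ↦ x ∧ v₁ ∧ … ∧ vₙ` as a linear map. -/
noncomputable def consLin (n : ℕ) (v : Fin n → M) : M →ₗ[A] ↥(⋀[A]^(n + 1) M) where
  toFun x := (ιMulti A (n + 1)).curryLeft x v
  map_add' x y := by rw [map_add, AlternatingMap.add_apply]
  map_smul' r x := by rw [map_smul, AlternatingMap.smul_apply, RingHom.id_apply]

lemma consLin_apply (n : ℕ) (v : Fin n → M) (x : M) :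
    consLin (A := A) n v x = ιMulti A (n + 1) (Fin.cons x v : Fin (n + 1) → M) := rfl

/-- The span of the wedges having at least one coordinate in `K`. -/
def wedgeSpan (K : Submodule A M) (n : ℕ) : Submodule A ↥(⋀[A]^n M) :=
  Submodule.span A {x | ∃ m : Fin n → M, (∃ i, m i ∈ K) ∧ x = ιMulti A n m}

lemma ιMulti_mem_wedgeSpan (K : Submodule A M) (n : ℕ) (m : Fin n → M) (i : Fin n)
    (hi : m i ∈ K) : ιMulti A n m ∈ wedgeSpan K n :=
  Submodule.subset_span ⟨m, ⟨i, hi⟩, rfl⟩

lemma ιMulti_sub_mem_wedgeSpan (K : Submodule A M) (n : ℕ) :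
    ∀ (S : Finset (Fin n)) (m m' : Fin n → M), (∀ i ∈ S, m i - m' i ∈ K) →
      (∀ i, i ∉ S → m i = m' i) → ιMulti A n m - ιMulti A n m' ∈ wedgeSpan K n := by
  intro S
  induction S using Finset.induction_on with
  | empty =>
    intro m m' _ h
    have : m = m' := funext fun i => h i (Finset.notMem_empty i)
    rw [this, sub_self]
    exact Submodule.zero_mem _
  | insert a S ha ih =>
    intro m m' h1 h2
    have e1 : ιMulti A n m - ιMulti A n (Function.update m a (m' a)) =
        ιMulti A n (Function.update m a (m a - m' a)) := by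
      rw [AlternatingMap.map_update_sub, Function.update_eq_self]
    have h3 : ιMulti A n (Function.update m a (m' a)) - ιMulti A n m' ∈ wedgeSpan K n := by
      apply ih
      · intro i hi
        have hia : i ≠ a := fun h => ha (h ▸ hi)
        rw [Function.update_of_ne hia]
        exact h1 i (Finset.mem_insert_of_mem hi)
      · intro i hi
        by_cases hia : i = a
        · subst hia
          rw [Function.update_self]
        · rw [Function.update_of_ne hia]
          exact h2 i (fun h => (Finset.mem_insert.1 h).elim hia hi)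
    have h4 : ιMulti A n (Function.update m a (m a - m' a)) ∈ wedgeSpan K n :=
      ιMulti_mem_wedgeSpan K n _ a (by
        rw [Function.update_self]; exact h1 a (Finset.mem_insert_self a S))
    have e2 : ιMulti A n m - ιMulti A n m' = ιMulti A n (Function.update m a (m a - m' a)) +
        (ιMulti A n (Function.update m a (m' a)) - ιMulti A n m') := by
      rw [← e1]; abel
    rw [e2]
    exact Submodule.add_mem _ h4 h3

lemma mkQ_ιMulti_update_eq (K : Submodule A M) (n : ℕ) (w : Fin n → M) (i : Fin n) (a b : M)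
    (h : a - b ∈ K) :
    (wedgeSpan K n).mkQ (ιMulti A n (Function.update w i a)) =
      (wedgeSpan K n).mkQ (ιMulti A n (Function.update w i b)) := by
  rw [← sub_eq_zero, ← map_sub, Submodule.mkQ_apply, Submodule.Quotient.mk_eq_zero,
    ← AlternatingMap.map_update_sub]
  exact ιMulti_mem_wedgeSpan K n _ i (by rw [Function.update_self]; exact h)

/-- For a surjective linear map `π`, the kernel of `⋀ⁿ π` is generated by the wedges having a
coordinate in `ker π`. -/
lemma ker_map_le_wedgeSpan (n : ℕ) (π : M →ₗ[A] N) (hπ : Function.Surjective π) :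
    LinearMap.ker (exteriorPower.map n π) ≤ wedgeSpan (LinearMap.ker π) n := by
  classical
  let s : N → M := Function.surjInv hπ
  have hs : ∀ y, π (s y) = y := Function.surjInv_eq hπ
  let F : N [⋀^Fin n]→ₗ[A] (↥(⋀[A]^n M) ⧸ wedgeSpan (LinearMap.ker π) n) :=
    { toFun := fun v => (wedgeSpan (LinearMap.ker π) n).mkQ (ιMulti A n (s ∘ v))
      map_update_add' := by
        intro inst v i x y
        obtain rfl : inst = instDecidableEqFin n := Subsingleton.elim _ _
        simp only [Function.comp_update]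
        rw [mkQ_ιMulti_update_eq (LinearMap.ker π) n (s ∘ v) i (s (x + y)) (s x + s y)
          (by simp [LinearMap.mem_ker, hs]), AlternatingMap.map_update_add, map_add]
      map_update_smul' := by
        intro inst v i r x
        obtain rfl : inst = instDecidableEqFin n := Subsingleton.elim _ _
        simp only [Function.comp_update]
        rw [mkQ_ιMulti_update_eq (LinearMap.ker π) n (s ∘ v) i (s (r • x)) (r • s x)
          (by simp [LinearMap.mem_ker, hs]), AlternatingMap.map_update_smul, map_smul]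
      map_eq_zero_of_eq' := by
        intro v i j hij hne
        have : ιMulti A n (s ∘ v) = 0 :=
          (ιMulti A n).map_eq_zero_of_eq (s ∘ v) (by simp [hij]) hne
        rw [this, map_zero] }
  let g : ↥(⋀[A]^n N) →ₗ[A] (↥(⋀[A]^n M) ⧸ wedgeSpan (LinearMap.ker π) n) :=
    alternatingMapLinearEquiv F
  have hg : g ∘ₗ exteriorPower.map n π = (wedgeSpan (LinearMap.ker π) n).mkQ := by
    apply exteriorPower.linearMap_ext
    ext m
    simp only [LinearMap.compAlternatingMap_apply, LinearMap.coe_comp, Function.comp_apply,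
      exteriorPower.map_apply_ιMulti]
    rw [show g (ιMulti A n (π ∘ m)) = F (π ∘ m) from
      alternatingMapLinearEquiv_apply_ιMulti F (π ∘ m)]
    show (wedgeSpan (LinearMap.ker π) n).mkQ (ιMulti A n (s ∘ π ∘ m)) =
      (wedgeSpan (LinearMap.ker π) n).mkQ (ιMulti A n m)
    rw [← sub_eq_zero, ← map_sub, Submodule.mkQ_apply, Submodule.Quotient.mk_eq_zero]
    apply ιMulti_sub_mem_wedgeSpan (LinearMap.ker π) n Finset.univ
    · intro i _
      simp [LinearMap.mem_ker, hs]
    · intro i hi
      exact absurd (Finset.mem_univ i) hi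
  intro x hx
  have h0 : (wedgeSpan (LinearMap.ker π) n).mkQ x = 0 := by
    rw [← hg, LinearMap.comp_apply, LinearMap.mem_ker.1 hx, map_zero]
  rwa [Submodule.mkQ_apply, Submodule.Quotient.mk_eq_zero] at h0

/-- If `κ ∈ K ≤ span W` and `s` spans `M`, then `κ ∧ m₁ ∧ … ∧ mₙ` lies in the span of the wedges
`ω ∧ b₁ ∧ … ∧ bₙ` with `ω ∈ W` and all `bᵢ ∈ s`. -/
lemma ιMulti_cons_mem_span (n : ℕ) (K : Submodule A M) (W : Set M)
    (hK : K ≤ Submodule.span A W) (s : Set M) (hs : Submodule.span A s = ⊤)
    (κ : M) (hκ : κ ∈ K) (m' : Fin n → M) :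
    ιMulti A (n + 1) (Fin.cons κ m' : Fin (n + 1) → M) ∈
      Submodule.span A {x | ∃ ω ∈ W, ∃ b : Fin n → M, Set.range b ⊆ s ∧
        x = ιMulti A (n + 1) (Fin.cons ω b : Fin (n + 1) → M)} := by
  have h1 : ∀ ω ∈ W, ∀ m' : Fin n → M,
      ιMulti A (n + 1) (Fin.cons ω m' : Fin (n + 1) → M) ∈
        Submodule.span A {x | ∃ ω ∈ W, ∃ b : Fin n → M, Set.range b ⊆ s ∧
          x = ιMulti A (n + 1) (Fin.cons ω b : Fin (n + 1) → M)} := by
    intro ω hω m'
    let L : ↥(⋀[A]^n M) →ₗ[A] ↥(⋀[A]^(n + 1) M) :=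
      alternatingMapLinearEquiv ((ιMulti A (n + 1)).curryLeft ω)
    have hL : ∀ b : Fin n → M,
        L (ιMulti A n b) = ιMulti A (n + 1) (Fin.cons ω b : Fin (n + 1) → M) := fun b => by
      rw [show L (ιMulti A n b) = ((ιMulti A (n + 1)).curryLeft ω) b from
        alternatingMapLinearEquiv_apply_ιMulti _ b]
      rfl
    have htop : ιMulti A n m' ∈
        Submodule.span A (ιMulti A n '' {a : Fin n → M | Set.range a ⊆ s}) := by
      rw [ιMulti_span_of_span A n _ hs]; trivial
    have h2 : L (ιMulti A n m') ∈ Submodule.map L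
        (Submodule.span A (ιMulti A n '' {a : Fin n → M | Set.range a ⊆ s})) :=
      Submodule.mem_map_of_mem htop
    rw [Submodule.map_span] at h2
    rw [← hL]
    refine Submodule.span_mono ?_ h2
    rintro _ ⟨_, ⟨b, hb, rfl⟩, rfl⟩
    exact ⟨ω, hω, b, hb, hL b⟩
  have h2 : consLin (A := A) n m' κ ∈ Submodule.map (consLin (A := A) n m') (Submodule.span A W) :=
    Submodule.mem_map_of_mem (hK hκ)
  rw [Submodule.map_span] at h2
  refine Submodule.span_le.2 ?_ h2
  rintro _ ⟨ω, hω, rfl⟩
  exact h1 ω hω m'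

/-- Generators of the kernel of `⋀ⁿ⁺¹ π` for a surjective `π` whose kernel lies in the span of `W`. -/
lemma ker_map_le_span (n : ℕ) (π : M →ₗ[A] N) (hπ : Function.Surjective π) (W : Set M)
    (hK : LinearMap.ker π ≤ Submodule.span A W) (s : Set M) (hs : Submodule.span A s = ⊤) :
    LinearMap.ker (exteriorPower.map (n + 1) π) ≤
      Submodule.span A {x | ∃ ω ∈ W, ∃ b : Fin n → M, Set.range b ⊆ s ∧
        x = ιMulti A (n + 1) (Fin.cons ω b : Fin (n + 1) → M)} := by
  refine (ker_map_le_wedgeSpan (n + 1) π hπ).trans ?_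
  refine Submodule.span_le.2 ?_
  rintro _ ⟨m, ⟨i, hi⟩, rfl⟩
  by_cases h0 : i = 0
  · subst h0
    have e : ιMulti A (n + 1) m = ιMulti A (n + 1) (Fin.cons (m 0) (Fin.tail m) : Fin (n + 1) → M) := by
      rw [Fin.cons_self_tail]
    rw [SetLike.mem_coe, e]
    exact ιMulti_cons_mem_span n _ W hK s hs (m 0) hi _
  · have hsw : ιMulti A (n + 1) m = - ιMulti A (n + 1) (m ∘ Equiv.swap i 0) := by
      rw [AlternatingMap.map_swap _ _ h0, neg_neg]
    have e : ιMulti A (n + 1) (m ∘ Equiv.swap i 0) =
        ιMulti A (n + 1) (Fin.cons ((m ∘ Equiv.swap i 0) 0) (Fin.tail (m ∘ Equiv.swap i 0)) :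
          Fin (n + 1) → M) := by
      rw [Fin.cons_self_tail]
    rw [SetLike.mem_coe, hsw, e]
    refine Submodule.neg_mem _ ?_
    refine ιMulti_cons_mem_span n _ W hK s hs _ ?_ _
    show m (Equiv.swap i 0 0) ∈ LinearMap.ker π
    rw [Equiv.swap_apply_right]
    exact hi

end Groth.Agent.H76
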