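import Groth.Agent.H76.CokerProj
import Mathlib.RingTheory.Spectrum.Prime.FreeLocus
import Mathlib.RingTheory.Spectrum.Prime.Topology
import Mathlib.RingTheory.LocalRing.Module
import Mathlib.RingTheory.LocalProperties.Reduced
import Mathlib.RingTheory.Localization.Integer
import Mathlib.RingTheory.Nilpotent.Lemmas
import Mathlib.RingTheory.Ideal.Operations
import Mathlib.LinearAlgebra.FiniteDimensional.Lemmas
import Mathlib.LinearAlgebra.Dimension.OrzechProperty
import Mathlib.LinearAlgebra.TensorProduct.RightExactness
import Mathlib.Topology.LocallyConstant.Basic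
import Mathlib.Topology.Semicontinuity.Basic

/-!
# Fibre dimensions of a finite module

`fdim A M p = dim_{κ(p)} κ(p) ⊗ M`.  Upper semicontinuity for finite modules, and: a finitely
presented module over a reduced ring with locally constant fibre dimension is projective.
-/

set_option autoImplicit false
universe u v w

namespace Groth.Agent.H76

open TensorProduct

section
variable (A : Type u) [CommRing A] (M : Type v) [AddCommGroup M] [Module A M]

/-- The dimension of the fibre `κ(p) ⊗ M`. -/
noncomputable def fdim (p : PrimeSpectrum A) : ℕ :=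
  Module.finrank p.asIdeal.ResidueField (p.asIdeal.ResidueField ⊗[A] M)

end

section
variable {A : Type u} [CommRing A] {M : Type v} [AddCommGroup M] [Module A M]

lemma span_one_tmul_eq_top (q : PrimeSpectrum A) (N : Submodule A M)
    (h : ∀ x : M, ∃ t : A, t ∉ q.asIdeal ∧ t • x ∈ N) :
    Submodule.span q.asIdeal.ResidueField
      ((fun n : M => (1 : q.asIdeal.ResidueField) ⊗ₜ[A] n) '' (N : Set M)) = ⊤ := by
  rw [eq_top_iff]
  suffices hall : ∀ x : q.asIdeal.ResidueField ⊗[A] M, x ∈ Submodule.span q.asIdeal.ResidueField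
      ((fun n : M => (1 : q.asIdeal.ResidueField) ⊗ₜ[A] n) '' (N : Set M)) from
    fun x _ => hall x
  intro x
  induction x using TensorProduct.induction_on with
  | zero => exact Submodule.zero_mem _
  | add x y hx hy => exact Submodule.add_mem _ hx hy
  | tmul c m =>
    obtain ⟨t, ht, htm⟩ := h m
    have ht' : algebraMap A q.asIdeal.ResidueField t ≠ 0 := by
      rw [ne_eq, Ideal.algebraMap_residueField_eq_zero]
      exact ht
    have h0 : (1 : q.asIdeal.ResidueField) ⊗ₜ[A] (t • m) =
        (algebraMap A q.asIdeal.ResidueField t) ⊗ₜ[A] m := by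
      rw [TensorProduct.tmul_smul, TensorProduct.smul_tmul', Algebra.smul_def, mul_one]
    have h1 : c ⊗ₜ[A] m = (c * (algebraMap A q.asIdeal.ResidueField t)⁻¹) •
        ((1 : q.asIdeal.ResidueField) ⊗ₜ[A] (t • m)) := by
      rw [h0, TensorProduct.smul_tmul', smul_eq_mul, mul_assoc, inv_mul_cancel₀ ht', mul_one]
    rw [h1]
    exact Submodule.smul_mem _ _ (Submodule.subset_span ⟨t • m, htm, rfl⟩)

lemma span_one_tmul_range_eq_top {ι : Type*} (q : PrimeSpectrum A) (m : ι → M)
    (h : ∀ x : M, ∃ t : A, t ∉ q.asIdeal ∧ t • x ∈ Submodule.span A (Set.range m)) :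
    Submodule.span q.asIdeal.ResidueField
      (Set.range fun i => (1 : q.asIdeal.ResidueField) ⊗ₜ[A] m i) = ⊤ := by
  rw [eq_top_iff, ← span_one_tmul_eq_top q _ h, Submodule.span_le]
  rintro _ ⟨n, hn, rfl⟩
  have hle : Submodule.span A (Set.range m) ≤
      ((Submodule.span q.asIdeal.ResidueField
        (Set.range fun i => (1 : q.asIdeal.ResidueField) ⊗ₜ[A] m i)).restrictScalars A).comap
        (TensorProduct.mk A q.asIdeal.ResidueField M 1) := by
    rw [Submodule.span_le]
    rintro _ ⟨i, rfl⟩
    show (1 : q.asIdeal.ResidueField) ⊗ₜ[A] m i ∈ Submodule.span q.asIdeal.ResidueField _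
    exact Submodule.subset_span ⟨i, rfl⟩
  exact hle hn

lemma exists_smul_mem_span_of_span_eq_top {ι : Type*} (p : PrimeSpectrum A) (m : ι → M)
    (h : Submodule.span (Localization.AtPrime p.asIdeal)
      (Set.range fun i => LocalizedModule.mkLinearMap p.asIdeal.primeCompl M (m i)) = ⊤)
    (x : M) :
    ∃ t : A, t ∉ p.asIdeal ∧ t • x ∈ Submodule.span A (Set.range m) := by
  have key : ∀ y ∈ Submodule.span (Localization.AtPrime p.asIdeal)
      (Set.range fun i => LocalizedModule.mkLinearMap p.asIdeal.primeCompl M (m i)),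
      ∃ (t : p.asIdeal.primeCompl) (n : M), n ∈ Submodule.span A (Set.range m) ∧
        (t : A) • y = LocalizedModule.mkLinearMap p.asIdeal.primeCompl M n := by
    intro y hy
    induction hy using Submodule.span_induction with
    | mem y hy =>
      obtain ⟨i, rfl⟩ := hy
      exact ⟨1, m i, Submodule.subset_span ⟨i, rfl⟩, by rw [Submonoid.coe_one, one_smul]⟩
    | zero => exact ⟨1, 0, Submodule.zero_mem _, by rw [smul_zero, map_zero]⟩
    | add y z _ _ hy hz =>
      obtain ⟨t₁, n₁, hn₁, e₁⟩ := hy
      obtain ⟨t₂, n₂, hn₂, e₂⟩ := hz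
      refine ⟨t₁ * t₂, (t₂ : A) • n₁ + (t₁ : A) • n₂,
        Submodule.add_mem _ (Submodule.smul_mem _ _ hn₁) (Submodule.smul_mem _ _ hn₂), ?_⟩
      have h1 : ((t₁ * t₂ : p.asIdeal.primeCompl) : A) • (y + z) =
          (t₂ : A) • ((t₁ : A) • y) + (t₁ : A) • ((t₂ : A) • z) := by
        rw [Submonoid.coe_mul, smul_add, mul_smul (t₁ : A) (t₂ : A) z,
          mul_comm (t₁ : A) (t₂ : A), mul_smul (t₂ : A) (t₁ : A) y]
      rw [h1, e₁, e₂, map_add, map_smul, map_smul]
    | smul r y _ hy =>
      obtain ⟨t, n, hn, e⟩ := hy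
      obtain ⟨⟨a, s⟩, hr⟩ := IsLocalization.surj p.asIdeal.primeCompl r
      have hr' : r * algebraMap A (Localization.AtPrime p.asIdeal) (s : A) =
          algebraMap A (Localization.AtPrime p.asIdeal) a := hr
      refine ⟨s * t, a • n, Submodule.smul_mem _ _ hn, ?_⟩
      have h2 : ((s * t : p.asIdeal.primeCompl) : A) • (r • y) =
          (r * algebraMap A (Localization.AtPrime p.asIdeal) (s : A)) • ((t : A) • y) := by
        rw [Submonoid.coe_mul, mul_smul, smul_comm (t : A) r y,
          ← algebraMap_smul (Localization.AtPrime p.asIdeal) (s : A) (r • (t : A) • y),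
          smul_smul, mul_comm]
      rw [h2, hr', algebraMap_smul, e, map_smul]
  obtain ⟨t, n, hn, e⟩ := key (LocalizedModule.mkLinearMap p.asIdeal.primeCompl M x)
    (by rw [h]; exact Submodule.mem_top)
  have h0 : LocalizedModule.mkLinearMap p.asIdeal.primeCompl M ((t : A) • x - n) = 0 := by
    rw [map_sub, map_smul, e, sub_self]
  obtain ⟨t', ht'⟩ := (IsLocalizedModule.eq_zero_iff p.asIdeal.primeCompl
    (LocalizedModule.mkLinearMap p.asIdeal.primeCompl M)).1 h0
  have h3 : (t' : A) • ((t : A) • x) = (t' : A) • n := by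
    have h4 : (t' : A) • ((t : A) • x - n) = 0 := ht'
    rw [smul_sub, sub_eq_zero] at h4
    exact h4
  refine ⟨(t' : A) * (t : A), (t' * t).2, ?_⟩
  rw [mul_smul, h3]
  exact Submodule.smul_mem _ _ hn

lemma exists_generators_localized [Module.Finite A M] (p : PrimeSpectrum A) :
    ∃ (d : ℕ) (m : Fin d → M), d = fdim A M p ∧
      Submodule.span (Localization.AtPrime p.asIdeal)
        (Set.range fun i => LocalizedModule.mkLinearMap p.asIdeal.primeCompl M (m i)) = ⊤ := by
  classical
  obtain ⟨v, hv⟩ := (TensorProduct.mk_surjective (Localization.AtPrime p.asIdeal)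
    (LocalizedModule p.asIdeal.primeCompl M)
    (IsLocalRing.ResidueField (Localization.AtPrime p.asIdeal))
    Ideal.Quotient.mk_surjective).comp_left
    (Module.finBasis (IsLocalRing.ResidueField (Localization.AtPrime p.asIdeal))
      ((IsLocalRing.ResidueField (Localization.AtPrime p.asIdeal))
        ⊗[Localization.AtPrime p.asIdeal] (LocalizedModule p.asIdeal.primeCompl M)))
  have hspan : Submodule.span (Localization.AtPrime p.asIdeal) (Set.range v) = ⊤ :=
    IsLocalRing.span_eq_top_of_tmul_eq_basis v _ (congr_fun hv)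
  have hrep : ∀ i, ∃ (mi : M) (si : p.asIdeal.primeCompl), v i = LocalizedModule.mk mi si :=
    fun i => LocalizedModule.induction_on
      (β := fun x => ∃ (mi : M) (si : p.asIdeal.primeCompl), x = LocalizedModule.mk mi si)
      (fun mi si => ⟨mi, si, rfl⟩) (v i)
  choose m s hms using hrep
  refine ⟨_, m, ?_, ?_⟩
  · exact ((TensorProduct.AlgebraTensorModule.congr
      (LinearEquiv.refl (IsLocalRing.ResidueField (Localization.AtPrime p.asIdeal))
        (IsLocalRing.ResidueField (Localization.AtPrime p.asIdeal)))
      (LocalizedModule.equivTensorProduct p.asIdeal.primeCompl M)).trans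
      (TensorProduct.AlgebraTensorModule.cancelBaseChange A (Localization.AtPrime p.asIdeal)
        (IsLocalRing.ResidueField (Localization.AtPrime p.asIdeal))
        (IsLocalRing.ResidueField (Localization.AtPrime p.asIdeal)) M)).finrank_eq
  · rw [eq_top_iff, ← hspan, Submodule.span_le]
    rintro _ ⟨i, rfl⟩
    have h1 : v i = (Localization.mk 1 (s i) : Localization.AtPrime p.asIdeal) •
        LocalizedModule.mkLinearMap p.asIdeal.primeCompl M (m i) := by
      rw [hms i, LocalizedModule.mkLinearMap_apply, LocalizedModule.mk_smul_mk, one_smul, mul_one]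
    rw [SetLike.mem_coe, h1]
    exact Submodule.smul_mem _ _ (Submodule.subset_span ⟨i, rfl⟩)

lemma exists_forall_smul_mem [Module.Finite A M] (p : PrimeSpectrum A) (N : Submodule A M)
    (h : ∀ x : M, ∃ t : A, t ∉ p.asIdeal ∧ t • x ∈ N) :
    ∃ f : A, f ∉ p.asIdeal ∧ ∀ x : M, f • x ∈ N := by
  classical
  obtain ⟨G, hG⟩ := (Module.Finite.fg_top : (⊤ : Submodule A M).FG)
  choose t ht htx using h
  refine ⟨∏ g ∈ G, t g, ?_, ?_⟩
  · intro hmem
    obtain ⟨g, _, hg⟩ := (Ideal.IsPrime.prod_mem_iff (hp := p.isPrime)).1 hmem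
    exact ht g hg
  · intro x
    have hx : x ∈ Submodule.span A (G : Set M) := by rw [hG]; exact Submodule.mem_top
    induction hx using Submodule.span_induction with
    | mem y hy =>
      rw [← Finset.mul_prod_erase G t hy, mul_comm, mul_smul]
      exact N.smul_mem _ (htx y)
    | zero => rw [smul_zero]; exact N.zero_mem
    | add y z _ _ hy hz => rw [smul_add]; exact N.add_mem hy hz
    | smul a y _ hy => rw [smul_comm]; exact N.smul_mem _ hy

/-- Upper semicontinuity of the fibre dimension, local form. -/
lemma exists_isOpen_fdim_le [Module.Finite A M] (p : PrimeSpectrum A) :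
    ∃ U : Set (PrimeSpectrum A), IsOpen U ∧ p ∈ U ∧ ∀ q ∈ U, fdim A M q ≤ fdim A M p := by
  obtain ⟨d, m, hd, hspan⟩ := exists_generators_localized (M := M) p
  obtain ⟨f, hf, hfx⟩ := exists_forall_smul_mem p (Submodule.span A (Set.range m))
    (exists_smul_mem_span_of_span_eq_top p m hspan)
  refine ⟨(PrimeSpectrum.basicOpen f : Set (PrimeSpectrum A)),
    (PrimeSpectrum.basicOpen f).isOpen, (PrimeSpectrum.mem_basicOpen f p).2 hf, ?_⟩
  intro q hq
  have hq' : f ∉ q.asIdeal := (PrimeSpectrum.mem_basicOpen f q).1 hq
  have hsp := span_one_tmul_range_eq_top q m (fun x => ⟨f, hq', hfx x⟩)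
  have h1 := finrank_range_le_card (R := q.asIdeal.ResidueField)
    (fun i => (1 : q.asIdeal.ResidueField) ⊗ₜ[A] m i)
  rw [Set.finrank, hsp, finrank_top, Fintype.card_fin, hd] at h1
  exact h1

/-- Key local statement: reduced base, fibre dimension constant on the generizations of `p`
implies that the localization at `p` is free. -/
theorem free_localized_of_fdim_const [IsReduced A] [Module.Finite A M] (p : PrimeSpectrum A)
    (hconst : ∀ q : PrimeSpectrum A, q ≤ p → fdim A M q = fdim A M p) :
    Module.Free (Localization.AtPrime p.asIdeal) (LocalizedModule p.asIdeal.primeCompl M) := by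
  classical
  obtain ⟨d, m, hd, hspan⟩ := exists_generators_localized (M := M) p
  have hsm := exists_smul_mem_span_of_span_eq_top p m hspan
  have hli : LinearIndependent (Localization.AtPrime p.asIdeal)
      (fun i => LocalizedModule.mkLinearMap p.asIdeal.primeCompl M (m i)) := by
    rw [Fintype.linearIndependent_iff]
    intro g hg i
    obtain ⟨b, hb⟩ := IsLocalization.exist_integer_multiples p.asIdeal.primeCompl Finset.univ g
    have hb' : ∀ j, ∃ a : A, algebraMap A (Localization.AtPrime p.asIdeal) a = (b : A) • g j :=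
      fun j => RingHom.mem_rangeS.1 (hb j (Finset.mem_univ j))
    choose a ha using hb'
    have h1 : LocalizedModule.mkLinearMap p.asIdeal.primeCompl M (∑ j, a j • m j) = 0 := by
      rw [map_sum]
      have h2 : ∀ j, LocalizedModule.mkLinearMap p.asIdeal.primeCompl M (a j • m j) =
          (b : A) • (g j • LocalizedModule.mkLinearMap p.asIdeal.primeCompl M (m j)) := by
        intro j
        rw [map_smul, ← algebraMap_smul (Localization.AtPrime p.asIdeal) (a j), ha j, smul_assoc]
      rw [Finset.sum_congr rfl (fun j _ => h2 j), ← Finset.smul_sum, hg, smul_zero]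
    obtain ⟨t', ht'⟩ := (IsLocalizedModule.eq_zero_iff p.asIdeal.primeCompl
      (LocalizedModule.mkLinearMap p.asIdeal.primeCompl M)).1 h1
    have ht'' : (t' : A) • ∑ j, a j • m j = 0 := ht'
    have hmem : ∀ q : PrimeSpectrum A, q ≤ p → a i ∈ q.asIdeal := by
      intro q hq
      have hq' : q.asIdeal ≤ p.asIdeal := hq
      have hsp := span_one_tmul_range_eq_top q m (fun x => by
        obtain ⟨t, ht, h⟩ := hsm x
        exact ⟨t, fun h' => ht (hq' h'), h⟩)
      have hcard : Fintype.card (Fin d) =
          Module.finrank q.asIdeal.ResidueField (q.asIdeal.ResidueField ⊗[A] M) := by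
        rw [Fintype.card_fin, hd]
        exact (hconst q hq).symm
      have hliq : LinearIndependent q.asIdeal.ResidueField
          (fun j => (1 : q.asIdeal.ResidueField) ⊗ₜ[A] m j) :=
        linearIndependent_of_top_le_span_of_card_eq_finrank hsp.ge hcard
      have hrel : ∑ j, (algebraMap A q.asIdeal.ResidueField ((t' : A) * a j)) •
          ((1 : q.asIdeal.ResidueField) ⊗ₜ[A] m j) = 0 := by
        have h5 : (1 : q.asIdeal.ResidueField) ⊗ₜ[A] ((t' : A) • ∑ j, a j • m j) = 0 := by
          rw [ht'', TensorProduct.tmul_zero]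
        rw [Finset.smul_sum, TensorProduct.tmul_sum] at h5
        rw [← h5]
        refine Finset.sum_congr rfl fun j _ => ?_
        have hL : (algebraMap A q.asIdeal.ResidueField ((t' : A) * a j)) •
            ((1 : q.asIdeal.ResidueField) ⊗ₜ[A] m j) =
            (algebraMap A q.asIdeal.ResidueField ((t' : A) * a j)) ⊗ₜ[A] m j := by
          rw [TensorProduct.smul_tmul', smul_eq_mul, mul_one]
        have hR : (1 : q.asIdeal.ResidueField) ⊗ₜ[A] ((t' : A) • a j • m j) =
            (algebraMap A q.asIdeal.ResidueField ((t' : A) * a j)) ⊗ₜ[A] m j := by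
          rw [smul_smul, TensorProduct.tmul_smul, TensorProduct.smul_tmul', Algebra.smul_def,
            mul_one]
        rw [hL, hR]
      have hz := (Fintype.linearIndependent_iff.1 hliq)
        (fun j => algebraMap A q.asIdeal.ResidueField ((t' : A) * a j)) hrel i
      rw [Ideal.algebraMap_residueField_eq_zero] at hz
      rcases q.isPrime.mem_or_mem hz with h | h
      · exact absurd (hq' h) t'.2
      · exact h
    have hzero : algebraMap A (Localization.AtPrime p.asIdeal) (a i) = 0 := by
      have hnil : algebraMap A (Localization.AtPrime p.asIdeal) (a i) ∈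
          nilradical (Localization.AtPrime p.asIdeal) := by
        rw [nilradical_eq_sInf, Ideal.mem_sInf]
        intro Q hQ
        have hQ' : Q.IsPrime := hQ
        have hQp : Q.comap (algebraMap A (Localization.AtPrime p.asIdeal)) ≤ p.asIdeal := by
          intro x hx
          by_contra hxp
          exact hQ'.ne_top (Ideal.eq_top_of_isUnit_mem _ hx
            (IsLocalization.map_units (Localization.AtPrime p.asIdeal)
              (⟨x, hxp⟩ : p.asIdeal.primeCompl)))
        exact hmem ⟨Q.comap (algebraMap A (Localization.AtPrime p.asIdeal)), hQ'.comap _⟩ hQp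
      rw [nilradical_eq_zero, Ideal.zero_eq_bot, Ideal.mem_bot] at hnil
      exact hnil
    rw [ha i, Algebra.smul_def] at hzero
    exact (IsUnit.mul_right_eq_zero
      (IsLocalization.map_units (Localization.AtPrime p.asIdeal) b)).1 hzero
  exact Module.Free.of_basis (Module.Basis.mk hli hspan.ge)

/-- A finitely presented module over a reduced ring whose fibre dimension is locally constant
is projective. -/
theorem projective_of_isLocallyConstant_fdim [IsReduced A] [Module.FinitePresentation A M]
    (h : IsLocallyConstant (fdim A M)) : Module.Projective A M := by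
  rw [← Module.freeLocus_eq_univ_iff, Set.eq_univ_iff_forall]
  intro p
  rw [Module.mem_freeLocus]
  refine free_localized_of_fdim_const p (fun q hq => ?_)
  have hs : q ⤳ p := (PrimeSpectrum.le_iff_specializes q p).1 hq
  exact hs.mem_open (h.isOpen_fiber (fdim A M p)) rfl

lemma finrank_range_add_fdim_coker {F : Type w} [AddCommGroup F] [Module A F]
    [Module.Finite A F] (δ : M →ₗ[A] F) (p : PrimeSpectrum A) :
    Module.finrank p.asIdeal.ResidueField
        (LinearMap.range (δ.baseChange p.asIdeal.ResidueField)) +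
      fdim A (F ⧸ LinearMap.range δ) p = fdim A F p := by
  have hex : Function.Exact (δ.baseChange p.asIdeal.ResidueField)
      ((LinearMap.range δ).mkQ.baseChange p.asIdeal.ResidueField) := by
    rw [LinearMap.baseChange_eq_ltensor, LinearMap.baseChange_eq_ltensor]
    exact lTensor_exact p.asIdeal.ResidueField (LinearMap.exact_map_mkQ_range δ)
      (Submodule.mkQ_surjective _)
  have hsurj : Function.Surjective
      ((LinearMap.range δ).mkQ.baseChange p.asIdeal.ResidueField) := by
    rw [LinearMap.baseChange_eq_ltensor]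
    exact LinearMap.lTensor_surjective _ (Submodule.mkQ_surjective _)
  have hker := LinearMap.exact_iff.1 hex
  have h1 := LinearMap.finrank_range_add_finrank_ker
    ((LinearMap.range δ).mkQ.baseChange p.asIdeal.ResidueField)
  rw [LinearMap.range_eq_top.2 hsurj, finrank_top, hker] at h1
  unfold fdim
  omega

lemma finrank_range_add_finrank_ker_baseChange {F : Type w} [AddCommGroup F] [Module A F]
    [Module.Finite A M] (δ : M →ₗ[A] F) (p : PrimeSpectrum A) :
    Module.finrank p.asIdeal.ResidueField
        (LinearMap.range (δ.baseChange p.asIdeal.ResidueField)) +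
      Module.finrank p.asIdeal.ResidueField
        (LinearMap.ker (δ.baseChange p.asIdeal.ResidueField)) = fdim A M p :=
  LinearMap.finrank_range_add_finrank_ker (δ.baseChange p.asIdeal.ResidueField)

end

lemma upperSemicontinuous_of_local_le {X : Type*} [TopologicalSpace X] (f : X → ℕ)
    (h : ∀ x, ∃ U : Set X, IsOpen U ∧ x ∈ U ∧ ∀ y ∈ U, f y ≤ f x) : UpperSemicontinuous f := by
  rw [upperSemicontinuous_iff]
  intro x
  rw [upperSemicontinuousAt_iff]
  intro c hc
  obtain ⟨U, hU, hx, hle⟩ := h x
  filter_upwards [hU.mem_nhds hx] with y hy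
  exact lt_of_le_of_lt (hle y hy) hc

lemma lowerSemicontinuous_of_local_ge {X : Type*} [TopologicalSpace X] (f : X → ℕ)
    (h : ∀ x, ∃ U : Set X, IsOpen U ∧ x ∈ U ∧ ∀ y ∈ U, f x ≤ f y) : LowerSemicontinuous f := by
  rw [lowerSemicontinuous_iff]
  intro x
  rw [lowerSemicontinuousAt_iff]
  intro c hc
  obtain ⟨U, hU, hx, hle⟩ := h x
  filter_upwards [hU.mem_nhds hx] with y hy
  exact lt_of_lt_of_le hc (hle y hy)

section split
variable {T : Type*} [CommRing T] {X Y Z : Type*} [AddCommGroup X] [Module T X]
  [AddCommGroup Y] [Module T Y] [AddCommGroup Z] [Module T Z]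

lemma exists_retraction_of_projective [Module.Projective T Z]
    (i : X →ₗ[T] Y) (g : Y →ₗ[T] Z) (hi : Function.Injective i) (hg : Function.Surjective g)
    (h : Function.Exact i g) : ∃ l : Y →ₗ[T] X, l ∘ₗ i = LinearMap.id :=
  ((Function.Exact.split_tfae h hi hg).out 0 1).mp
    (Module.projective_lifting_property g LinearMap.id hg)

lemma projective_range_of_projective_coker (φ : X →ₗ[T] Y) [Module.Projective T Y]
    [Module.Projective T (Y ⧸ LinearMap.range φ)] :
    Module.Projective T (LinearMap.range φ) ∧
      ∃ r : Y →ₗ[T] LinearMap.range φ, r ∘ₗ (LinearMap.range φ).subtype = LinearMap.id := by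
  obtain ⟨r, hr⟩ := exists_retraction_of_projective (LinearMap.range φ).subtype
    (LinearMap.range φ).mkQ Subtype.val_injective (Submodule.mkQ_surjective _)
    (LinearMap.exact_subtype_mkQ (LinearMap.range φ))
  exact ⟨Module.Projective.of_split _ _ hr, r, hr⟩

lemma projective_ker_of_projective_range (φ : X →ₗ[T] Y) [Module.Projective T X]
    [Module.Projective T (LinearMap.range φ)] :
    Module.Projective T (LinearMap.ker φ) ∧
      ∃ ρ : X →ₗ[T] LinearMap.ker φ, ρ ∘ₗ (LinearMap.ker φ).subtype = LinearMap.id := by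
  obtain ⟨ρ, hρ⟩ := exists_retraction_of_projective (LinearMap.ker φ).subtype
    φ.rangeRestrict Subtype.val_injective φ.surjective_rangeRestrict
    (exact_ker_subtype_rangeRestrict φ)
  exact ⟨Module.Projective.of_split _ _ hρ, ρ, hρ⟩

end split

lemma isLocallyConstant_fdim_of_flat {A : Type u} [CommRing A] {M : Type v} [AddCommGroup M]
    [Module A M] [Module.FinitePresentation A M] [Module.Flat A M] :
    IsLocallyConstant (fdim A M) := by
  have h0 : fdim A M = Module.rankAtStalk (R := A) M := by
    funext x
    exact (Module.rankAtStalk_eq (M := M) x).symm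
  rw [h0]
  exact Module.isLocallyConstant_rankAtStalk

lemma fdim_eq_finrank_of_free {A : Type u} [CommRing A] {F : Type v} [AddCommGroup F]
    [Module A F] [Module.Free A F] (x : PrimeSpectrum A) : fdim A F x = Module.finrank A F := by
  haveI : Nontrivial A := PrimeSpectrum.nonempty_iff_nontrivial.1 ⟨x⟩
  unfold fdim
  exact Module.finrank_baseChange

end Groth.Agent.H76
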