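import Mathlib

set_option autoImplicit false
set_option linter.unusedSectionVars false
set_option linter.unusedVariables false
set_option linter.style.longLine false

universe u

open TensorProduct

namespace Groth.Agent.H76.FibreExact

section Phi
variable {R : Type u} [CommRing R] (P : Ideal R) [P.IsPrime]
variable (M : Type u) [AddCommGroup M] [Module R M] {N : Type u} [AddCommGroup N] [Module R N]

/-- `κ(P) ⊗_{R_P} M_P ≃ κ(P) ⊗_R M` -/
noncomputable def Phi :
    P.ResidueField ⊗[Localization.AtPrime P] LocalizedModule P.primeCompl M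
      ≃ₗ[Localization.AtPrime P] P.ResidueField ⊗[R] M :=
  (IsLocalizedModule.isBaseChange P.primeCompl (Localization.AtPrime P)
    (LocalizedModule.mkLinearMap P.primeCompl M)).tensorEquiv P.ResidueField

theorem Phi_tmul (c : P.ResidueField) (x : M) :
    Phi P M (c ⊗ₜ[Localization.AtPrime P] LocalizedModule.mkLinearMap P.primeCompl M x) =
      c ⊗ₜ[R] x := by
  unfold Phi IsBaseChange.tensorEquiv
  rw [LinearEquiv.trans_apply, LinearEquiv.lTensor_tmul, IsBaseChange.equiv_symm_apply,
    AlgebraTensorModule.cancelBaseChange_tmul, one_smul]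

theorem Phi_tmul' (c : P.ResidueField) (x : M) :
    Phi P M (c ⊗ₜ[Localization.AtPrime P] (LocalizedModule.mk x 1 : LocalizedModule P.primeCompl M)) =
      c ⊗ₜ[R] x :=
  Phi_tmul P M c x

variable {M}

theorem Phi_natural (F : M →ₗ[R] N)
    (w : P.ResidueField ⊗[Localization.AtPrime P] LocalizedModule P.primeCompl M) :
    Phi P N ((LocalizedModule.map P.primeCompl F).lTensor P.ResidueField w) =
      (F.baseChange P.ResidueField) (Phi P M w) := by
  induction w using TensorProduct.induction_on with
  | zero => simp only [map_zero]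
  | add a b ha hb => simp only [map_add, ha, hb]
  | tmul c y =>
    induction y using LocalizedModule.induction_on with
    | h x s =>
      have e : (LocalizedModule.mk x s : LocalizedModule P.primeCompl M) =
          (Localization.mk 1 s : Localization P.primeCompl) •
            (LocalizedModule.mk x 1 : LocalizedModule P.primeCompl M) := by
        rw [LocalizedModule.mk_smul_mk, one_smul, mul_one]
      rw [e, ← TensorProduct.smul_tmul, LinearMap.lTensor_tmul, LocalizedModule.map_mk,
        Phi_tmul', Phi_tmul', LinearMap.baseChange_tmul]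

theorem lTensor_injective_of_baseChange_injective (F : M →ₗ[R] N)
    (hF : Function.Injective (F.baseChange P.ResidueField)) :
    Function.Injective ((LocalizedModule.map P.primeCompl F).lTensor P.ResidueField) := by
  rw [injective_iff_map_eq_zero]
  intro w hw
  have h1 := Phi_natural P F w
  rw [hw, map_zero] at h1
  have h2 : Phi P M w = 0 := hF (by rw [← h1, map_zero])
  exact (LinearEquiv.map_eq_zero_iff _).mp h2

end Phi

theorem local_step {A : Type u} [CommRing A] [IsLocalRing A] {W X Q : Type u}
    [AddCommGroup W] [Module A W] [AddCommGroup X] [Module A X] [AddCommGroup Q] [Module A Q]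
    [Module.Finite A W] [Module.Finite A X] [Module.Free A X]
    (l : W →ₗ[A] X) (π : X →ₗ[A] Q) (hπ : Function.Surjective π) (hex : Function.Exact l π)
    (hl : Function.Injective (l.lTensor (IsLocalRing.ResidueField A))) :
    Function.Injective l ∧ Module.Projective A W ∧ Module.Projective A Q := by
  obtain ⟨l', hl'⟩ := (IsLocalRing.split_injective_iff_lTensor_residueField_injective l).mpr hl
  refine ⟨?_, Module.Projective.of_split l l' hl', ?_⟩
  · exact Function.LeftInverse.injective (g := l') (fun x => LinearMap.congr_fun hl' x)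
  · haveI := Module.free_of_lTensor_residueField_injective l π hπ hex hl
    infer_instance

/-- A three-term complex `X₁ → X₂ → X₃` (`X₂`, `X₃` finite free, `X₁` finite) which is exact on all
fibres is exact, and both cokernels are projective. -/
theorem fibreExact_three {R : Type u} [CommRing R] {X₁ X₂ X₃ : Type u}
    [AddCommGroup X₁] [Module R X₁] [AddCommGroup X₂] [Module R X₂] [AddCommGroup X₃] [Module R X₃]
    [Module.Finite R X₁] [Module.Finite R X₂] [Module.Free R X₂] [Module.Finite R X₃]
    [Module.Free R X₃]
    (f : X₁ →ₗ[R] X₂) (g : X₂ →ₗ[R] X₃) (hfg : g ∘ₗ f = 0)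
    (h : ∀ (q : Ideal R) [q.IsPrime],
      Function.Exact (f.baseChange q.ResidueField) (g.baseChange q.ResidueField)) :
    Function.Exact f g ∧ Module.Projective R (X₂ ⧸ LinearMap.range f) ∧
      Module.Projective R (X₃ ⧸ LinearMap.range g) := by
  have hle : LinearMap.range f ≤ LinearMap.ker g := by
    rintro _ ⟨x, rfl⟩
    exact LinearMap.congr_fun hfg x
  obtain ⟨π₂, hπ₂⟩ : ∃ π₂ : X₂ →ₗ[R] X₂ ⧸ LinearMap.range f, π₂ = (LinearMap.range f).mkQ :=
    ⟨_, rfl⟩
  obtain ⟨gb, hgb⟩ : ∃ gb : (X₂ ⧸ LinearMap.range f) →ₗ[R] X₃,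
      gb = (LinearMap.range f).liftQ g hle := ⟨_, rfl⟩
  obtain ⟨π₃, hπ₃⟩ : ∃ π₃ : X₃ →ₗ[R] X₃ ⧸ LinearMap.range g, π₃ = (LinearMap.range g).mkQ :=
    ⟨_, rfl⟩
  have hπ₂s : Function.Surjective π₂ := by rw [hπ₂]; exact Submodule.mkQ_surjective _
  have hπ₃s : Function.Surjective π₃ := by rw [hπ₃]; exact Submodule.mkQ_surjective _
  have hcomp : gb ∘ₗ π₂ = g := by rw [hgb, hπ₂]; exact Submodule.liftQ_mkQ _ _ _
  have hπf : π₂ ∘ₗ f = 0 := by rw [hπ₂]; exact LinearMap.range_mkQ_comp f
  have hgb_range : LinearMap.range gb = LinearMap.range g := by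
    rw [← hcomp, LinearMap.range_comp, LinearMap.range_eq_top.mpr hπ₂s, Submodule.map_top]
  have hex₃ : Function.Exact gb π₃ := by
    rw [LinearMap.exact_iff, hπ₃, Submodule.ker_mkQ, hgb_range]
  haveI hW : Module.FinitePresentation R (X₂ ⧸ LinearMap.range f) :=
    Module.finitePresentation_of_free_of_surjective π₂ hπ₂s (by
      rw [hπ₂, Submodule.ker_mkQ, LinearMap.range_eq_map]
      exact (Module.Finite.fg_top).map f)
  haveI hQ : Module.FinitePresentation R (X₃ ⧸ LinearMap.range g) :=
    Module.finitePresentation_of_free_of_surjective π₃ hπ₃s (by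
      rw [hπ₃, Submodule.ker_mkQ, LinearMap.range_eq_map]
      exact (Module.Finite.fg_top).map g)
  have hfib : ∀ (q : Ideal R) [q.IsPrime],
      Function.Injective (gb.baseChange q.ResidueField) := by
    intro q _
    have hs : Function.Surjective (π₂.baseChange q.ResidueField) := by
      rw [LinearMap.baseChange_eq_ltensor]
      exact LinearMap.lTensor_surjective _ hπ₂s
    rw [injective_iff_map_eq_zero]
    intro z hz
    obtain ⟨y, rfl⟩ := hs z
    have hy : (g.baseChange q.ResidueField) y = 0 := by
      rw [← hcomp, LinearMap.baseChange_comp]; exact hz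
    obtain ⟨x, rfl⟩ := ((h q) y).mp hy
    rw [← LinearMap.comp_apply, ← LinearMap.baseChange_comp, hπf, LinearMap.baseChange_zero,
      LinearMap.zero_apply]
  have hloc : ∀ (J : Ideal R) [J.IsMaximal],
      Function.Injective (LocalizedModule.map J.primeCompl gb) ∧
      Module.Projective (Localization.AtPrime J)
        (LocalizedModule J.primeCompl (X₂ ⧸ LinearMap.range f)) ∧
      Module.Projective (Localization.AtPrime J)
        (LocalizedModule J.primeCompl (X₃ ⧸ LinearMap.range g)) := by
    intro J hJ
    haveI : Module.Free (Localization.AtPrime J) (LocalizedModule J.primeCompl X₃) :=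
      Module.free_of_isLocalizedModule J.primeCompl (LocalizedModule.mkLinearMap J.primeCompl X₃)
    exact local_step (LocalizedModule.map J.primeCompl gb) (LocalizedModule.map J.primeCompl π₃)
      (LocalizedModule.map_surjective _ π₃ hπ₃s)
      (LocalizedModule.map_exact J.primeCompl gb π₃ hex₃)
      (lTensor_injective_of_baseChange_injective J gb (hfib J))
  have hgb_inj : Function.Injective gb :=
    injective_of_localized_maximal gb (fun J _ => (hloc J).1)
  refine ⟨?_, Module.projective_of_localization_maximal (fun J hJ => (haveI := hJ; (hloc J).2.1)),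
    Module.projective_of_localization_maximal (fun J hJ => (haveI := hJ; (hloc J).2.2))⟩
  intro y
  constructor
  · intro hy
    have h1 : gb (π₂ y) = 0 := by rw [← LinearMap.comp_apply, hcomp]; exact hy
    have h0 : π₂ y = 0 := hgb_inj (by rw [h1, map_zero])
    rw [hπ₂, Submodule.mkQ_apply, Submodule.Quotient.mk_eq_zero] at h0
    exact LinearMap.mem_range.mp h0
  · rintro ⟨x, rfl⟩
    exact LinearMap.congr_fun hfg x

end Groth.Agent.H76.FibreExact
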