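import Mathlib
import Groth.Agent.H76.FibreExact

set_option autoImplicit false
set_option linter.unusedSectionVars false
set_option linter.unusedVariables false
set_option linter.style.longLine false

universe u

open CategoryTheory

namespace Groth.Agent.H76.FibreExactCx

section Alg
variable {R : Type u} [CommRing R]

theorem proj_of_quot_proj {Z : Type u} [AddCommGroup Z] [Module R Z] [Module.Projective R Z]
    (N : Submodule R Z) (h : Module.Projective R (Z ⧸ N)) : Module.Projective R N := by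
  obtain ⟨s, hs⟩ := Module.projective_lifting_property N.mkQ
    (LinearMap.id : (Z ⧸ N) →ₗ[R] (Z ⧸ N)) (Submodule.mkQ_surjective N)
  have hmem : ∀ z : Z, z - s (N.mkQ z) ∈ N := by
    intro z
    rw [← Submodule.Quotient.mk_eq_zero N, Submodule.Quotient.mk_sub, sub_eq_zero]
    exact (LinearMap.congr_fun hs (N.mkQ z)).symm
  let r : Z →ₗ[R] N := LinearMap.codRestrict N (LinearMap.id - s ∘ₗ N.mkQ) (fun z => hmem z)
  refine Module.Projective.of_split N.subtype r (LinearMap.ext fun n => Subtype.ext ?_)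
  show (n : Z) - s (N.mkQ (n : Z)) = (n : Z)
  have h0 : N.mkQ (n : Z) = 0 := (Submodule.Quotient.mk_eq_zero N).mpr n.2
  rw [h0, map_zero, sub_zero]

theorem ker_proj_of_surj {W N : Type u} [AddCommGroup W] [Module R W] [AddCommGroup N] [Module R N]
    [Module.Projective R W] [Module.Finite R W] [Module.Projective R N]
    (ρ : W →ₗ[R] N) (hρ : Function.Surjective ρ) :
    Module.Finite R (LinearMap.ker ρ) ∧ Module.Projective R (LinearMap.ker ρ) := by
  obtain ⟨s, hs⟩ := Module.projective_lifting_property ρ (LinearMap.id : N →ₗ[R] N) hρ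
  have hmem : ∀ w : W, w - s (ρ w) ∈ LinearMap.ker ρ := by
    intro w
    rw [LinearMap.mem_ker, map_sub, sub_eq_zero]
    exact (LinearMap.congr_fun hs (ρ w)).symm
  let r : W →ₗ[R] LinearMap.ker ρ :=
    LinearMap.codRestrict _ (LinearMap.id - s ∘ₗ ρ) (fun w => hmem w)
  have hr : r ∘ₗ (LinearMap.ker ρ).subtype = LinearMap.id := by
    refine LinearMap.ext fun n => Subtype.ext ?_
    show (n : W) - s (ρ (n : W)) = (n : W)
    rw [LinearMap.mem_ker.mp n.2, map_zero, sub_zero]
  exact ⟨Module.Finite.of_surjective r (fun n => ⟨n.1, LinearMap.congr_fun hr n⟩),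
    Module.Projective.of_split _ r hr⟩

theorem homology_finite_projective {X Y Z : Type u} [AddCommGroup X] [Module R X]
    [AddCommGroup Y] [Module R Y] [AddCommGroup Z] [Module R Z]
    [Module.Finite R Y] [Module.Projective R Z]
    (d₀ : X →ₗ[R] Y) (d₁ : Y →ₗ[R] Z) (h01 : ∀ x, d₁ (d₀ x) = 0)
    (hW : Module.Projective R (Y ⧸ LinearMap.range d₀))
    (hQ : Module.Projective R (Z ⧸ LinearMap.range d₁))
    (t : X →ₗ[R] LinearMap.ker d₁) (ht : ∀ x, (t x : Y) = d₀ x) :
    Module.Finite R (LinearMap.ker d₁ ⧸ LinearMap.range t) ∧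
      Module.Projective R (LinearMap.ker d₁ ⧸ LinearMap.range t) := by
  haveI hN : Module.Projective R (LinearMap.range d₁) := proj_of_quot_proj _ hQ
  haveI := hW
  have hle : LinearMap.range d₀ ≤ LinearMap.ker d₁ := by
    rintro _ ⟨x, rfl⟩; exact h01 x
  let db : (Y ⧸ LinearMap.range d₀) →ₗ[R] Z := (LinearMap.range d₀).liftQ d₁ hle
  have hdb : ∀ y : Y, db (Submodule.Quotient.mk y) = d₁ y := fun y => rfl
  have hdbmem : ∀ w, db w ∈ LinearMap.range d₁ := by
    intro w
    obtain ⟨y, rfl⟩ := Submodule.Quotient.mk_surjective _ w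
    exact ⟨y, rfl⟩
  let ρ : (Y ⧸ LinearMap.range d₀) →ₗ[R] LinearMap.range d₁ :=
    LinearMap.codRestrict _ db hdbmem
  have hρ : Function.Surjective ρ := by
    rintro ⟨_, y, rfl⟩
    exact ⟨Submodule.Quotient.mk y, Subtype.ext (hdb y)⟩
  obtain ⟨hfin, hproj⟩ := ker_proj_of_surj ρ hρ
  have hψmem : ∀ y : LinearMap.ker d₁,
      ((LinearMap.range d₀).mkQ ∘ₗ (LinearMap.ker d₁).subtype) y ∈ LinearMap.ker ρ := by
    intro y
    rw [LinearMap.mem_ker]
    exact Subtype.ext (LinearMap.mem_ker.mp y.2)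
  let ψ : LinearMap.ker d₁ →ₗ[R] LinearMap.ker ρ :=
    LinearMap.codRestrict _ ((LinearMap.range d₀).mkQ ∘ₗ (LinearMap.ker d₁).subtype) hψmem
  have hψs : Function.Surjective ψ := by
    rintro ⟨w, hw⟩
    obtain ⟨y, rfl⟩ := Submodule.Quotient.mk_surjective _ w
    have hy : d₁ y = 0 := congrArg Subtype.val (LinearMap.mem_ker.mp hw)
    exact ⟨⟨y, LinearMap.mem_ker.mpr hy⟩, Subtype.ext rfl⟩
  have hψk : LinearMap.ker ψ = LinearMap.range t := by
    ext y
    rw [LinearMap.mem_ker, LinearMap.mem_range]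
    constructor
    · intro hy
      have h1 : (Submodule.Quotient.mk (y : Y) : Y ⧸ LinearMap.range d₀) = 0 :=
        congrArg Subtype.val hy
      rw [Submodule.Quotient.mk_eq_zero] at h1
      obtain ⟨x, hx⟩ := h1
      exact ⟨x, Subtype.ext ((ht x).trans hx)⟩
    · rintro ⟨x, rfl⟩
      refine Subtype.ext ?_
      show (Submodule.Quotient.mk ((t x : LinearMap.ker d₁) : Y) : Y ⧸ LinearMap.range d₀) = 0
      rw [Submodule.Quotient.mk_eq_zero, ht x]
      exact ⟨x, rfl⟩
  let e : (LinearMap.ker d₁ ⧸ LinearMap.range t) ≃ₗ[R] LinearMap.ker ρ :=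
    (Submodule.quotEquivOfEq _ _ hψk.symm).trans (ψ.quotKerEquivOfSurjective hψs)
  haveI := hfin
  haveI := hproj
  exact ⟨Module.Finite.equiv e.symm, Module.Projective.of_equiv e.symm⟩

end Alg

/-- A cochain complex of finite free modules whose fibres at all primes are exact in all degrees
`k ≠ i` has vanishing cohomology in degrees `≠ i` and finite projective cohomology in degree `i`. -/
theorem fibreExact_complex {R : Type u} [CommRing R] (M : CochainComplex (ModuleCat.{u} R) ℤ)
    (hfin : ∀ n, Module.Finite R (M.X n)) (hfree : ∀ n, Module.Free R (M.X n)) (i : ℤ)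
    (h : ∀ k : ℤ, k ≠ i → ∀ (q : Ideal R) [q.IsPrime],
      Function.Exact ((M.d (k - 1) k).hom.baseChange q.ResidueField)
        ((M.d k (k + 1)).hom.baseChange q.ResidueField)) :
    (∀ k : ℤ, k ≠ i → CategoryTheory.Limits.IsZero (M.homology k)) ∧
      Module.Finite R (M.homology i) ∧ Module.Projective R (M.homology i) := by
  have hdd : ∀ a b c : ℤ, (M.d b c).hom ∘ₗ (M.d a b).hom = 0 := by
    intro a b c
    rw [← ModuleCat.hom_comp, M.d_comp_d, ModuleCat.hom_zero]
  have key : ∀ a b c : ℤ, a = b - 1 → c = b + 1 → b ≠ i →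
      Function.Exact (M.d a b).hom (M.d b c).hom ∧
      Module.Projective R (M.X b ⧸ LinearMap.range (M.d a b).hom) ∧
      Module.Projective R (M.X c ⧸ LinearMap.range (M.d b c).hom) := by
    intro a b c hab hbc hb
    subst hab hbc
    exact Groth.Agent.H76.FibreExact.fibreExact_three (M.d (b - 1) b).hom (M.d b (b + 1)).hom
      (hdd _ _ _) (fun q _ => h b hb q)
  refine ⟨fun k hk => ?_, ?_⟩
  · have hex := (key (k - 1) k (k + 1) rfl rfl hk).1
    apply HomologicalComplex.ExactAt.isZero_homology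
    rw [HomologicalComplex.exactAt_iff' M (k - 1) k (k + 1) (CochainComplex.prev ℤ k)
      (CochainComplex.next ℤ k)]
    exact ModuleCat.shortComplex_exact _ hex
  · obtain ⟨-, -, hW⟩ := key (i - 1 - 1) (i - 1) i rfl (by ring) (by omega)
    obtain ⟨-, hQ, -⟩ := key i (i + 1) (i + 1 + 1) (by ring) rfl (by omega)
    have hS := homology_finite_projective (M.d (i - 1) i).hom (M.d i (i + 1)).hom
      (fun x => LinearMap.congr_fun (hdd _ _ _) x) hW hQ
      (M.sc' (i - 1) i (i + 1)).moduleCatToCycles (fun x => rfl)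
    have hfinH : Module.Finite R ((M.sc' (i - 1) i (i + 1)).moduleCatLeftHomologyData.H) := hS.1
    have hprojH : Module.Projective R ((M.sc' (i - 1) i (i + 1)).moduleCatLeftHomologyData.H) :=
      hS.2
    let e := ((M.homologyIsoSc' (i - 1) i (i + 1) (CochainComplex.prev ℤ i)
      (CochainComplex.next ℤ i)) ≪≫ (M.sc' (i - 1) i (i + 1)).moduleCatHomologyIso).toLinearEquiv
    exact ⟨Module.Finite.equiv e.symm, Module.Projective.of_equiv e.symm⟩

end Groth.Agent.H76.FibreExactCx
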