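import Mathlib
import Groth.Prelude.Def_SGA1

set_option autoImplicit false
universe u
open CategoryTheory CategoryTheory.Limits AlgebraicGeometry

namespace Groth.Agent.H76.FreeFlat_ACT

section
variable {X Y : Scheme.{u}} {G : Type u} [Group G] (ρ : G →* Aut X) (p : X ⟶ Y)
  (hinv : ∀ g : G, (ρ g).hom ≫ p = p)

/-- the action on the second factor -/
noncomputable def m (g : G) : pullback p p ⟶ pullback p p :=
  pullback.lift (pullback.fst p p) (pullback.snd p p ≫ (ρ g).hom)
    (by rw [Category.assoc, hinv, pullback.condition])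

theorem m_fst (g : G) : m ρ p hinv g ≫ pullback.fst p p = pullback.fst p p :=
  pullback.lift_fst _ _ _

theorem m_snd (g : G) : m ρ p hinv g ≫ pullback.snd p p = pullback.snd p p ≫ (ρ g).hom :=
  pullback.lift_snd _ _ _

theorem m_one : m ρ p hinv 1 = 𝟙 _ := by
  apply pullback.hom_ext
  · rw [m_fst, Category.id_comp]
  · rw [m_snd, Category.id_comp, map_one]
    exact Category.comp_id _

theorem m_mul (a b : G) : m ρ p hinv (a * b) = m ρ p hinv b ≫ m ρ p hinv a := by
  apply pullback.hom_ext
  · rw [m_fst, Category.assoc, m_fst, m_fst]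
  · rw [m_snd, Category.assoc, m_snd, ← Category.assoc, m_snd, Category.assoc, map_mul]
    rfl

end

/-- (ACT) for helper79's S2920. -/
theorem exists_action_on_pullback {X Y : Scheme.{u}} {G : Type u} [Group G] (ρ : G →* Aut X)
    (p : X ⟶ Y) (hinv : ∀ g : G, (ρ g).hom ≫ p = p) :
    ∃ ρ' : G →* Aut (pullback p p),
      (∀ g : G, (ρ' g).hom ≫ pullback.snd p p = pullback.snd p p ≫ (ρ g).hom) ∧
      (∀ g : G, (ρ' g).hom ≫ pullback.fst p p = pullback.fst p p) := by
  let ρ' : G →* Aut (pullback p p) :=
    { toFun := fun g =>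
        { hom := m ρ p hinv g
          inv := m ρ p hinv g⁻¹
          hom_inv_id := by rw [← m_mul, inv_mul_cancel, m_one]
          inv_hom_id := by rw [← m_mul, mul_inv_cancel, m_one] }
      map_one' := by
        apply Iso.ext
        exact m_one ρ p hinv
      map_mul' := fun a b => by
        apply Iso.ext
        exact m_mul ρ p hinv a b }
  exact ⟨ρ', fun g => m_snd ρ p hinv g, fun g => m_fst ρ p hinv g⟩

end Groth.Agent.H76.FreeFlat_ACT
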