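import Mathlib
import Groth.Agent.H69.DirColim
import Groth.Agent.H15.NilPair.Base
import Groth.Agent.H15.NilPair.Sys
import Groth.Agent.H15.IntPair.Sys
set_option autoImplicit false
universe u
open CategoryTheory MvPolynomial Limits
open Groth.Agent.H69 Groth.Agent.H15.IntPair
open Groth.Agent.H15.NilPair (PS IT Cq mkq mkq_surjective mkq_eq_zero mkq_eq_zero_iff fp tr tr_mkq
  tr_refl tr_trans toE toE_mkq toE_tr gen_top X_mem_PS PS_mono dirNat)
open scoped Classical

namespace Groth.Agent.H76.IntPair_FIN

variable {A B C : Type u} [CommRing A] [CommRing B] [CommRing C] [Algebra A B] [Algebra A C]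
  [Algebra B C] [IsScalarTower A B C]

theorem isIntegral_FB (j : J A B C) : Algebra.IsIntegral A (FB j) := by
  rw [← integralClosure_eq_top_iff]
  apply gen_top
  intro v hv
  have hv' : v ∈ j.1.Z.disjSum (∅ : Finset C) := hv
  rcases Finset.mem_disjSum.mp hv' with ⟨b, hb, rfl⟩ | ⟨d, hd, rfl⟩
  · exact j.2.2.2.1 b hb
  · exact absurd hd (Finset.notMem_empty d)

theorem isIntegral_FC (j : J A B C) : Algebra.IsIntegral A (FC j) := by
  rw [← integralClosure_eq_top_iff]
  apply gen_top
  intro v hv
  have hv' : v ∈ j.1.Z.disjSum j.1.S := hv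
  rcases Finset.mem_disjSum.mp hv' with ⟨b, hb, rfl⟩ | ⟨c, hc, rfl⟩
  · have h3 : IsIntegral A
        (mkq j.1.WB j.1.TB ⟨X (Sum.inl b), X_mem_PS (Raw.inl_mem_WB hb)⟩) := j.2.2.2.1 b hb
    have h4 := h3.map (phi j)
    exact h4
  · exact j.2.2.2.2.1 c hc

/-- (FIN) for helper15's S18014. -/
theorem finite_stage (j : J A B C) :
    (algebraMap A (FB j)).Finite ∧ (algebraMap A (FC j)).Finite := by
  constructor
  · haveI := isIntegral_FB j
    haveI : Algebra.FinitePresentation A (FB j) := fp _ _
    haveI : Algebra.FiniteType A (FB j) := Algebra.FiniteType.of_finitePresentation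
    exact RingHom.finite_algebraMap.mpr Algebra.IsIntegral.finite
  · haveI := isIntegral_FC j
    haveI : Algebra.FinitePresentation A (FC j) := fp _ _
    haveI : Algebra.FiniteType A (FC j) := Algebra.FiniteType.of_finitePresentation
    exact RingHom.finite_algebraMap.mpr Algebra.IsIntegral.finite

end Groth.Agent.H76.IntPair_FIN
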