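import Mathlib
import Groth.Prelude.Def_KoszulSh

/-!
# Koszul acyclicity in the exterior-power model

For a free module `M` with basis `b : Fin n → M` and a linear form `φ` such that
`φ (b 0), …, φ (b (n-1))` is a weakly regular sequence, the Koszul complex
`… → ⋀^(p+2) M → ⋀^(p+1) M → ⋀^p M` (contraction with `φ`) is exact in positive degrees.
-/

set_option autoImplicit false
set_option linter.style.haveILetI false
universe u
open exteriorPower

namespace Groth.Agent.H76.KoszulExt

variable {A : Type u} [CommRing A]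

/-- Contraction with a linear form on the exterior algebra. -/
noncomputable abbrev δ {M : Type u} [AddCommGroup M] [Module A M] (φ : M →ₗ[A] A) :
    ExteriorAlgebra A M →ₗ[A] ExteriorAlgebra A M :=
  CliffordAlgebra.contractLeft (Q := (0 : QuadraticForm A M)) φ

theorem delta_ι_mul {M : Type u} [AddCommGroup M] [Module A M] (φ : M →ₗ[A] A) (m : M)
    (x : ExteriorAlgebra A M) :
    δ φ (ExteriorAlgebra.ι A m * x) = φ m • x - ExteriorAlgebra.ι A m * δ φ x :=
  CliffordAlgebra.contractLeft_ι_mul (Q := (0 : QuadraticForm A M)) φ m x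

theorem delta_ι {M : Type u} [AddCommGroup M] [Module A M] (φ : M →ₗ[A] A) (m : M) :
    δ φ (ExteriorAlgebra.ι A m) = algebraMap A _ (φ m) :=
  CliffordAlgebra.contractLeft_ι (0 : QuadraticForm A M) φ m

theorem delta_one {M : Type u} [AddCommGroup M] [Module A M] (φ : M →ₗ[A] A) :
    δ φ (1 : ExteriorAlgebra A M) = 0 :=
  CliffordAlgebra.contractLeft_one (0 : QuadraticForm A M) φ

theorem delta_algebraMap {M : Type u} [AddCommGroup M] [Module A M] (φ : M →ₗ[A] A) (a : A) :
    δ φ (algebraMap A (ExteriorAlgebra A M) a) = 0 :=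
  CliffordAlgebra.contractLeft_algebraMap (0 : QuadraticForm A M) φ a

/-- The contraction of a decomposable element. -/
theorem delta_ιMulti {M : Type u} [AddCommGroup M] [Module A M] (φ : M →ₗ[A] A) (q : ℕ)
    (e : Fin (q + 1) → M) :
    δ φ (ExteriorAlgebra.ιMulti A (q + 1) e) =
      ∑ i : Fin (q + 1), ((-1 : A) ^ (i : ℕ) * φ (e i)) •
        ExteriorAlgebra.ιMulti A q (fun j => e (i.succAbove j)) := by
  induction q with
  | zero =>
    rw [ExteriorAlgebra.ιMulti_succ_apply, ExteriorAlgebra.ιMulti_zero_apply, delta_ι_mul,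
      delta_one, mul_zero, sub_zero, Fin.sum_univ_one, ExteriorAlgebra.ιMulti_zero_apply]
    simp
  | succ q ih =>
    have hterm : ∀ j : Fin (q + 1),
        ExteriorAlgebra.ιMulti A (q + 1) (fun k => e (j.succ.succAbove k))
        = ExteriorAlgebra.ι A (e 0) *
          ExteriorAlgebra.ιMulti A q (fun k => Matrix.vecTail e (j.succAbove k)) := by
      intro j
      rw [ExteriorAlgebra.ιMulti_succ_apply]
      congr 1
      congr 1
      funext k
      simp [Matrix.vecTail, Fin.succ_succAbove_succ]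
    rw [ExteriorAlgebra.ιMulti_succ_apply, delta_ι_mul, ih]
    conv_rhs => rw [Fin.sum_univ_succ]
    have h0 : (fun j : Fin (q + 1) => e ((0 : Fin (q + 2)).succAbove j)) = Matrix.vecTail e := by
      funext j; rfl
    rw [h0, Fin.val_zero, pow_zero, one_mul, sub_eq_add_neg, Finset.mul_sum,
      ← Finset.sum_neg_distrib]
    congr 1
    refine Finset.sum_congr rfl fun j _ => ?_
    rw [hterm j, mul_smul_comm, ← neg_smul, Fin.val_succ, pow_succ]
    congr 1
    show -((-1 : A) ^ (j : ℕ) * φ (e j.succ)) = (-1) ^ (j : ℕ) * -1 * φ (e j.succ)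
    ring

/-- A linear map on `⋀^(q+1) M` given by the Koszul formula on decomposables is the contraction. -/
theorem coe_d_eq {M : Type u} [AddCommGroup M] [Module A M] (φ : M →ₗ[A] A) (q : ℕ)
    (d : ↥(⋀[A]^(q + 1) M) →ₗ[A] ↥(⋀[A]^q M))
    (h : ∀ e : Fin (q + 1) → M, d (ιMulti A (q + 1) e) = KoszSh.dGen φ q e)
    (z : ↥(⋀[A]^(q + 1) M)) :
    ((d z : ↥(⋀[A]^q M)) : ExteriorAlgebra A M) = δ φ (z : ExteriorAlgebra A M) := by
  have key : (⋀[A]^q M).subtype ∘ₗ d = (δ φ) ∘ₗ (⋀[A]^(q + 1) M).subtype := by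
    apply LinearMap.ext_on (exteriorPower.ιMulti_span A (q + 1) M)
    rintro _ ⟨e, rfl⟩
    simp only [LinearMap.comp_apply, Submodule.subtype_apply, h, exteriorPower.ιMulti_apply_coe]
    rw [delta_ιMulti]
    simp [KoszSh.dGen]
  exact LinearMap.congr_fun key z

theorem delta_map {M' M : Type u} [AddCommGroup M'] [Module A M'] [AddCommGroup M] [Module A M]
    (i : M' →ₗ[A] M) (φ : M →ₗ[A] A) (x : ExteriorAlgebra A M') :
    δ φ (ExteriorAlgebra.map i x) = ExteriorAlgebra.map i (δ (φ ∘ₗ i) x) := by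
  induction x using CliffordAlgebra.left_induction with
  | algebraMap r =>
    rw [AlgHom.commutes, delta_algebraMap, delta_algebraMap, map_zero]
  | add x y hx hy => simp only [map_add, hx, hy]
  | ι_mul x m hx =>
    have h1 : ExteriorAlgebra.map i (ExteriorAlgebra.ι A m * x)
        = ExteriorAlgebra.ι A (i m) * ExteriorAlgebra.map i x := by
      rw [map_mul, ExteriorAlgebra.map_apply_ι]
    rw [h1, delta_ι_mul, hx, delta_ι_mul, map_sub, map_smul, map_mul,
      ExteriorAlgebra.map_apply_ι]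
    rfl

theorem ι_mul_mem {M : Type u} [AddCommGroup M] [Module A M] (m : M) (q : ℕ)
    (t : ExteriorAlgebra A M) (ht : t ∈ ⋀[A]^q M) :
    ExteriorAlgebra.ι A m * t ∈ ⋀[A]^(q + 1) M := by
  have h : ExteriorAlgebra.ι A m * t ∈
      LinearMap.range (ExteriorAlgebra.ι A (M := M)) *
        (LinearMap.range (ExteriorAlgebra.ι A (M := M))) ^ q :=
    Submodule.mul_mem_mul (LinearMap.mem_range_self _ m) ht
  rwa [← pow_succ'] at h

theorem map_mem {M' M : Type u} [AddCommGroup M'] [Module A M'] [AddCommGroup M] [Module A M]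
    (i : M' →ₗ[A] M) (q : ℕ) (x : ExteriorAlgebra A M') (hx : x ∈ ⋀[A]^q M') :
    ExteriorAlgebra.map i x ∈ ⋀[A]^q M := by
  rw [← ExteriorAlgebra.ιMulti_span_fixedDegree] at hx
  induction hx using Submodule.span_induction with
  | mem y hy =>
    obtain ⟨v, rfl⟩ := hy
    rw [ExteriorAlgebra.map_apply_ιMulti]
    exact ExteriorAlgebra.ιMulti_range A q ⟨_, rfl⟩
  | zero => rw [map_zero]; exact zero_mem _
  | add y z _ _ hy hz => rw [map_add]; exact add_mem hy hz
  | smul a y _ hy => rw [map_smul]; exact Submodule.smul_mem _ _ hy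

/-- The "previous" exterior power, with `⊥` in degree `-1`. -/
noncomputable def prev (M' : Type u) [AddCommGroup M'] [Module A M'] :
    ℕ → Submodule A (ExteriorAlgebra A M')
  | 0 => ⊥
  | (q + 1) => ⋀[A]^q M'

set_option maxHeartbeats 1600000 in
/-- The inductive step: adjoining one basis vector. -/
theorem step {M' M : Type u} [AddCommGroup M'] [Module A M'] [AddCommGroup M] [Module A M]
    (i : M' →ₗ[A] M) (r : M →ₗ[A] M') (β : M →ₗ[A] A) (v0 : M)
    (hri : ∀ m', r (i m') = m') (hr0 : r v0 = 0) (hβi : β ∘ₗ i = 0) (hβ0 : β v0 = 1)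
    (hdec : ∀ m, m = i (r m) + β m • v0)
    (φ : M →ₗ[A] A)
    (IH : ∀ q : ℕ, ∀ y ∈ ⋀[A]^(q + 1) M', δ (φ ∘ₗ i) y = 0 →
      ∃ v ∈ ⋀[A]^(q + 2) M', δ (φ ∘ₗ i) v = y)
    (H0 : ∀ a : A, (∃ m' : M', φ (i m') + φ v0 * a = 0) → ∃ m'' : M', φ (i m'') = a)
    (p : ℕ) (z : ExteriorAlgebra A M) (hz : z ∈ ⋀[A]^(p + 1) M) (hdz : δ φ z = 0) :
    ∃ w ∈ ⋀[A]^(p + 2) M, δ φ w = z := by
  obtain ⟨e, he⟩ : ∃ e : ExteriorAlgebra A M, e = ExteriorAlgebra.ι A v0 := ⟨_, rfl⟩
  have hRI : ∀ x : ExteriorAlgebra A M',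
      ExteriorAlgebra.map r (ExteriorAlgebra.map i x) = x :=
    ExteriorAlgebra.leftInverse_map_iff.mpr hri
  have hRe : ExteriorAlgebra.map r e = 0 := by
    rw [he, ExteriorAlgebra.map_apply_ι, hr0, map_zero]
  have hee : e * e = 0 := by rw [he]; exact ExteriorAlgebra.ι_sq_zero v0
  -- existence of the decomposition on decomposable elements
  have L6gen : ∀ (q : ℕ) (v : Fin q → M), ∃ x ∈ ⋀[A]^q M', ∃ y ∈ prev M' q,
      ExteriorAlgebra.ιMulti A q v
        = ExteriorAlgebra.map i x + e * ExteriorAlgebra.map i y := by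
    intro q
    induction q with
    | zero =>
      intro v
      refine ⟨1, ?_, 0, zero_mem _, ?_⟩
      · show (1 : ExteriorAlgebra A M') ∈ (LinearMap.range (ExteriorAlgebra.ι A)) ^ 0
        rw [pow_zero]
        exact Submodule.one_le.mp le_rfl
      · rw [ExteriorAlgebra.ιMulti_zero_apply, map_one, map_zero, mul_zero, add_zero]
    | succ q ih =>
      intro v
      obtain ⟨x, hx, y, hy, hxy⟩ := ih (Matrix.vecTail v)
      obtain ⟨a, ha⟩ : ∃ a : ExteriorAlgebra A M', a = ExteriorAlgebra.ι A (r (v 0)) :=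
        ⟨_, rfl⟩
      have hay : a * y ∈ ⋀[A]^q M' := by
        cases q with
        | zero =>
          have : y = 0 := (Submodule.mem_bot A).mp hy
          rw [this, mul_zero]; exact zero_mem _
        | succ q' => rw [ha]; exact ι_mul_mem _ _ _ hy
      refine ⟨a * x, by rw [ha]; exact ι_mul_mem _ _ _ hx, β (v 0) • x - a * y,
        sub_mem (Submodule.smul_mem _ _ hx) hay, ?_⟩
      obtain ⟨P, hP⟩ : ∃ P : ExteriorAlgebra A M, P = ExteriorAlgebra.ι A (i (r (v 0))) :=
        ⟨_, rfl⟩
      have hPa : ExteriorAlgebra.map i a = P := by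
        rw [ha, hP, ExteriorAlgebra.map_apply_ι]
      have hv0 : ExteriorAlgebra.ι A (v 0) = P + β (v 0) • e := by
        conv_lhs => rw [hdec (v 0)]
        rw [map_add, map_smul, hP, he]
      have hanti : P * e = -(e * P) := by
        rw [hP, he]
        exact eq_neg_of_add_eq_zero_left (ExteriorAlgebra.ι_add_mul_swap _ _)
      obtain ⟨X, hX⟩ : ∃ X : ExteriorAlgebra A M, X = ExteriorAlgebra.map i x := ⟨_, rfl⟩
      obtain ⟨Y, hY⟩ : ∃ Y : ExteriorAlgebra A M, Y = ExteriorAlgebra.map i y := ⟨_, rfl⟩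
      have h1 : P * (e * Y) = -(e * (P * Y)) := by
        rw [← mul_assoc, hanti, neg_mul, mul_assoc]
      have h2 : (β (v 0) • e) * (e * Y) = 0 := by
        rw [smul_mul_assoc, ← mul_assoc, hee, zero_mul, smul_zero]
      rw [ExteriorAlgebra.ιMulti_succ_apply, hxy, hv0, map_mul, map_sub, map_smul, map_mul,
        hPa, ← hX, ← hY]
      calc (P + β (v 0) • e) * (X + e * Y)
          = P * X + P * (e * Y) + ((β (v 0) • e) * X + (β (v 0) • e) * (e * Y)) := by
            rw [add_mul, mul_add, mul_add]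
        _ = P * X + e * (β (v 0) • X - P * Y) := by
            rw [h1, h2, smul_mul_assoc, mul_sub, mul_smul_comm]; abel
  have L6 : ∀ (q : ℕ) (t : ExteriorAlgebra A M), t ∈ ⋀[A]^q M → ∃ x ∈ ⋀[A]^q M',
      ∃ y ∈ prev M' q, t = ExteriorAlgebra.map i x + e * ExteriorAlgebra.map i y := by
    intro q t ht
    rw [← ExteriorAlgebra.ιMulti_span_fixedDegree] at ht
    induction ht using Submodule.span_induction with
    | mem t ht =>
      obtain ⟨v, rfl⟩ := ht
      exact L6gen q v
    | zero => exact ⟨0, zero_mem _, 0, zero_mem _, by simp⟩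
    | add s t _ _ hs ht =>
      obtain ⟨x1, hx1, y1, hy1, h1⟩ := hs
      obtain ⟨x2, hx2, y2, hy2, h2⟩ := ht
      refine ⟨x1 + x2, add_mem hx1 hx2, y1 + y2, add_mem hy1 hy2, ?_⟩
      rw [h1, h2, map_add, map_add, mul_add]; abel
    | smul c t _ ht =>
      obtain ⟨x1, hx1, y1, hy1, h1⟩ := ht
      refine ⟨c • x1, Submodule.smul_mem _ _ hx1, c • y1, Submodule.smul_mem _ _ hy1, ?_⟩
      rw [h1, map_smul, map_smul, smul_add, mul_smul_comm]
  -- uniqueness
  have L7 : ∀ x y : ExteriorAlgebra A M',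
      ExteriorAlgebra.map i x + e * ExteriorAlgebra.map i y = 0 → x = 0 ∧ y = 0 := by
    intro x y h
    have hx : x = 0 := by
      have := congrArg (ExteriorAlgebra.map r) h
      rwa [map_add, map_mul, hRI, hRe, zero_mul, add_zero, map_zero] at this
    refine ⟨hx, ?_⟩
    rw [hx, map_zero, zero_add] at h
    have h2 := congrArg (δ β) h
    rw [he, delta_ι_mul, hβ0, one_smul, delta_map, hβi, map_zero] at h2
    have h3 : (δ (0 : M' →ₗ[A] A)) y = 0 := by
      show (CliffordAlgebra.contractLeft (Q := (0 : QuadraticForm A M')) (0 : M' →ₗ[A] A)) y = 0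
      rw [map_zero]; rfl
    rw [h3, map_zero, mul_zero, sub_zero] at h2
    have := congrArg (ExteriorAlgebra.map r) h2
    rwa [hRI, map_zero] at this
  -- decompose z
  obtain ⟨x, hx, y, hy, hzxy⟩ := L6 (p + 1) z hz
  have hy' : y ∈ ⋀[A]^p M' := hy
  have hcomp : δ φ z = ExteriorAlgebra.map i (δ (φ ∘ₗ i) x + φ v0 • y)
      + e * ExteriorAlgebra.map i (-(δ (φ ∘ₗ i) y)) := by
    rw [hzxy, map_add, he, delta_ι_mul, delta_map, delta_map, map_add, map_smul, map_neg,
      mul_neg]
    abel
  rw [hdz] at hcomp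
  obtain ⟨hc1, hc2⟩ := L7 _ _ hcomp.symm
  have hdy : δ (φ ∘ₗ i) y = 0 := neg_eq_zero.mp hc2
  -- Step A
  have stepA : ∃ v ∈ ⋀[A]^(p + 1) M', δ (φ ∘ₗ i) v = y := by
    cases p with
    | zero =>
      have hy0 : y ∈ (1 : Submodule A (ExteriorAlgebra A M')) := by
        have : y ∈ (LinearMap.range (ExteriorAlgebra.ι A (M := M'))) ^ 0 := hy'
        rwa [pow_zero] at this
      obtain ⟨a, rfl⟩ := Submodule.mem_one.mp hy0
      have hx1 : x ∈ LinearMap.range (ExteriorAlgebra.ι A (M := M')) := by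
        have : x ∈ (LinearMap.range (ExteriorAlgebra.ι A (M := M'))) ^ (0 + 1) := hx
        rwa [zero_add, pow_one] at this
      obtain ⟨m', rfl⟩ := hx1
      rw [delta_ι, Algebra.smul_def, ← map_mul, ← map_add] at hc1
      have hc1' : (φ ∘ₗ i) m' + φ v0 * a = 0 :=
        (ExteriorAlgebra.algebraMap_eq_zero_iff M' _).mp hc1
      obtain ⟨m'', hm''⟩ := H0 a ⟨m', hc1'⟩
      refine ⟨ExteriorAlgebra.ι A m'', ?_, ?_⟩
      · show ExteriorAlgebra.ι A m'' ∈ (LinearMap.range (ExteriorAlgebra.ι A (M := M'))) ^ (0 + 1)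
        rw [zero_add, pow_one]
        exact LinearMap.mem_range_self _ _
      · rw [delta_ι, LinearMap.comp_apply, hm'']
    | succ p' => exact IH p' y hy' hdy
  obtain ⟨v, hv, hdv⟩ := stepA
  -- Step B
  have hcmem : x + φ v0 • v ∈ ⋀[A]^(p + 1) M' := add_mem hx (Submodule.smul_mem _ _ hv)
  have hdc : δ (φ ∘ₗ i) (x + φ v0 • v) = 0 := by
    rw [map_add, map_smul, hdv]; exact hc1
  obtain ⟨u, hu, hdu⟩ := IH p _ hcmem hdc
  -- Step C
  refine ⟨ExteriorAlgebra.map i u - e * ExteriorAlgebra.map i v,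
    sub_mem (map_mem i _ u hu) ?_, ?_⟩
  · rw [he]; exact ι_mul_mem _ _ _ (map_mem i _ v hv)
  · rw [map_sub, he, delta_ι_mul, delta_map, delta_map, hdu, hdv, map_add, map_smul, hzxy, he]
    abel

set_option maxHeartbeats 1600000 in
theorem acyclic (n : ℕ) : ∀ (M : Type u) [AddCommGroup M] [Module A M]
    (b : Module.Basis (Fin n) A M) (φ : M →ₗ[A] A),
    RingTheory.Sequence.IsWeaklyRegular A (List.ofFn fun k => φ (b k)) →
    ∀ q : ℕ, ∀ z ∈ ⋀[A]^(q + 1) M, δ φ z = 0 → ∃ w ∈ ⋀[A]^(q + 2) M, δ φ w = z := by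
  classical
  induction n with
  | zero =>
    intro M _ _ b φ _ q z hz _
    have hM : ∀ m : M, m = 0 := fun m => by
      rw [← b.sum_repr m, Finset.univ_eq_empty, Finset.sum_empty]
    have hι : LinearMap.range (ExteriorAlgebra.ι A : M →ₗ[A] ExteriorAlgebra A M) = ⊥ := by
      rw [LinearMap.range_eq_bot]
      ext m
      rw [hM m, map_zero, map_zero]
    have h2 : ⋀[A]^(q + 1) M = ⊥ := by
      show LinearMap.range (ExteriorAlgebra.ι A) ^ (q + 1) = ⊥
      rw [hι, Submodule.bot_pow (Nat.succ_ne_zero q)]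
    rw [h2] at hz
    have hz0 : z = 0 := (Submodule.mem_bot A).mp hz
    exact ⟨0, zero_mem _, by rw [map_zero, hz0]⟩
  | succ n ih =>
    intro M _ _ b φ hreg
    -- the maps
    let i : (Fin n → A) →ₗ[A] M := Fintype.linearCombination A (fun k : Fin n => b k.castSucc)
    let r : M →ₗ[A] (Fin n → A) := LinearMap.pi (fun k : Fin n => b.coord k.castSucc)
    let β : M →ₗ[A] A := b.coord (Fin.last n)
    have hi : ∀ k : Fin n, i (Pi.single k 1) = b k.castSucc := by
      intro k
      show Fintype.linearCombination A (fun k : Fin n => b k.castSucc) (Pi.single k 1) = _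
      rw [Fintype.linearCombination_apply_single, one_smul]
    have hrb : ∀ j : Fin n, r (b j.castSucc) = Pi.single j 1 := by
      intro j
      funext k
      show b.coord k.castSucc (b j.castSucc) = _
      rw [Module.Basis.coord_apply, Module.Basis.repr_self, Finsupp.single_apply,
        Pi.single_apply]
      by_cases hkj : k = j
      · subst hkj; simp
      · rw [if_neg (fun h => hkj (Fin.castSucc_injective _ h).symm), if_neg hkj]
    have hr0 : r (b (Fin.last n)) = 0 := by
      funext k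
      show b.coord k.castSucc (b (Fin.last n)) = 0
      rw [Module.Basis.coord_apply, Module.Basis.repr_self, Finsupp.single_apply,
        if_neg (fun h => Fin.castSucc_ne_last k h.symm)]
    have hβb : ∀ j : Fin n, β (b j.castSucc) = 0 := by
      intro j
      show b.coord (Fin.last n) (b j.castSucc) = 0
      rw [Module.Basis.coord_apply, Module.Basis.repr_self, Finsupp.single_apply,
        if_neg (Fin.castSucc_ne_last j)]
    have hβ0 : β (b (Fin.last n)) = 1 := by
      show b.coord (Fin.last n) (b (Fin.last n)) = 1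
      rw [Module.Basis.coord_apply, Module.Basis.repr_self, Finsupp.single_eq_same]
    have hri : ∀ m' : Fin n → A, r (i m') = m' := by
      intro m'
      have : r ∘ₗ i = LinearMap.id := by
        apply (Pi.basisFun A (Fin n)).ext
        intro k
        rw [Pi.basisFun_apply, LinearMap.comp_apply, hi, hrb, LinearMap.id_apply]
      exact LinearMap.congr_fun this m'
    have hβi : β ∘ₗ i = 0 := by
      apply (Pi.basisFun A (Fin n)).ext
      intro k
      rw [Pi.basisFun_apply, LinearMap.comp_apply, hi, hβb, LinearMap.zero_apply]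
    have hdec : ∀ m : M, m = i (r m) + β m • b (Fin.last n) := by
      intro m
      have : LinearMap.id = i ∘ₗ r + β.smulRight (b (Fin.last n)) := by
        apply b.ext
        intro k
        induction k using Fin.lastCases with
        | last =>
          rw [LinearMap.id_apply, LinearMap.add_apply, LinearMap.comp_apply, hr0, map_zero,
            zero_add, LinearMap.smulRight_apply, hβ0, one_smul]
        | cast j =>
          rw [LinearMap.id_apply, LinearMap.add_apply, LinearMap.comp_apply, hrb, hi,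
            LinearMap.smulRight_apply, hβb, zero_smul, add_zero]
      exact LinearMap.congr_fun this m
    -- the regular sequence
    have hlist : (List.ofFn fun k : Fin (n + 1) => φ (b k))
        = (List.ofFn fun j : Fin n => φ (b j.castSucc)) ++ [φ (b (Fin.last n))] := by
      rw [List.ofFn_succ', List.concat_eq_append]
    rw [hlist, RingTheory.Sequence.isWeaklyRegular_append_iff,
      RingTheory.Sequence.isWeaklyRegular_singleton_iff] at hreg
    obtain ⟨hreg1, hreg2⟩ := hreg
    have hφi : ∀ k : Fin n, (φ ∘ₗ i) ((Pi.basisFun A (Fin n)) k) = φ (b k.castSucc) := by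
      intro k
      rw [Pi.basisFun_apply, LinearMap.comp_apply, hi]
    have hreg' : RingTheory.Sequence.IsWeaklyRegular A
        (List.ofFn fun k => (φ ∘ₗ i) ((Pi.basisFun A (Fin n)) k)) := by
      have : (fun k => (φ ∘ₗ i) ((Pi.basisFun A (Fin n)) k))
          = fun j : Fin n => φ (b j.castSucc) := funext hφi
      rw [this]; exact hreg1
    have IH := ih (Fin n → A) (Pi.basisFun A (Fin n)) (φ ∘ₗ i) hreg'
    -- the ideal
    obtain ⟨g, hg⟩ : ∃ g : Fin n → A, g = fun j : Fin n => φ (b j.castSucc) := ⟨_, rfl⟩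
    rw [← hg] at hreg2
    have hφim : ∀ m' : Fin n → A, φ (i m') = ∑ k, m' k * g k := by
      intro m'
      show φ (Fintype.linearCombination A (fun k : Fin n => b k.castSucc) m') = _
      rw [Fintype.linearCombination_apply, map_sum, hg]
      refine Finset.sum_congr rfl fun k _ => ?_
      rw [map_smul, smul_eq_mul]
    have hId : Ideal.ofList (List.ofFn g) = Ideal.span (Set.range g) := by
      show Ideal.span {x | x ∈ List.ofFn g} = _
      congr 1
      ext x
      simp [List.mem_ofFn]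
    have H0 : ∀ a : A, (∃ m' : Fin n → A, φ (i m') + φ (b (Fin.last n)) * a = 0) →
        ∃ m'' : Fin n → A, φ (i m'') = a := by
      rintro a ⟨m', hm'⟩
      have h1 : φ (b (Fin.last n)) * a ∈ Ideal.span (Set.range g) := by
        have : φ (b (Fin.last n)) * a = -(φ (i m')) := eq_neg_of_add_eq_zero_right hm'
        rw [this, hφim]
        exact neg_mem (Ideal.mem_span_range_iff_exists_fun.mpr ⟨m', rfl⟩)
      have h2 : a ∈ Ideal.span (Set.range g) := by
        have hq : (Submodule.Quotient.mk a :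
            A ⧸ (Ideal.ofList (List.ofFn g) • ⊤ : Submodule A A)) = 0 := by
          apply hreg2
          show φ (b (Fin.last n)) • Submodule.Quotient.mk a = φ (b (Fin.last n)) • 0
          rw [smul_zero, ← Submodule.Quotient.mk_smul, Submodule.Quotient.mk_eq_zero, smul_eq_mul,
            smul_eq_mul, Ideal.mul_top, hId]
          exact h1
        rw [Submodule.Quotient.mk_eq_zero, smul_eq_mul, Ideal.mul_top, hId] at hq
        exact hq
      obtain ⟨c, hc⟩ := Ideal.mem_span_range_iff_exists_fun.mp h2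
      exact ⟨c, by rw [hφim, hc]⟩
    intro q z hz hdz
    exact step i r β (b (Fin.last n)) hri hr0 hβi hβ0 hdec φ IH H0 q z hz hdz

/-- **Koszul acyclicity in the exterior-power model.** -/
theorem koszul_exact {A : Type u} [CommRing A] {M : Type u} [AddCommGroup M] [Module A M] {n : ℕ}
    (b : Module.Basis (Fin n) A M) (φ : M →ₗ[A] A)
    (hreg : RingTheory.Sequence.IsWeaklyRegular A (List.ofFn fun k => φ (b k)))
    (p : ℕ)
    (d₁ : ↥(⋀[A]^(p + 2) M) →ₗ[A] ↥(⋀[A]^(p + 1) M))
    (d₀ : ↥(⋀[A]^(p + 1) M) →ₗ[A] ↥(⋀[A]^p M))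
    (h₁ : ∀ e : Fin (p + 2) → M, d₁ (ιMulti A (p + 2) e) = KoszSh.dGen φ (p + 1) e)
    (h₀ : ∀ e : Fin (p + 1) → M, d₀ (ιMulti A (p + 1) e) = KoszSh.dGen φ p e)
    (z : ↥(⋀[A]^(p + 1) M)) (hz : d₀ z = 0) : ∃ w, d₁ w = z := by
  have hdz : δ φ (z : ExteriorAlgebra A M) = 0 := by
    rw [← coe_d_eq φ p d₀ h₀ z, hz]; rfl
  obtain ⟨W, hW, hdW⟩ := acyclic n M b φ hreg p (z : ExteriorAlgebra A M) z.2 hdz
  refine ⟨⟨W, hW⟩, ?_⟩
  apply Subtype.ext
  rw [coe_d_eq φ (p + 1) d₁ h₁ ⟨W, hW⟩]
  exact hdW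

end Groth.Agent.H76.KoszulExt
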