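import Mathlib
import Groth.Prelude.Def_Curve
import Groth.Prelude.Def_CurvBase
import Groth.Agent.S1556

set_option autoImplicit false
universe u
open CategoryTheory AlgebraicGeometry Opposite

namespace Groth.Agent.H76.LSO_DVR

theorem ofHom_resMap (k : Type u) [Field k] (C : Scheme.{u})
    [C.Over (Spec (CommRingCat.of k))] (p : C) :
    CommRingCat.ofHom (Curv2.resMap k C p) =
      (Scheme.ΓSpecIso (CommRingCat.of k)).inv ≫
        (C.fromSpecResidueField p ≫ (C ↘ Spec (CommRingCat.of k))).appTop ≫
          (Scheme.ΓSpecIso (C.residueField p)).hom := by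
  have h1 : (C.fromSpecResidueField p).appTop ≫ (Scheme.ΓSpecIso (C.residueField p)).hom =
      C.presheaf.germ ⊤ p trivial ≫ C.residue p := by
    rw [Scheme.fromSpecResidueField, Scheme.Hom.comp_appTop, Scheme.fromSpecStalk_appTop]
    simp
  rw [Scheme.Hom.comp_appTop, Category.assoc, h1]
  rfl

theorem bijective_resMap (k : Type u) [Field k] [IsAlgClosed k] (C : Scheme.{u})
    [C.Over (Spec (CommRingCat.of k))] [LocallyOfFiniteType (C ↘ Spec (CommRingCat.of k))] (p : C)
    (hp : IsClosed ({p} : Set C)) : Function.Bijective (Curv2.resMap k C p) := by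
  have hiso : IsIso (C.fromSpecResidueField p ≫ (C ↘ Spec (CommRingCat.of k))) := by
    rw [← SpecMap_residueFieldIsoBase_inv (C ↘ Spec (CommRingCat.of k)) p hp]
    infer_instance
  have : IsIso (CommRingCat.ofHom (Curv2.resMap k C p)) := by
    rw [ofHom_resMap]
    have : IsIso (Scheme.Hom.appTop
        (C.fromSpecResidueField p ≫ (C ↘ Spec (CommRingCat.of k)))) :=
      inferInstanceAs (IsIso (Scheme.Hom.app
        (C.fromSpecResidueField p ≫ (C ↘ Spec (CommRingCat.of k))) ⊤))
    infer_instance
  exact (ConcreteCategory.isIso_iff_bijective (CommRingCat.ofHom (Curv2.resMap k C p))).mp this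

attribute [local instance] Curv2.resAlgebra in
/-- (DVR) for helper7's S14471. -/
theorem isDVR_stalk (k : Type u) [Field k] [IsAlgClosed k] (C : Scheme.{u})
    [C.Over (Spec (CommRingCat.of k))]
    (hC : Curve.IsSmoothProperCurve k C (C ↘ (Spec (CommRingCat.of k)))) (p : C)
    (hp : IsClosed ({p} : Set C)) :
    ∃ _ : IsDomain ↑(C.presheaf.stalk p), IsDiscreteValuationRing ↑(C.presheaf.stalk p) := by
  obtain ⟨hprop, hsm, hint, hdim⟩ := hC
  haveI := hprop
  haveI := hsm
  haveI := hint
  haveI : Algebra.IsSeparable k (C.residueField p) := by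
    haveI : Algebra.IsIntegral k (C.residueField p) :=
      Algebra.isIntegral_of_surjective (bijective_resMap k C p hp).2
    haveI : Algebra.IsAlgebraic k (C.residueField p) := Algebra.IsIntegral.isAlgebraic
    infer_instance
  refine ⟨inferInstance, ?_⟩
  exact (Groth.Agent.S1556.result k C hdim p hp).mpr
    (by rw [Scheme.Hom.smoothLocus_eq_top]; trivial)

end Groth.Agent.H76.LSO_DVR
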