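import Groth.Agent.S4530
import Mathlib.RingTheory.Flat.FaithfullyFlat.Algebra
import Mathlib.RingTheory.LocalRing.Module
import Mathlib.RingTheory.LocalRing.ResidueField.Ideal
import Mathlib.LinearAlgebra.TensorProduct.Basis
import Mathlib.LinearAlgebra.Dimension.Free
import Mathlib.RingTheory.Ideal.Over

/-!
# Left invertibility of a map from a finite module to a projective module

Global-to-local principles (maximal ideals, faithfully flat descent, residue field of a local ring)
for the existence of a linear left inverse of `u : M → N`, `M` finite and `N` projective.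
-/

set_option autoImplicit false
universe u

namespace Groth.Agent.H76

open TensorProduct
open Groth.Agent.S4530 (CondS LeftInvLoc leftInvLoc_iff_condS leftInvLoc_comp_iff
  lTensor_injective_comp_iff)

section
variable {A : Type u} [CommRing A] {M N : Type u} [AddCommGroup M] [Module A M]
  [AddCommGroup N] [Module A N]

/-- `u` has a linear left inverse. -/
def LeftInv (u : M →ₗ[A] N) : Prop := ∃ w : N →ₗ[A] M, w ∘ₗ u = LinearMap.id

lemma leftInv_comp_iff {N₂ : Type u} [AddCommGroup N₂] [Module A N₂]
    (u : M →ₗ[A] N) (i : N →ₗ[A] N₂) (r : N₂ →ₗ[A] N) (hri : r ∘ₗ i = LinearMap.id) :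
    LeftInv (i ∘ₗ u) ↔ LeftInv u := by
  constructor
  · rintro ⟨w, hw⟩
    exact ⟨w ∘ₗ i, LinearMap.ext fun x => LinearMap.congr_fun hw x⟩
  · rintro ⟨w, hw⟩
    refine ⟨w ∘ₗ r, LinearMap.ext fun x => ?_⟩
    have h1 : r (i (u x)) = u x := LinearMap.congr_fun hri (u x)
    show w (r (i (u x))) = x
    rw [h1]
    exact LinearMap.congr_fun hw x

/-- Reduction to a finite free target: `N` is a retract of a free module `F`, and the image of
`M` lands in a finite free retract `F₀` of `F`. -/
theorem reduce_finite_free [Module.Finite A M] [Module.Projective A N] (u : M →ₗ[A] N) {P : Prop}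
    (h : ∀ (F : Type u) [AddCommGroup F] [Module A F] (F₀ : Type u) [AddCommGroup F₀]
      [Module A F₀] [Module.Free A F₀] [Module.Finite A F₀]
      (i : N →ₗ[A] F) (r : F →ₗ[A] N) (_ : r ∘ₗ i = LinearMap.id)
      (j : F₀ →ₗ[A] F) (q : F →ₗ[A] F₀) (_ : q ∘ₗ j = LinearMap.id)
      (u' : M →ₗ[A] F₀) (_ : j ∘ₗ u' = i ∘ₗ u), P) : P := by
  classical
  obtain ⟨i, hi⟩ := Module.projective_def'.1 (inferInstance : Module.Projective A N)
  obtain ⟨G, hG⟩ := (Module.Finite.fg_top : (⊤ : Submodule A M).FG)
  let T : Finset N := G.biUnion (fun g => (i (u g)).support)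
  have hmem : ∀ m, i (u m) ∈ Finsupp.supported A A (T : Set N) := by
    intro m
    have hm : m ∈ Submodule.span A (G : Set M) := by rw [hG]; trivial
    induction hm using Submodule.span_induction with
    | mem x hx =>
      rw [Finsupp.mem_supported]
      intro a ha
      exact Finset.mem_coe.2 (Finset.mem_biUnion.2 ⟨x, hx, ha⟩)
    | zero => rw [map_zero, map_zero]; exact Submodule.zero_mem _
    | add x y _ _ hx hy => rw [map_add, map_add]; exact Submodule.add_mem _ hx hy
    | smul a x _ hx => rw [map_smul, map_smul]; exact Submodule.smul_mem _ a hx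
  let F₀ : Submodule A (N →₀ A) := Finsupp.supported A A (T : Set N)
  let u' : M →ₗ[A] F₀ := (i ∘ₗ u).codRestrict F₀ hmem
  have hfac : F₀.subtype ∘ₗ u' = i ∘ₗ u := LinearMap.subtype_comp_codRestrict _ _ _
  have : Module.Free A F₀ :=
    Module.Free.of_equiv (Finsupp.supportedEquivFinsupp (M := A) (R := A) (T : Set N)).symm
  have : Module.Finite A F₀ :=
    Module.Finite.equiv (Finsupp.supportedEquivFinsupp (M := A) (R := A) (T : Set N)).symm
  have hq : (Finsupp.restrictDom A A (T : Set N)) ∘ₗ F₀.subtype = LinearMap.id :=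
    Finsupp.restrictDom_comp_subtype (M := A) (R := A) (T : Set N)
  exact h (N →₀ A) (↥F₀) i (Finsupp.linearCombination A id) hi F₀.subtype
    (Finsupp.restrictDom A A (T : Set N)) hq u' hfac

/-- The ideal of scalars `a` such that `a • id` factors through `u`. -/
def factorIdeal (u : M →ₗ[A] N) : Ideal A where
  carrier := {a | ∃ v : N →ₗ[A] M, v ∘ₗ u = a • (LinearMap.id : M →ₗ[A] M)}
  zero_mem' := by
    show ∃ v : N →ₗ[A] M, v ∘ₗ u = (0 : A) • (LinearMap.id : M →ₗ[A] M)
    exact ⟨0, by rw [LinearMap.zero_comp, zero_smul]⟩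
  add_mem' := by
    rintro a b ⟨v, hv⟩ ⟨v', hv'⟩
    exact ⟨v + v', by rw [LinearMap.add_comp, hv, hv', add_smul]⟩
  smul_mem' := by
    rintro c a ⟨v, hv⟩
    exact ⟨c • v, by rw [LinearMap.smul_comp, hv, ← mul_smul, smul_eq_mul]⟩

lemma mem_factorIdeal (u : M →ₗ[A] N) (a : A) :
    a ∈ factorIdeal u ↔ ∃ v : N →ₗ[A] M, v ∘ₗ u = a • (LinearMap.id : M →ₗ[A] M) := Iff.rfl

lemma leftInv_of_forall_condS (u : M →ₗ[A] N)
    (h : ∀ (m : Ideal A) [m.IsMaximal], CondS m.primeCompl u) : LeftInv u := by
  by_cases hI : factorIdeal u = ⊤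
  · have h1 : (1 : A) ∈ factorIdeal u := by rw [hI]; exact Submodule.mem_top
    obtain ⟨v, hv⟩ := (mem_factorIdeal u 1).1 h1
    exact ⟨v, by rw [hv, one_smul]⟩
  · exfalso
    obtain ⟨m, hm, hIm⟩ := Ideal.exists_le_maximal (factorIdeal u) hI
    haveI := hm
    obtain ⟨v, s, t, hv⟩ := h m
    have hv' : (t : A) • (v ∘ₗ u) = (t : A) • ((s : A) • (LinearMap.id : M →ₗ[A] M)) := by
      simpa only [Submonoid.smul_def] using hv
    have hmem : (t : A) * (s : A) ∈ factorIdeal u := by
      rw [mem_factorIdeal]
      refine ⟨(t : A) • v, ?_⟩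
      rw [LinearMap.smul_comp, hv', mul_smul]
    rcases hm.isPrime.mem_or_mem (hIm hmem) with h1 | h1
    exacts [t.2 h1, s.2 h1]

/-- EGA 0_IV 19.1.14 (i): left invertibility is local at the maximal ideals. -/
theorem leftInv_iff_forall_maximal [Module.Finite A M] [Module.Projective A N] (u : M →ₗ[A] N) :
    LeftInv u ↔ ∀ (m : Ideal A) [m.IsMaximal], LeftInvLoc m.primeCompl u := by
  apply reduce_finite_free u
  intro F _ _ F₀ _ _ _ _ i r hi j q hq u' hfac
  have : Module.FinitePresentation A F₀ := Module.finitePresentation_of_projective A F₀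
  have hA : ∀ S : Submonoid A, LeftInvLoc S u ↔ CondS S u' := by
    intro S
    have h1 : LeftInvLoc S (i ∘ₗ u) ↔ LeftInvLoc S u := leftInvLoc_comp_iff S u i r hi
    have h2 : LeftInvLoc S (j ∘ₗ u') ↔ LeftInvLoc S u' := leftInvLoc_comp_iff S u' j q hq
    have h3 : LeftInvLoc S u' ↔ CondS S u' := leftInvLoc_iff_condS S u'
    rw [hfac] at h2
    exact h1.symm.trans (h2.trans h3)
  have hL : LeftInv u ↔ LeftInv u' := by
    have h1 : LeftInv (i ∘ₗ u) ↔ LeftInv u := leftInv_comp_iff u i r hi
    have h2 : LeftInv (j ∘ₗ u') ↔ LeftInv u' := leftInv_comp_iff u' j q hq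
    rw [hfac] at h2
    exact h1.symm.trans h2
  constructor
  · intro h m _
    rw [hA]
    obtain ⟨w, hw⟩ := hL.1 h
    exact ⟨w, 1, 1, by rw [hw]; simp only [one_smul]⟩
  · intro h
    rw [hL]
    exact leftInv_of_forall_condS u' (fun m _ => (hA _).1 (h m))

/-- Over a local ring: left invertibility is injectivity modulo the maximal ideal. -/
theorem leftInv_iff_lTensor_injective [IsLocalRing A] [Module.Finite A M] [Module.Projective A N]
    (u : M →ₗ[A] N) :
    LeftInv u ↔ Function.Injective (u.lTensor (IsLocalRing.ResidueField A)) := by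
  apply reduce_finite_free u
  intro F _ _ F₀ _ _ _ _ i r hi j q hq u' hfac
  have h1 : LeftInv (i ∘ₗ u) ↔ LeftInv u := leftInv_comp_iff u i r hi
  have h2 : LeftInv (j ∘ₗ u') ↔ LeftInv u' := leftInv_comp_iff u' j q hq
  rw [hfac] at h2
  have h3 := lTensor_injective_comp_iff (IsLocalRing.ResidueField A) u i r hi
  have h4 := lTensor_injective_comp_iff (IsLocalRing.ResidueField A) u' j q hq
  rw [hfac] at h4
  have h5 : LeftInv u' ↔ Function.Injective (u'.lTensor (IsLocalRing.ResidueField A)) :=
    IsLocalRing.split_injective_iff_lTensor_residueField_injective u'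
  exact h1.symm.trans (h2.trans (h5.trans (h4.symm.trans h3)))

/-- Faithfully flat descent of injectivity modulo a prime. -/
lemma lTensor_residueField_injective_of_baseChange (u : M →ₗ[A] N)
    (A' : Type u) [CommRing A'] [Algebra A A'] [Module.FaithfullyFlat A A']
    (m : Ideal A) [m.IsPrime]
    (h : ∃ w : A' ⊗[A] N →ₗ[A'] A' ⊗[A] M, w ∘ₗ u.baseChange A' = LinearMap.id) :
    Function.Injective (u.lTensor m.ResidueField) := by
  obtain ⟨w, hw⟩ := h
  obtain ⟨P, hP, hPm⟩ := Ideal.exists_isPrime_liesOver_of_faithfullyFlat (B := A') m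
  have key : ∀ a : A, a ∈ m ↔ algebraMap A A' a ∈ P := fun a => Ideal.mem_of_liesOver P m a
  have hf₁ : m ≤ RingHom.ker (algebraMap A P.ResidueField) := by
    intro a ha
    rw [RingHom.mem_ker, IsScalarTower.algebraMap_apply A A' P.ResidueField,
      Ideal.algebraMap_residueField_eq_zero]
    exact (key a).1 ha
  have hf₂ : m.primeCompl ≤
      (IsUnit.submonoid P.ResidueField).comap (algebraMap A P.ResidueField) := by
    intro a ha
    show IsUnit (algebraMap A P.ResidueField a)
    rw [isUnit_iff_ne_zero, ne_eq, IsScalarTower.algebraMap_apply A A' P.ResidueField,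
      Ideal.algebraMap_residueField_eq_zero]
    intro hmem
    exact ha ((key a).2 hmem)
  letI : Algebra m.ResidueField P.ResidueField :=
    (Ideal.ResidueField.lift m (algebraMap A P.ResidueField) hf₁ hf₂).toAlgebra
  haveI : IsScalarTower A m.ResidueField P.ResidueField :=
    IsScalarTower.of_algebraMap_eq' (by
      apply RingHom.ext
      intro a
      rw [RingHom.comp_apply, RingHom.algebraMap_toAlgebra]
      exact (Ideal.ResidueField.lift_algebraMap m _ hf₁ hf₂ a).symm)
  have h1 : Function.Injective ((u.baseChange A').baseChange P.ResidueField) := by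
    have hcomp : (w.baseChange P.ResidueField) ∘ₗ
        ((u.baseChange A').baseChange P.ResidueField) = LinearMap.id := by
      rw [← LinearMap.baseChange_comp, hw, LinearMap.baseChange_id]
    exact Function.LeftInverse.injective (g := w.baseChange P.ResidueField)
      (fun x => LinearMap.congr_fun hcomp x)
  have h2 : Function.Injective (u.baseChange P.ResidueField) :=
    (injective_baseChange_baseChange_iff A' P.ResidueField u).1 h1
  have h3 : Function.Injective ((u.baseChange m.ResidueField).baseChange P.ResidueField) :=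
    (injective_baseChange_baseChange_iff m.ResidueField P.ResidueField u).2 h2
  have h4 : Function.Injective ((u.baseChange m.ResidueField).lTensor P.ResidueField) := by
    intro x y hxy
    exact h3 hxy
  have h5 : Function.Injective (u.baseChange m.ResidueField) :=
    (Module.FaithfullyFlat.lTensor_injective_iff_injective _ _ _).1 h4
  intro x y hxy
  exact h5 hxy

end

lemma injective_of_linearIndependent_basis {R : Type*} [CommRing R] {V W : Type*}
    [AddCommGroup V] [Module R V] [AddCommGroup W] [Module R W] {ι : Type*}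
    (b : Module.Basis ι R V) (f : V →ₗ[R] W)
    (h : LinearIndependent R (fun i => f (b i))) : Function.Injective f := by
  have hf : ∀ x, f x = Finsupp.linearCombination R (fun i => f (b i)) (b.repr x) := by
    intro x
    have h1 := LinearMap.map_finsupp_linearCombination f (g := ⇑b) (b.repr x)
    rw [b.linearCombination_repr] at h1
    exact h1
  intro x y hxy
  rw [hf x, hf y] at hxy
  exact b.repr.injective (h hxy)

section
variable {A : Type u} [CommRing A] [IsLocalRing A] {M N : Type u} [AddCommGroup M] [Module A M]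
  [AddCommGroup N] [Module A N]

theorem exists_basis_of_li [Module.Flat A N] (u : M →ₗ[A] N) (m : ℕ) (x : Fin m → M)
    (hspan : Submodule.span A (Set.range x) = ⊤)
    (hli : LinearIndependent (IsLocalRing.ResidueField A)
      (fun i => (1 : IsLocalRing.ResidueField A) ⊗ₜ[A] u (x i))) :
    ∃ b : Module.Basis (Fin m) A M, ∀ i, b i = x i := by
  have h1 : LinearIndependent A (fun i => u (x i)) :=
    Module.IsLocalRing.linearIndependent_of_flat (fun i => u (x i)) hli
  have h2 : LinearIndependent A x := LinearIndependent.of_comp u h1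
  exact ⟨Module.Basis.mk h2 hspan.ge, fun i => Module.Basis.mk_apply h2 hspan.ge i⟩

end

end Groth.Agent.H76
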