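import Mathlib

/-!
# Length duality from an involutive antitone operation on submodules

`length_quotient_eq_krullDim_Icc`: `length (Y/X)` is the Krull dimension of the interval `[X, Y]`
in the lattice of submodules.  `length_dual`: if `D` is an antitone operation on submodules which
is involutive on a class `P` of submodules that is convex (`X ≤ Z ≤ Y`, `P X`, `P Y` ⇒ `P Z`) and
stable under `D`, then `length (Y/X) = length (D X / D Y)` for `X ≤ Y` in `P`.
(Application: lattices in `K^n` over a one-dimensional Gorenstein local domain, `D` = dual lattice: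
no Ext/Matlis duality needed.)
-/

set_option autoImplicit false
universe u v

namespace Groth.Agent.H76.LengthDual

variable {R : Type u} {V : Type v} [Ring R] [AddCommGroup V] [Module R V]

/-- submodules of `Y` containing `X ∩ Y` versus the interval `[X, Y]` -/
def iciIso (X Y : Submodule R V) (hXY : X ≤ Y) :
    Set.Ici (X.comap Y.subtype) ≃o Set.Icc X Y where
  toFun q := ⟨q.1.map Y.subtype, by
    refine ⟨?_, ?_⟩
    · intro x hx
      exact ⟨⟨x, hXY hx⟩, q.2 (show (⟨x, hXY hx⟩ : Y) ∈ X.comap Y.subtype from hx), rfl⟩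
    · rintro _ ⟨y, _, rfl⟩
      exact y.2⟩
  invFun Z := ⟨Z.1.comap Y.subtype, Submodule.comap_mono Z.2.1⟩
  left_inv q := Subtype.ext (Submodule.comap_map_eq_of_injective Y.injective_subtype q.1)
  right_inv Z := Subtype.ext (by
    show (Z.1.comap Y.subtype).map Y.subtype = Z.1
    rw [Submodule.map_comap_eq, Submodule.range_subtype]
    exact inf_eq_right.mpr Z.2.2)
  map_rel_iff' := by
    intro q q'
    show q.1.map Y.subtype ≤ q'.1.map Y.subtype ↔ q.1 ≤ q'.1
    exact Submodule.map_le_map_iff_of_injective Y.injective_subtype q.1 q'.1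

theorem length_quotient_eq_krullDim_Icc (X Y : Submodule R V) (hXY : X ≤ Y) :
    (Module.length R (↥Y ⧸ X.comap Y.subtype) : WithBot ℕ∞) = Order.krullDim (Set.Icc X Y) := by
  rw [Module.coe_length,
    Order.krullDim_eq_of_orderIso (Submodule.comapMkQRelIso (X.comap Y.subtype)),
    Order.krullDim_eq_of_orderIso (iciIso X Y hXY)]

/-- the order anti-isomorphism of intervals induced by an involutive antitone operation -/
def dualIso (D : Submodule R V → Submodule R V) (P : Submodule R V → Prop)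
    (hanti : ∀ Z Z', Z ≤ Z' → D Z' ≤ D Z) (hP : ∀ Z, P Z → P (D Z))
    (hDD : ∀ Z, P Z → D (D Z) = Z)
    (hconv : ∀ X Y Z, P X → P Y → X ≤ Z → Z ≤ Y → P Z)
    (X Y : Submodule R V) (hX : P X) (hY : P Y) :
    Set.Icc X Y ≃o (Set.Icc (D Y) (D X))ᵒᵈ where
  toFun Z := OrderDual.toDual ⟨D Z.1, ⟨hanti _ _ Z.2.2, hanti _ _ Z.2.1⟩⟩
  invFun W := ⟨D (OrderDual.ofDual W).1, by
    refine ⟨?_, ?_⟩
    · have h := hanti _ _ (OrderDual.ofDual W).2.2
      rwa [hDD X hX] at h
    · have h := hanti _ _ (OrderDual.ofDual W).2.1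
      rwa [hDD Y hY] at h⟩
  left_inv Z := Subtype.ext (hDD Z.1 (hconv X Y Z.1 hX hY Z.2.1 Z.2.2))
  right_inv W := by
    apply OrderDual.ofDual.injective
    exact Subtype.ext (hDD (OrderDual.ofDual W).1
      (hconv (D Y) (D X) _ (hP Y hY) (hP X hX) (OrderDual.ofDual W).2.1 (OrderDual.ofDual W).2.2))
  map_rel_iff' := by
    intro Z Z'
    show D Z'.1 ≤ D Z.1 ↔ Z.1 ≤ Z'.1
    constructor
    · intro h
      have h2 := hanti _ _ h
      rwa [hDD Z.1 (hconv X Y Z.1 hX hY Z.2.1 Z.2.2),
        hDD Z'.1 (hconv X Y Z'.1 hX hY Z'.2.1 Z'.2.2)] at h2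
    · exact hanti _ _

theorem length_dual (D : Submodule R V → Submodule R V) (P : Submodule R V → Prop)
    (hanti : ∀ Z Z', Z ≤ Z' → D Z' ≤ D Z) (hP : ∀ Z, P Z → P (D Z))
    (hDD : ∀ Z, P Z → D (D Z) = Z)
    (hconv : ∀ X Y Z, P X → P Y → X ≤ Z → Z ≤ Y → P Z)
    (X Y : Submodule R V) (hX : P X) (hY : P Y) (hXY : X ≤ Y) :
    Module.length R (↥Y ⧸ X.comap Y.subtype) =
      Module.length R (↥(D X) ⧸ (D Y).comap (D X).subtype) := by
  apply WithBot.coe_injective
  rw [length_quotient_eq_krullDim_Icc X Y hXY,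
    length_quotient_eq_krullDim_Icc (D Y) (D X) (hanti _ _ hXY),
    Order.krullDim_eq_of_orderIso (dualIso D P hanti hP hDD hconv X Y hX hY),
    Order.krullDim_orderDual]

end Groth.Agent.H76.LengthDual
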