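import Mathlib
import Groth.Prelude.Def_W4c2arithlefschetzNode

set_option autoImplicit false
set_option linter.unusedSectionVars false
set_option linter.unusedVariables false
set_option linter.style.longLine false

universe u

namespace Groth.Agent.H76.NodeAlg

open MvPowerSeries

/-! ### general length lemmas -/

theorem mem_sup_span {R : Type*} [CommRing R] (I : Ideal R) (b x : R) :
    x ∈ I ⊔ Ideal.span {b} ↔ ∃ i ∈ I, ∃ y, x = i + y * b := by
  rw [Submodule.mem_sup]
  constructor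
  · rintro ⟨i, hi, z, hz, rfl⟩
    obtain ⟨y, rfl⟩ := Ideal.mem_span_singleton'.mp hz
    exact ⟨i, hi, y, rfl⟩
  · rintro ⟨i, hi, y, rfl⟩
    exact ⟨i, hi, y * b, Ideal.mem_span_singleton'.mpr ⟨y, rfl⟩, rfl⟩

theorem length_step {R : Type*} [CommRing R] (K1 Kn Kn1 : Ideal R) (c : R)
    (h1 : ∀ x ∈ K1, c * x ∈ Kn1) (h2 : ∀ x, c * x ∈ Kn1 → x ∈ K1) (h3 : Kn1 ≤ Kn)
    (h4 : ∀ x ∈ Kn, ∃ z, x - c * z ∈ Kn1) (h5 : ∀ z, c * z ∈ Kn) :
    Module.length R (R ⧸ Kn1) = Module.length R (R ⧸ K1) + Module.length R (R ⧸ Kn) := by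
  obtain ⟨fm, hfm⟩ : ∃ fm : (R ⧸ K1) →ₗ[R] (R ⧸ Kn1),
      ∀ x : R, fm (Submodule.Quotient.mk x) = Submodule.Quotient.mk (c * x) :=
    ⟨Submodule.mapQ K1 Kn1 (LinearMap.mulLeft R c) (fun x hx => h1 x hx), fun x => rfl⟩
  obtain ⟨g, hg⟩ : ∃ g : (R ⧸ Kn1) →ₗ[R] (R ⧸ Kn),
      ∀ x : R, g (Submodule.Quotient.mk x) = Submodule.Quotient.mk x :=
    ⟨Submodule.mapQ Kn1 Kn LinearMap.id (fun x hx => h3 hx), fun x => rfl⟩
  have hinj : Function.Injective fm := by
    rw [injective_iff_map_eq_zero]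
    intro z hz
    obtain ⟨x, rfl⟩ := Submodule.Quotient.mk_surjective _ z
    rw [hfm, Submodule.Quotient.mk_eq_zero] at hz
    rw [Submodule.Quotient.mk_eq_zero]
    exact h2 x hz
  have hsurj : Function.Surjective g := by
    intro y
    obtain ⟨x, rfl⟩ := Submodule.Quotient.mk_surjective _ y
    exact ⟨Submodule.Quotient.mk x, hg x⟩
  have hex : Function.Exact fm g := by
    intro y
    obtain ⟨x, rfl⟩ := Submodule.Quotient.mk_surjective _ y
    rw [hg, Submodule.Quotient.mk_eq_zero]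
    constructor
    · intro hx
      obtain ⟨z, hz⟩ := h4 x hx
      refine ⟨Submodule.Quotient.mk z, ?_⟩
      rw [hfm, Submodule.Quotient.eq]
      have : c * z - x = -(x - c * z) := by ring
      rw [this]; exact Kn1.neg_mem hz
    · rintro ⟨w, hw⟩
      obtain ⟨z, rfl⟩ := Submodule.Quotient.mk_surjective _ w
      rw [hfm, Submodule.Quotient.eq] at hw
      have hx' : x = c * z - (c * z - x) := by ring
      rw [hx']
      exact Kn.sub_mem (h5 z) (h3 hw)
  exact Module.length_eq_add_of_exact fm g hinj hsurj hex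

theorem length_chain {R : Type*} [CommRing R] (I : Ideal R) (a : R)
    (hreg : ∀ x, a * x ∈ I → x ∈ I) (n : ℕ) :
    Module.length R (R ⧸ (I ⊔ Ideal.span {a ^ n})) =
      (n : ℕ∞) * Module.length R (R ⧸ (I ⊔ Ideal.span {a})) := by
  have hregn : ∀ (n : ℕ) (x : R), a ^ n * x ∈ I → x ∈ I := by
    intro n
    induction n with
    | zero => intro x hx; simpa using hx
    | succ n ih =>
      intro x hx
      apply ih
      apply hreg
      have : a * (a ^ n * x) = a ^ (n+1) * x := by ring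
      rw [this]; exact hx
  induction n with
  | zero =>
    have htop : (I ⊔ Ideal.span {a ^ 0}) = ⊤ := by
      rw [pow_zero, Ideal.span_singleton_one, sup_top_eq]
    have hs : Subsingleton (R ⧸ (I ⊔ Ideal.span {a ^ 0})) :=
      Ideal.Quotient.subsingleton_iff.mpr htop
    rw [Module.length_eq_zero_iff.mpr hs, Nat.cast_zero, zero_mul]
  | succ n ih =>
    have h1 : ∀ x ∈ I ⊔ Ideal.span {a}, a ^ n * x ∈ I ⊔ Ideal.span {a ^ (n+1)} := by
      intro x hx
      obtain ⟨i, hi, y, rfl⟩ := (mem_sup_span I a x).mp hx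
      exact (mem_sup_span I (a^(n+1)) _).mpr ⟨a ^ n * i, I.mul_mem_left _ hi, y, by ring⟩
    have h2 : ∀ x, a ^ n * x ∈ I ⊔ Ideal.span {a ^ (n+1)} → x ∈ I ⊔ Ideal.span {a} := by
      intro x hx
      obtain ⟨i, hi, y, hy⟩ := (mem_sup_span I (a^(n+1)) _).mp hx
      have h3 : a ^ n * (x - y * a) ∈ I := by
        have : a ^ n * (x - y * a) = i := by
          rw [mul_sub, hy]; ring
        rw [this]; exact hi
      exact (mem_sup_span I a x).mpr ⟨x - y * a, hregn n _ h3, y, by ring⟩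
    have h3 : I ⊔ Ideal.span {a ^ (n+1)} ≤ I ⊔ Ideal.span {a ^ n} := by
      refine sup_le le_sup_left (Ideal.span_le.mpr (Set.singleton_subset_iff.mpr ?_))
      exact (mem_sup_span I (a^n) _).mpr ⟨0, I.zero_mem, a, by ring⟩
    have h4 : ∀ x ∈ I ⊔ Ideal.span {a ^ n}, ∃ z, x - a ^ n * z ∈ I ⊔ Ideal.span {a ^ (n+1)} := by
      intro x hx
      obtain ⟨i, hi, z, rfl⟩ := (mem_sup_span I (a^n) x).mp hx
      refine ⟨z, ?_⟩
      have : i + z * a ^ n - a ^ n * z = i := by ring
      rw [this]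
      exact Ideal.mem_sup_left hi
    have h5 : ∀ z, a ^ n * z ∈ I ⊔ Ideal.span {a ^ n} := by
      intro z
      exact (mem_sup_span I (a^n) _).mpr ⟨0, I.zero_mem, z, by ring⟩
    rw [length_step _ _ _ _ h1 h2 h3 h4 h5, ih, Nat.cast_succ, add_mul, one_mul, add_comm]

/-! ### Fin 2 helpers -/

theorem fin2_cases {i j : Fin 2} (h : i ≠ j) (k : Fin 2) : k = i ∨ k = j := by
  have h1 := k.isLt
  have h2 := i.isLt
  have h3 := j.isLt
  rw [Ne, Fin.ext_iff] at h
  rw [Fin.ext_iff, Fin.ext_iff]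
  omega

theorem zero_ne_one' : (0 : Fin 2) ≠ 1 := by decide
theorem one_ne_zero' : (1 : Fin 2) ≠ 0 := by decide

theorem eq_single_of_apply_eq_zero {i j : Fin 2} (h : i ≠ j) (m : Fin 2 →₀ ℕ) (hm : m i = 0) :
    m = Finsupp.single j (m j) := by
  ext k
  rcases fin2_cases h k with rfl | rfl
  · simp [Finsupp.single_apply, hm, h, h.symm]
  · simp

/-! ### the axis homomorphisms -/

variable {B : Type u} [CommRing B]

/-- Restriction to the `j`-axis: set the other variable to zero. -/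
noncomputable def axis (j : Fin 2) : MvPowerSeries (Fin 2) B →+* PowerSeries B where
  toFun F := PowerSeries.mk fun n => coeff (Finsupp.single j n) F
  map_zero' := by ext n; simp
  map_one' := by
    classical
    ext n
    rw [PowerSeries.coeff_mk, PowerSeries.coeff_one, MvPowerSeries.coeff_one]
    simp [Finsupp.single_eq_zero]
  map_add' F G := by ext n; simp
  map_mul' F G := by
    classical
    ext n
    rw [PowerSeries.coeff_mk, PowerSeries.coeff_mul, MvPowerSeries.coeff_mul,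
      Finsupp.antidiagonal_single, Finset.sum_map]
    apply Finset.sum_congr rfl
    intro p _
    simp [PowerSeries.coeff_mk]

theorem axis_apply (j : Fin 2) (F : MvPowerSeries (Fin 2) B) (n : ℕ) :
    PowerSeries.coeff n (axis j F) = coeff (Finsupp.single j n) F := by
  change PowerSeries.coeff n (PowerSeries.mk fun n => coeff (Finsupp.single j n) F) = _
  exact PowerSeries.coeff_mk n _

theorem axis_C (j : Fin 2) (b : B) : axis j (C b) = PowerSeries.C b := by
  classical
  ext n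
  rw [axis_apply, MvPowerSeries.coeff_C, PowerSeries.coeff_C]
  simp [Finsupp.single_eq_zero]

theorem axis_X_same (j : Fin 2) : axis j (X j : MvPowerSeries (Fin 2) B) = PowerSeries.X := by
  classical
  ext n
  rw [axis_apply, MvPowerSeries.coeff_X, PowerSeries.coeff_X]
  simp only [(Finsupp.single_injective j).eq_iff]

theorem axis_X_ne {i j : Fin 2} (h : i ≠ j) : axis j (X i : MvPowerSeries (Fin 2) B) = 0 := by
  classical
  ext n
  rw [axis_apply, MvPowerSeries.coeff_X, map_zero, if_neg]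
  intro h1
  have := DFunLike.congr_fun h1 i
  simp [Finsupp.single_apply, h, h.symm] at this

/-! ### maps to the branches -/

variable [IsLocalRing B]

/-- `B[[x,y]] → k[[x_j]]`. -/
noncomputable def Q (j : Fin 2) :
    MvPowerSeries (Fin 2) B →+* PowerSeries (IsLocalRing.ResidueField B) :=
  (PowerSeries.map (IsLocalRing.residue B)).comp (axis j)

theorem Q_apply (j : Fin 2) (F : MvPowerSeries (Fin 2) B) :
    Q j F = PowerSeries.map (IsLocalRing.residue B) (axis j F) := rfl

variable {a : B} (ha : a ∈ IsLocalRing.maximalIdeal B)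

include ha in
theorem Q_rel (j : Fin 2) : Q j (X 0 * X 1 - C a : MvPowerSeries (Fin 2) B) = 0 := by
  have h01 : axis j (X 0 * X 1 : MvPowerSeries (Fin 2) B) = 0 := by
    rw [map_mul]
    rcases fin2_cases zero_ne_one' j with rfl | rfl
    · rw [axis_X_ne one_ne_zero', mul_zero]
    · rw [axis_X_ne zero_ne_one', zero_mul]
  rw [Q_apply, map_sub, h01, axis_C, map_sub, map_zero, PowerSeries.map_C,
    (IsLocalRing.residue_eq_zero_iff a).mpr ha, map_zero, sub_zero]

/-- The map `N → k[[x_j]]` killing the other branch variable. -/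
noncomputable def q (j : Fin 2) :
    ArLef.NodeAlg B a →+* PowerSeries (IsLocalRing.ResidueField B) :=
  Ideal.Quotient.lift _ (Q j) (by
    intro x hx
    obtain ⟨y, rfl⟩ := Ideal.mem_span_singleton'.mp hx
    rw [map_mul, Q_rel ha j, mul_zero])

variable (a) in
/-- The classes of the variables. -/
noncomputable abbrev gen (i : Fin 2) : ArLef.NodeAlg B a := Ideal.Quotient.mk _ (X i)

theorem q_mk (j : Fin 2) (F : MvPowerSeries (Fin 2) B) :
    q ha j (Ideal.Quotient.mk _ F) = Q j F := rfl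

theorem q_gen_same (j : Fin 2) : q ha j (gen a j) = PowerSeries.X := by
  rw [q_mk, Q_apply, axis_X_same, PowerSeries.map_X]

theorem q_gen_ne {i j : Fin 2} (h : i ≠ j) : q ha j (gen a i) = 0 := by
  rw [q_mk, Q_apply, axis_X_ne h, map_zero]

variable (a) in
theorem algebraMap_eq (b : B) :
    algebraMap B (ArLef.NodeAlg B a) b = Ideal.Quotient.mk _ (C b) := rfl

theorem q_algebraMap (j : Fin 2) (b : B) :
    q ha j (algebraMap B (ArLef.NodeAlg B a) b) = PowerSeries.C (IsLocalRing.residue B b) := by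
  rw [algebraMap_eq, q_mk, Q_apply, axis_C, PowerSeries.map_C]

variable (a) in
theorem gen_mul : gen a 0 * gen a 1 = algebraMap B (ArLef.NodeAlg B a) a := by
  rw [algebraMap_eq, ← map_mul, Ideal.Quotient.eq]
  exact Ideal.subset_span rfl

theorem q_surjective (j : Fin 2) : Function.Surjective (q ha j) := by
  intro v
  let c : ℕ → B := fun n => (IsLocalRing.residue_surjective (PowerSeries.coeff n v)).choose
  have hc : ∀ n, IsLocalRing.residue B (c n) = PowerSeries.coeff n v := fun n =>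
    (IsLocalRing.residue_surjective (PowerSeries.coeff n v)).choose_spec
  obtain ⟨F, hF⟩ : ∃ F : MvPowerSeries (Fin 2) B, ∀ m, coeff m F = c (m j) :=
    ⟨fun m => c (m j), fun m => rfl⟩
  refine ⟨Ideal.Quotient.mk _ F, ?_⟩
  ext n
  rw [q_mk, Q_apply, PowerSeries.coeff_map, axis_apply, hF, Finsupp.single_eq_same, hc]

theorem ker_q {i j : Fin 2} (h : i ≠ j) (hm : IsLocalRing.maximalIdeal B = Ideal.span {a}) :
    RingHom.ker (q ha j) = Ideal.span {gen a i} := by
  classical
  apply le_antisymm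
  · intro r hr
    obtain ⟨F, rfl⟩ := Ideal.Quotient.mk_surjective r
    rw [RingHom.mem_ker, q_mk] at hr
    have hc : ∀ n, ∃ c, coeff (Finsupp.single j n) F = a * c := by
      intro n
      have h1 := congrArg (PowerSeries.coeff n) hr
      rw [Q_apply, PowerSeries.coeff_map, axis_apply, map_zero,
        IsLocalRing.residue_eq_zero_iff, hm, Ideal.mem_span_singleton] at h1
      exact h1
    choose c hc using hc
    let H' : MvPowerSeries (Fin 2) B := fun m => if m i = 0 then coeff m F else 0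
    let H'' : MvPowerSeries (Fin 2) B := fun m => if m i = 0 then c (m j) else 0
    have hH : H' = C a * H'' := by
      ext m
      rw [MvPowerSeries.coeff_C_mul]
      change (if m i = 0 then coeff m F else 0) = a * (if m i = 0 then c (m j) else 0)
      split_ifs with h0
      · conv_lhs => rw [eq_single_of_apply_eq_zero h m h0]
        exact hc (m j)
      · rw [mul_zero]
    have hdvd : (X i : MvPowerSeries (Fin 2) B) ∣ F - H' := by
      rw [MvPowerSeries.X_dvd_iff]
      intro m h0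
      rw [map_sub]
      change coeff m F - (if m i = 0 then coeff m F else 0) = 0
      rw [if_pos h0, sub_self]
    obtain ⟨G, hG⟩ := hdvd
    have hF : F = X i * G + C a * H'' := by rw [← hH, ← hG]; ring
    rw [hF, map_add, map_mul, map_mul]
    have hCa : (Ideal.Quotient.mk _ (C a) : ArLef.NodeAlg B a) = gen a 0 * gen a 1 := by
      rw [gen_mul, algebraMap_eq]
    rw [hCa]
    refine Ideal.add_mem _ (Ideal.mul_mem_right _ _ (Ideal.mem_span_singleton_self _)) ?_
    rcases fin2_cases zero_ne_one' i with rfl | rfl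
    · rw [mul_assoc]; exact Ideal.mul_mem_right _ _ (Ideal.mem_span_singleton_self _)
    · rw [mul_comm (gen a 0), mul_assoc]
      exact Ideal.mul_mem_right _ _ (Ideal.mem_span_singleton_self _)
  · rw [Ideal.span_le, Set.singleton_subset_iff]
    exact (RingHom.mem_ker).mpr (q_gen_ne ha h)

theorem dvd_iff {i j : Fin 2} (h : i ≠ j) (hm : IsLocalRing.maximalIdeal B = Ideal.span {a})
    (r : ArLef.NodeAlg B a) : gen a i ∣ r ↔ q ha j r = 0 := by
  rw [← Ideal.mem_span_singleton, ← ker_q ha h hm, RingHom.mem_ker]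

include ha in
theorem gen_ne_zero (i : Fin 2) : gen a i ≠ 0 := by
  intro h0
  have := q_gen_same ha i
  rw [h0, map_zero] at this
  exact PowerSeries.X_ne_zero this.symm

include ha in
theorem gen_prime {i j : Fin 2} (h : i ≠ j)
    (hm : IsLocalRing.maximalIdeal B = Ideal.span {a}) : Prime (gen a i) := by
  rw [← Ideal.span_singleton_prime (gen_ne_zero ha i), ← ker_q ha h hm]
  exact RingHom.ker_isPrime _

include ha in
theorem gen_not_dvd {i j : Fin 2} (h : i ≠ j)
    (hm : IsLocalRing.maximalIdeal B = Ideal.span {a}) : ¬ gen a i ∣ gen a j := by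
  rw [dvd_iff ha h hm, q_gen_same]
  exact PowerSeries.X_ne_zero

include ha in
theorem gen_not_dvd_unit {i j : Fin 2} (h : i ≠ j)
    (hm : IsLocalRing.maximalIdeal B = Ideal.span {a}) {u : ArLef.NodeAlg B a} (hu : IsUnit u) :
    ¬ gen a i ∣ u := fun hd =>
  (gen_prime ha h hm).not_unit (isUnit_of_dvd_unit hd hu)

include ha in
theorem gen_regular [IsDomain B] (ha0 : a ≠ 0) (i : Fin 2) (r : ArLef.NodeAlg B a)
    (hr : gen a i * r = 0) : r = 0 := by
  classical
  obtain ⟨R, rfl⟩ := Ideal.Quotient.mk_surjective r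
  rw [← map_mul, Ideal.Quotient.eq_zero_iff_mem] at hr
  obtain ⟨S, hS⟩ := Ideal.mem_span_singleton'.mp hr
  have hdvd : (X i : MvPowerSeries (Fin 2) B) ∣ S := by
    rw [MvPowerSeries.X_dvd_iff]
    intro m h0
    have h1 : coeff m (X i * R) = 0 := (MvPowerSeries.X_dvd_iff.mp ⟨R, rfl⟩) m h0
    have h2 : coeff m (S * (X 0 * X 1)) = 0 := by
      refine (MvPowerSeries.X_dvd_iff.mp ?_) m h0
      rcases fin2_cases zero_ne_one' i with rfl | rfl
      · exact ⟨S * X 1, by ring⟩
      · exact ⟨S * X 0, by ring⟩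
    have h3 : coeff m (S * (X 0 * X 1 - C a)) = - (a * coeff m S) := by
      rw [mul_sub, map_sub, h2, zero_sub, mul_comm S, MvPowerSeries.coeff_C_mul]
    rw [hS, h1] at h3
    have h4 : a * coeff m S = 0 := neg_eq_zero.mp h3.symm
    exact (mul_eq_zero.mp h4).resolve_left ha0
  obtain ⟨S', rfl⟩ := hdvd
  have hX : (X i : MvPowerSeries (Fin 2) B) ≠ 0 := by
    intro h0
    have := congrArg (coeff (Finsupp.single i 1)) h0
    rw [coeff_index_single_self_X, map_zero] at this
    exact one_ne_zero this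
  have : R = S' * (X 0 * X 1 - C a) := by
    apply mul_left_cancel₀ hX
    rw [← hS]; ring
  rw [this, Ideal.Quotient.eq_zero_iff_mem]
  exact Ideal.mul_mem_left _ _ (Ideal.subset_span rfl)

include ha in
theorem gen_cancel [IsDomain B] (ha0 : a ≠ 0) (i : Fin 2) {x y : ArLef.NodeAlg B a}
    (h : gen a i * x = gen a i * y) : x = y := by
  rw [← sub_eq_zero]
  apply gen_regular ha ha0 i
  rw [mul_sub, h, sub_self]

include ha in
theorem span_gens_isMaximal (hm : IsLocalRing.maximalIdeal B = Ideal.span {a}) :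
    (Ideal.span {gen a 0, gen a 1}).IsMaximal := by
  let φ : ArLef.NodeAlg B a →+* IsLocalRing.ResidueField B :=
    (PowerSeries.constantCoeff).comp (q ha 1)
  have hφ : Function.Surjective φ := by
    intro c
    obtain ⟨r, hr⟩ := q_surjective ha 1 (PowerSeries.C c)
    refine ⟨r, ?_⟩
    change PowerSeries.constantCoeff (q ha 1 r) = c
    rw [hr, PowerSeries.constantCoeff_C]
  have hker : RingHom.ker φ = Ideal.span {gen a 0, gen a 1} := by
    apply le_antisymm
    · intro r hr
      rw [RingHom.mem_ker] at hr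
      have h1 : (PowerSeries.X : PowerSeries (IsLocalRing.ResidueField B)) ∣ q ha 1 r :=
        PowerSeries.X_dvd_iff.mpr hr
      obtain ⟨s, hs⟩ := h1
      obtain ⟨s', rfl⟩ := q_surjective ha 1 s
      have h2 : gen a 0 ∣ r - gen a 1 * s' := by
        rw [dvd_iff ha zero_ne_one' hm, map_sub, map_mul, q_gen_same, hs, sub_self]
      obtain ⟨w, hw⟩ := h2
      rw [Ideal.mem_span_pair]
      exact ⟨w, s', by rw [mul_comm w, ← hw]; ring⟩
    · rw [Ideal.span_le]
      rintro x (rfl | rfl)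
      · change PowerSeries.constantCoeff (q ha 1 (gen a 0)) = 0
        rw [q_gen_ne ha zero_ne_one', map_zero]
      · change PowerSeries.constantCoeff (q ha 1 (gen a 1)) = 0
        rw [q_gen_same, PowerSeries.constantCoeff_X]
  rw [← hker]
  exact RingHom.ker_isMaximal_of_surjective φ hφ

include ha in
theorem length_quot_gens (hm : IsLocalRing.maximalIdeal B = Ideal.span {a}) :
    Module.length (ArLef.NodeAlg B a) (ArLef.NodeAlg B a ⧸ Ideal.span {gen a 0, gen a 1}) = 1 := by
  have hmax := span_gens_isMaximal ha hm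
  rw [Module.length_eq_one_iff]
  exact isSimpleModule_iff_quot_maximal.mpr ⟨_, hmax, ⟨LinearEquiv.refl _ _⟩⟩

include ha in
theorem nontrivial : Nontrivial (ArLef.NodeAlg B a) := (q ha 0).domain_nontrivial

include ha in
theorem isLocalRing : IsLocalRing (ArLef.NodeAlg B a) := by
  haveI := nontrivial ha
  exact IsLocalRing.of_surjective' (Ideal.Quotient.mk _) Ideal.Quotient.mk_surjective

include ha in
theorem gen_not_isUnit (i : Fin 2) : ¬ IsUnit (gen a i) := by
  intro hu
  obtain ⟨j, hj⟩ : ∃ j : Fin 2, i ≠ j := by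
    rcases fin2_cases zero_ne_one' i with rfl | rfl
    · exact ⟨1, zero_ne_one'⟩
    · exact ⟨0, one_ne_zero'⟩
  have := hu.map (q ha j)
  rw [q_gen_ne ha hj] at this
  exact not_isUnit_zero this

/-! ### generators of the fixed ideal -/

theorem exists_decomp (N : ℕ) (F : MvPowerSeries (Fin 2) B) :
    ∃ (P : MvPolynomial (Fin 2) B) (G H : MvPowerSeries (Fin 2) B),
      F = (P : MvPowerSeries (Fin 2) B) + X 0 ^ (N+1) * G + X 1 ^ (N+1) * H := by
  classical
  let nn : Fin 2 →₀ ℕ := Finsupp.equivFunOnFinite.symm (fun _ => N)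
  have hnn : ∀ m : Fin 2 →₀ ℕ, m ≤ nn ↔ m 0 ≤ N ∧ m 1 ≤ N := by
    intro m
    rw [Finsupp.le_def, Fin.forall_fin_two]
    first | exact Iff.rfl | simp [nn]
  let P := trunc' B nn F
  let D : MvPowerSeries (Fin 2) B := F - (P : MvPowerSeries (Fin 2) B)
  have hD : ∀ m, coeff m D = if m ≤ nn then 0 else coeff m F := by
    intro m
    change coeff m (F - (P : MvPowerSeries (Fin 2) B)) = _
    rw [map_sub, MvPolynomial.coeff_coe, coeff_trunc']
    split_ifs <;> simp
  let G₁ : MvPowerSeries (Fin 2) B := fun m => if N < m 0 then coeff m D else 0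
  have hG1 : (X 0 : MvPowerSeries (Fin 2) B) ^ (N+1) ∣ G₁ := by
    rw [MvPowerSeries.X_pow_dvd_iff]
    intro m hm
    change (if N < m 0 then coeff m D else 0) = 0
    rw [if_neg (by omega)]
  have hG2 : (X 1 : MvPowerSeries (Fin 2) B) ^ (N+1) ∣ D - G₁ := by
    rw [MvPowerSeries.X_pow_dvd_iff]
    intro m hm
    rw [map_sub]
    change coeff m D - (if N < m 0 then coeff m D else 0) = 0
    split_ifs with h0
    · rw [sub_self]
    · rw [sub_zero, hD, if_pos ((hnn m).mpr ⟨by omega, by omega⟩)]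
  obtain ⟨G, hG⟩ := hG1
  obtain ⟨H, hH⟩ := hG2
  refine ⟨P, G, H, ?_⟩
  rw [← hG, ← hH]
  change F = (P : MvPowerSeries (Fin 2) B) + G₁ + (F - (P : MvPowerSeries (Fin 2) B) - G₁)
  ring

include ha in
theorem fixIdeal_le [IsNoetherianRing B]
    (σ : ArLef.NodeAlg B a ≃+* ArLef.NodeAlg B a) (J : Ideal (ArLef.NodeAlg B a))
    (hB : ∀ b : B, σ (algebraMap B (ArLef.NodeAlg B a) b) - algebraMap B (ArLef.NodeAlg B a) b ∈ J)
    (h0 : σ (gen a 0) - gen a 0 ∈ J) (h1 : σ (gen a 1) - gen a 1 ∈ J) :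
    ArLef.fixIdeal σ ≤ J := by
  haveI := isLocalRing ha
  have hadd : ∀ r s, σ r - r ∈ J → σ s - s ∈ J → σ (r + s) - (r + s) ∈ J := by
    intro r s hr hs
    have : σ (r + s) - (r + s) = (σ r - r) + (σ s - s) := by rw [map_add]; ring
    rw [this]; exact J.add_mem hr hs
  have hmul : ∀ r s, σ r - r ∈ J → σ s - s ∈ J → σ (r * s) - r * s ∈ J := by
    intro r s hr hs
    have : σ (r * s) - r * s = σ r * (σ s - s) + (σ r - r) * s := by rw [map_mul]; ring
    rw [this]; exact J.add_mem (J.mul_mem_left _ hs) (J.mul_mem_right _ hr)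
  have hgen : ∀ i : Fin 2, σ (gen a i) - gen a i ∈ J := by
    intro i
    rcases fin2_cases zero_ne_one' i with rfl | rfl
    · exact h0
    · exact h1
  have hpoly : ∀ P : MvPolynomial (Fin 2) B,
      σ (Ideal.Quotient.mk _ (P : MvPowerSeries (Fin 2) B)) -
        Ideal.Quotient.mk _ (P : MvPowerSeries (Fin 2) B) ∈ J := by
    intro P
    induction P using MvPolynomial.induction_on with
    | C b => rw [MvPolynomial.coe_C]; exact hB b
    | add p q hp hq => rw [MvPolynomial.coe_add, map_add]; exact hadd _ _ hp hq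
    | mul_X p i hp =>
      rw [MvPolynomial.coe_mul, MvPolynomial.coe_X, map_mul]
      exact hmul _ _ hp (hgen i)
  have hgm : ∀ i : Fin 2, gen a i ∈ IsLocalRing.maximalIdeal (ArLef.NodeAlg B a) := by
    intro i
    rw [IsLocalRing.mem_maximalIdeal, mem_nonunits_iff]
    exact gen_not_isUnit ha i
  have hσm : ∀ i : Fin 2, σ (gen a i) ∈ IsLocalRing.maximalIdeal (ArLef.NodeAlg B a) := by
    intro i
    rw [IsLocalRing.mem_maximalIdeal, mem_nonunits_iff]
    intro hu
    have h2 : IsUnit (σ.symm (σ (gen a i))) := hu.map σ.symm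
    rw [RingEquiv.symm_apply_apply] at h2
    exact gen_not_isUnit ha i h2
  unfold ArLef.fixIdeal
  rw [Ideal.span_le]
  rintro _ ⟨r, rfl⟩
  change σ r - r ∈ J
  obtain ⟨F, rfl⟩ := Ideal.Quotient.mk_surjective r
  have key : ∀ n : ℕ, σ (Ideal.Quotient.mk _ F) - Ideal.Quotient.mk _ F ∈
      J ⊔ (IsLocalRing.maximalIdeal (ArLef.NodeAlg B a)) ^ n := by
    intro n
    obtain ⟨P, G, H, hF⟩ := exists_decomp n F
    have e1 : σ (Ideal.Quotient.mk _ F) - Ideal.Quotient.mk _ F =
        (σ (Ideal.Quotient.mk _ (P : MvPowerSeries (Fin 2) B)) -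
          Ideal.Quotient.mk _ (P : MvPowerSeries (Fin 2) B)) +
        (σ (gen a 0) ^ (n+1) * σ (Ideal.Quotient.mk _ G) - gen a 0 ^ (n+1) * Ideal.Quotient.mk _ G) +
        (σ (gen a 1) ^ (n+1) * σ (Ideal.Quotient.mk _ H) -
          gen a 1 ^ (n+1) * Ideal.Quotient.mk _ H) := by
      conv_lhs => rw [hF]
      simp only [map_add, map_mul, map_pow]
      ring
    rw [e1]
    have hpow : ∀ x ∈ IsLocalRing.maximalIdeal (ArLef.NodeAlg B a), ∀ y,
        x ^ (n+1) * y ∈ (IsLocalRing.maximalIdeal (ArLef.NodeAlg B a)) ^ n := fun x hx y =>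
      Ideal.mul_mem_right _ _
        (Ideal.pow_le_pow_right (Nat.le_succ n) (Ideal.pow_mem_pow hx (n+1)))
    refine Ideal.add_mem _ (Ideal.add_mem _ (Ideal.mem_sup_left (hpoly P))
      (Ideal.mem_sup_right ?_)) (Ideal.mem_sup_right ?_)
    · exact Ideal.sub_mem _ (hpow _ (hσm 0) _) (hpow _ (hgm 0) _)
    · exact Ideal.sub_mem _ (hpow _ (hσm 1) _) (hpow _ (hgm 1) _)
  have hx : (Submodule.Quotient.mk (σ (Ideal.Quotient.mk _ F) - Ideal.Quotient.mk _ F) :
      ArLef.NodeAlg B a ⧸ J) = 0 := by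
    apply IsHausdorff.haus (inferInstance : IsHausdorff
      (IsLocalRing.maximalIdeal (ArLef.NodeAlg B a)) (ArLef.NodeAlg B a ⧸ J))
    intro n
    rw [SModEq.zero]
    obtain ⟨y, hy, z, hz, hyz⟩ := Submodule.mem_sup.mp (key n)
    have h3 : (Submodule.Quotient.mk (σ (Ideal.Quotient.mk _ F) - Ideal.Quotient.mk _ F) :
        ArLef.NodeAlg B a ⧸ J) = z • (Submodule.Quotient.mk 1 : ArLef.NodeAlg B a ⧸ J) := by
      rw [← hyz, Submodule.Quotient.mk_add, (Submodule.Quotient.mk_eq_zero J).mpr hy, zero_add,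
        ← Submodule.Quotient.mk_smul, smul_eq_mul, mul_one]
    rw [h3]
    exact Submodule.smul_mem_smul hz Submodule.mem_top
  exact (Submodule.Quotient.mk_eq_zero J).mp hx

include ha in
theorem fixIdeal_algEquiv [IsNoetherianRing B]
    (σ : ArLef.NodeAlg B a ≃ₐ[B] ArLef.NodeAlg B a) :
    ArLef.fixIdeal σ = Ideal.span {σ (gen a 0) - gen a 0, σ (gen a 1) - gen a 1} := by
  have hsub : ∀ r, σ r - r ∈ ArLef.fixIdeal σ := fun r =>
    show σ r - r ∈ Ideal.span _ from Ideal.subset_span ⟨r, rfl⟩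
  apply le_antisymm
  · have := fixIdeal_le ha (σ : ArLef.NodeAlg B a ≃+* ArLef.NodeAlg B a)
      (Ideal.span {σ (gen a 0) - gen a 0, σ (gen a 1) - gen a 1}) ?_ ?_ ?_
    · exact this
    · intro b
      have h1 : σ (algebraMap B (ArLef.NodeAlg B a) b) = algebraMap B (ArLef.NodeAlg B a) b :=
        σ.commutes b
      change σ (algebraMap B (ArLef.NodeAlg B a) b) - algebraMap B (ArLef.NodeAlg B a) b ∈ _
      rw [h1, sub_self]; exact Ideal.zero_mem _
    · change σ (gen a 0) - gen a 0 ∈ _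
      exact Ideal.subset_span (by simp)
    · change σ (gen a 1) - gen a 1 ∈ _
      exact Ideal.subset_span (by simp)
  · refine Ideal.span_le.mpr ?_
    rintro w (rfl | rfl)
    · exact hsub _
    · exact hsub _

theorem dvd_of_dvd_pow_mul {R : Type*} [CommRing R] (p g : R) (hp : Prime p)
    (hc : ∀ x y, p * x = p * y → x = y) (hg : ¬ p ∣ g) (n : ℕ) (m : R)
    (h : g ∣ p ^ n * m) : g ∣ m := by
  induction n with
  | zero => simpa using h
  | succ n ih =>
    apply ih
    obtain ⟨c, hc'⟩ := h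
    have h1 : p ∣ g * c := ⟨p ^ n * m, by rw [← hc']; ring⟩
    obtain ⟨c', rfl⟩ := (hp.dvd_or_dvd h1).resolve_left hg
    refine ⟨c', hc _ _ ?_⟩
    rw [← mul_assoc, ← pow_succ', hc']; ring

/-! ### automorphisms stabilizing the branches -/

section Stab

variable {B : Type u} [CommRing B] [IsDomain B] [IsDiscreteValuationRing B] {π : B}

theorem stab_rel (hπ : Irreducible π) (j' : ℕ) (γ : B)
    (σ : ArLef.NodeAlg B π ≃+* ArLef.NodeAlg B π)
    (hσπ : σ (algebraMap B (ArLef.NodeAlg B π) π) =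
      algebraMap B (ArLef.NodeAlg B π) (π + γ * π ^ (j' + 1)))
    (α β : (ArLef.NodeAlg B π)ˣ)
    (ht : σ (gen π 0) = (α : ArLef.NodeAlg B π) * gen π 0)
    (he : σ (gen π 1) = (β : ArLef.NodeAlg B π) * gen π 1) :
    (α : ArLef.NodeAlg B π) * (β : ArLef.NodeAlg B π) =
      1 + algebraMap B (ArLef.NodeAlg B π) γ * (gen π 0 * gen π 1) ^ j' := by
  have ha : π ∈ IsLocalRing.maximalIdeal B := by
    rw [IsLocalRing.mem_maximalIdeal, mem_nonunits_iff]; exact hπ.1
  have hπ0 : π ≠ 0 := hπ.ne_zero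
  have hregT : ∀ x, gen π 0 * x = 0 → x = 0 := gen_regular ha hπ0 0
  have hregE : ∀ x, gen π 1 * x = 0 → x = 0 := gen_regular ha hπ0 1
  have hPTE : gen π 0 * gen π 1 = algebraMap B (ArLef.NodeAlg B π) π := gen_mul π
  have h1 : σ (gen π 0 * gen π 1) = gen π 0 * gen π 1 +
      algebraMap B (ArLef.NodeAlg B π) γ * (gen π 0 * gen π 1) ^ (j' + 1) := by
    rw [hPTE, hσπ, map_add, map_mul, map_pow]
  rw [map_mul, ht, he] at h1
  have h2 : gen π 0 * (gen π 1 * ((α : ArLef.NodeAlg B π) * β - 1 -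
      algebraMap B (ArLef.NodeAlg B π) γ * (gen π 0 * gen π 1) ^ j')) = 0 := by
    have : gen π 0 * (gen π 1 * ((α : ArLef.NodeAlg B π) * β - 1 -
        algebraMap B (ArLef.NodeAlg B π) γ * (gen π 0 * gen π 1) ^ j')) =
        (α : ArLef.NodeAlg B π) * gen π 0 * (β * gen π 1) - (gen π 0 * gen π 1 +
          algebraMap B (ArLef.NodeAlg B π) γ * (gen π 0 * gen π 1) ^ (j' + 1)) := by ring
    rw [this, h1, sub_self]
  have h3 := hregE _ (hregT _ h2)
  linear_combination h3

theorem stab_fixIdeal (hπ : Irreducible π) (j' : ℕ) (γ : B) (hγ : IsUnit γ)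
    (σ : ArLef.NodeAlg B π ≃+* ArLef.NodeAlg B π)
    (hσB : ∀ b : B, σ (algebraMap B (ArLef.NodeAlg B π) b) - algebraMap B (ArLef.NodeAlg B π) b ∈
      Ideal.span ({algebraMap B (ArLef.NodeAlg B π) (π ^ (j' + 1))} : Set (ArLef.NodeAlg B π)))
    (hσπ : σ (algebraMap B (ArLef.NodeAlg B π) π) =
      algebraMap B (ArLef.NodeAlg B π) (π + γ * π ^ (j' + 1)))
    (α β : (ArLef.NodeAlg B π)ˣ)
    (ht : σ (gen π 0) = (α : ArLef.NodeAlg B π) * gen π 0)
    (he : σ (gen π 1) = (β : ArLef.NodeAlg B π) * gen π 1) :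
    ArLef.fixIdeal σ = Ideal.span {((α : ArLef.NodeAlg B π) - 1) * gen π 0,
      ((β : ArLef.NodeAlg B π) - 1) * gen π 1} ⊔ Ideal.span {(gen π 0 * gen π 1) ^ (j' + 1)} := by
  have ha : π ∈ IsLocalRing.maximalIdeal B := by
    rw [IsLocalRing.mem_maximalIdeal, mem_nonunits_iff]; exact hπ.1
  have hPTE : gen π 0 * gen π 1 = algebraMap B (ArLef.NodeAlg B π) π := gen_mul π
  have h1 : σ (gen π 0 * gen π 1) = gen π 0 * gen π 1 +
      algebraMap B (ArLef.NodeAlg B π) γ * (gen π 0 * gen π 1) ^ (j' + 1) := by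
    rw [hPTE, hσπ, map_add, map_mul, map_pow]
  have hsub : ∀ r, σ r - r ∈ ArLef.fixIdeal σ := fun r =>
    show σ r - r ∈ Ideal.span _ from Ideal.subset_span ⟨r, rfl⟩
  have e0 : σ (gen π 0) - gen π 0 = ((α : ArLef.NodeAlg B π) - 1) * gen π 0 := by
    rw [ht]; ring
  have e1 : σ (gen π 1) - gen π 1 = ((β : ArLef.NodeAlg B π) - 1) * gen π 1 := by
    rw [he]; ring
  apply le_antisymm
  · refine fixIdeal_le ha σ _ ?_ ?_ ?_
    · intro b
      have h2 := hσB b
      rw [map_pow, ← hPTE, Ideal.mem_span_singleton'] at h2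
      obtain ⟨c, hc⟩ := h2
      rw [← hc]
      exact Ideal.mem_sup_right (Ideal.mul_mem_left _ _ (Ideal.mem_span_singleton_self _))
    · rw [e0]; exact Ideal.mem_sup_left (Ideal.subset_span (by simp))
    · rw [e1]; exact Ideal.mem_sup_left (Ideal.subset_span (by simp))
  · refine sup_le (Ideal.span_le.mpr ?_) (Ideal.span_le.mpr (Set.singleton_subset_iff.mpr ?_))
    · rintro w (hw | hw)
      · rw [hw, ← e0]; exact hsub _
      · rw [Set.mem_singleton_iff] at hw
        rw [hw, ← e1]; exact hsub _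
    · obtain ⟨γ', hγ'⟩ := hγ.map (algebraMap B (ArLef.NodeAlg B π))
      have h2 : (gen π 0 * gen π 1) ^ (j' + 1) = ((γ'⁻¹ : (ArLef.NodeAlg B π)ˣ) :
          ArLef.NodeAlg B π) * (σ (gen π 0 * gen π 1) - gen π 0 * gen π 1) := by
        rw [h1, add_sub_cancel_left, ← hγ', ← mul_assoc, Units.inv_mul, one_mul]
      rw [SetLike.mem_coe, h2]
      exact Ideal.mul_mem_left _ _ (hsub _)

end Stab

/-! ### more general lemmas -/

theorem lemA {R : Type*} [CommRing R] (p e' b : R) (hp : Prime p) (hpe : ¬ p ∣ e') :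
    Module.length R (R ⧸ Ideal.span {p, b * e'}) =
      Module.length R (R ⧸ Ideal.span {p, b}) + Module.length R (R ⧸ Ideal.span {p, e'}) := by
  apply length_step _ _ _ e'
  · intro x hx
    obtain ⟨c, d, rfl⟩ := Ideal.mem_span_pair.mp hx
    exact Ideal.mem_span_pair.mpr ⟨e' * c, d, by ring⟩
  · intro x hx
    obtain ⟨c, d, hcd⟩ := Ideal.mem_span_pair.mp hx
    have h1 : p ∣ e' * (x - d * b) := ⟨c, by rw [mul_sub, ← hcd]; ring⟩
    obtain ⟨w, hw⟩ := (hp.dvd_or_dvd h1).resolve_left hpe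
    exact Ideal.mem_span_pair.mpr ⟨w, d, by rw [sub_eq_iff_eq_add] at hw; rw [hw]; ring⟩
  · refine Ideal.span_le.mpr ?_
    rintro w (rfl | rfl)
    · exact Ideal.subset_span (by simp)
    · exact Ideal.mem_span_pair.mpr ⟨0, b, by ring⟩
  · intro x hx
    obtain ⟨c, d, rfl⟩ := Ideal.mem_span_pair.mp hx
    exact ⟨d, Ideal.mem_span_pair.mpr ⟨c, 0, by ring⟩⟩
  · intro z
    exact Ideal.mem_span_pair.mpr ⟨0, z, by ring⟩

theorem pow_cancel {R : Type*} [CommRing R] (p : R) (c : ∀ x y, p * x = p * y → x = y) (n : ℕ) :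
    ∀ x y, p ^ n * x = p ^ n * y → x = y := by
  induction n with
  | zero => intro x y h; simpa using h
  | succ n ih =>
    intro x y h
    apply ih
    apply c
    rw [← mul_assoc, ← mul_assoc, ← pow_succ']
    exact h

theorem Tdvd {R : Type*} [CommRing R] (T a : R) (hT : Prime T)
    (cT : ∀ x y, T * x = T * y → x = y) (hTa : ¬ T ∣ a) (n : ℕ) (z r : R)
    (h : T ^ n * z = a * r) : ∃ r', z = a * r' := by
  induction n generalizing r with
  | zero => exact ⟨r, by simpa using h⟩
  | succ n ih =>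
    have h1 : T ∣ a * r := ⟨T ^ n * z, by rw [← h]; ring⟩
    obtain ⟨r₁, rfl⟩ := (hT.dvd_or_dvd h1).resolve_left hTa
    exact ih r₁ (cT _ _ (by linear_combination h))

end Groth.Agent.H76.NodeAlg
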