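import Mathlib
import Groth.Agent.S14093

set_option autoImplicit false
set_option linter.unusedSectionVars false
set_option linter.unusedVariables false
set_option linter.style.longLine false

universe u

namespace Groth.Agent.H76.NodeInv

open PowerSeries
open Groth.Agent.S14083 (rhoHom rhoHom_apply rho_rho)
open Groth.Agent.S14081 (hC2K EE EE_X EE_C rho_X cc_rho rho_EE algHom_ext_X nu nu_x nu_y nu_xMap
  xMap_X xMap_C y_sq nf x_not_unit ringA_local)
open Groth.Agent.S14093 (pair_zero exists_mu mu_xMap nf_unique joint_inj' memK K1_max K_last)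
open Groth.Agent.H76.NodeAlg (length_step)

section General

theorem flat_mem2' {R S : Type u} [CommRing R] [CommRing S] [Algebra R S] [Module.Flat R S]
    (r₁ r₂ : R) (s₁ s₂ : S)
    (h : algebraMap R S r₁ * s₁ + algebraMap R S r₂ * s₂ = 0) (I : Ideal S)
    (hI : ∀ a₁ a₂ : R, r₁ * a₁ + r₂ * a₂ = 0 → algebraMap R S a₁ ∈ I) : s₁ ∈ I := by
  have h' : ∑ i : Fin 2, (![r₁, r₂] : Fin 2 → R) i • (![s₁, s₂] : Fin 2 → S) i = 0 := by
    rw [Fin.sum_univ_two]
    show r₁ • s₁ + r₂ • s₂ = 0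
    rw [Algebra.smul_def, Algebra.smul_def]
    exact h
  obtain ⟨κ, a, y, h1, h2⟩ := Module.Flat.isTrivialRelation_of_sum_smul_eq_zero
    (f := (![r₁, r₂] : Fin 2 → R)) (x := (![s₁, s₂] : Fin 2 → S)) h'
  have hs : s₁ = ∑ j, a 0 j • y j := h1 0
  rw [hs]
  refine Ideal.sum_mem _ fun j _ => ?_
  rw [Algebra.smul_def]
  refine Ideal.mul_mem_right _ _ (hI _ (a 1 j) ?_)
  have h3 := h2 j
  rw [Fin.sum_univ_two] at h3
  exact h3

/-- two-term consequence of the equational criterion of flatness -/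
theorem flat_mem2 {R S : Type u} [CommRing R] [CommRing S] (f : R →+* S) (hf : f.Flat)
    (r₁ r₂ : R) (s₁ s₂ : S) (h : f r₁ * s₁ + f r₂ * s₂ = 0) (I : Ideal S)
    (hI : ∀ a₁ a₂ : R, r₁ * a₁ + r₂ * a₂ = 0 → f a₁ ∈ I) : s₁ ∈ I := by
  letI : Algebra R S := f.toAlgebra
  haveI : Module.Flat R S := hf
  exact flat_mem2' r₁ r₂ s₁ s₂ h I hI

end General

section KLevel
variable {k : Type u} [Field k]

theorem h2R (h2 : (2:k) ≠ 0) : ∀ c : k, c + c = 0 → c = 0 := by
  intro c hc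
  have h3 : (2:k) * c = 0 := by rw [two_mul]; exact hc
  exact (mul_eq_zero.mp h3).resolve_left h2

theorem even_of_rho (h2 : (2:k) ≠ 0) (g : PowerSeries k) (hg : rhoHom k g = g) :
    ∃ g' : PowerSeries k, EE k g' = g := by
  obtain ⟨g', hg', -⟩ := Groth.Agent.S14096.exists_expand (h2R h2) g
    ((rhoHom_apply k g).symm.trans hg)
  exact ⟨g', hg'⟩

theorem odd_of_rho (h2 : (2:k) ≠ 0) (g : PowerSeries k) (hg : rhoHom k g = -g) :
    ∃ g' : PowerSeries k, X * EE k g' = g := by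
  have hcc : constantCoeff g = 0 := by
    have h : constantCoeff (rhoHom k g) = constantCoeff (-g) := by rw [hg]
    rw [cc_rho, map_neg] at h
    exact h2R h2 _ (by linear_combination h)
  obtain ⟨g₁, rfl⟩ := X_dvd_iff.mpr hcc
  have h1 : rhoHom k g₁ = g₁ := by
    rw [map_mul, rho_X] at hg
    apply X_mul_cancel
    linear_combination -hg
  obtain ⟨g', hg'⟩ := even_of_rho h2 g₁ h1
  exact ⟨g', by rw [hg']⟩

theorem evenodd (h2 : (2:k) ≠ 0) (a : PowerSeries k) :
    ∃ a₀ a₁ : PowerSeries k, a = EE k a₀ + X * EE k a₁ := by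
  obtain ⟨e, he⟩ := even_of_rho h2 (a + rhoHom k a) (by rw [map_add, rho_rho, add_comm])
  obtain ⟨o, ho⟩ := odd_of_rho h2 (a - rhoHom k a) (by rw [map_sub, rho_rho, neg_sub])
  refine ⟨C (2⁻¹ : k) * e, C (2⁻¹ : k) * o, ?_⟩
  rw [map_mul, map_mul, EE_C, he]
  linear_combination (-a) * hC2K h2 - C (2⁻¹ : k) * ho

theorem evenodd_unique (h2 : (2:k) ≠ 0) (a₀ a₁ : PowerSeries k)
    (h : EE k a₀ + X * EE k a₁ = 0) : a₀ = 0 ∧ a₁ = 0 := by
  have hρ := congrArg (rhoHom k) h
  rw [map_add, map_mul, rho_EE, rho_EE, rho_X, map_zero] at hρ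
  exact pair_zero h2 1 a₀ a₁ (by linear_combination h) (by linear_combination hρ)

theorem rho_sub_dvd (a : PowerSeries k) : X ∣ rhoHom k a - a :=
  X_dvd_iff.mpr (by rw [map_sub, cc_rho, sub_self])

theorem not_X_sq_dvd_X {n : ℕ} (hn : 2 ≤ n) : ¬ (X ^ n ∣ (X : PowerSeries k)) := by
  intro h
  rw [X_pow_dvd_iff] at h
  have h1 := h 1 (by omega)
  rw [coeff_one_X] at h1
  exact one_ne_zero h1

end KLevel

section ALevel
variable (k : Type u) [Field k] (r : ℕ)

theorem nf_ext (h2 : (2:k) ≠ 0) {a b a' b' : PowerSeries k}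
    (h : ArSing.xMap k r a + ArSing.xMap k r b * ArSing.y k r =
      ArSing.xMap k r a' + ArSing.xMap k r b' * ArSing.y k r) : a = a' ∧ b = b' := by
  have h0 : ArSing.xMap k r (a - a') + ArSing.xMap k r (b - b') * ArSing.y k r = 0 := by
    rw [map_sub, map_sub]; linear_combination h
  obtain ⟨h1, h3⟩ := nf_unique k r h2 _ _ h0
  exact ⟨sub_eq_zero.mp h1, sub_eq_zero.mp h3⟩

/-- an automorphism with `x ↦ -x` acts on `k⟦x⟧ ⊆ A_r` by `f(x) ↦ f(-x)` -/
theorem sigma_xi (h2 : (2:k) ≠ 0) (σ : ArSing.ring k r ≃ₐ[k] ArSing.ring k r)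
    (hx : σ (ArSing.x k r) = -ArSing.x k r) (f : PowerSeries k) :
    σ (ArSing.xMap k r f) = ArSing.xMap k r (rhoHom k f) := by
  obtain ⟨μ, hμx, hμy⟩ := exists_mu k r
  apply joint_inj' k r h2 μ hμx hμy
  · have h := algHom_ext_X (((nu k r).comp σ.toAlgHom).comp (ArSing.xMap k r))
        (((nu k r).comp (ArSing.xMap k r)).comp (rhoHom k))
      (show nu k r (σ (ArSing.xMap k r X)) = nu k r (ArSing.xMap k r (rhoHom k X)) by
        rw [xMap_X, hx, rho_X]; simp only [map_neg, xMap_X])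
    exact DFunLike.congr_fun h f
  · have h := algHom_ext_X ((μ.comp σ.toAlgHom).comp (ArSing.xMap k r))
        ((μ.comp (ArSing.xMap k r)).comp (rhoHom k))
      (show μ (σ (ArSing.xMap k r X)) = μ (ArSing.xMap k r (rhoHom k X)) by
        rw [xMap_X, hx, rho_X]; simp only [map_neg, xMap_X])
    exact DFunLike.congr_fun h f

/-- a `k`-algebra map `A_s → A_r` with `x ↦ x²` acts on `k⟦x⟧` by `f(x) ↦ f(x²)` -/
theorem phi_xi (h2 : (2:k) ≠ 0) (s : ℕ) (φ : ArSing.ring k s →ₐ[k] ArSing.ring k r)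
    (hφx : φ (ArSing.x k s) = ArSing.x k r ^ 2) (f : PowerSeries k) :
    φ (ArSing.xMap k s f) = ArSing.xMap k r (EE k f) := by
  obtain ⟨μ, hμx, hμy⟩ := exists_mu k r
  apply joint_inj' k r h2 μ hμx hμy
  · have h := algHom_ext_X (((nu k r).comp φ).comp (ArSing.xMap k s))
        (((nu k r).comp (ArSing.xMap k r)).comp (EE k))
      (show nu k r (φ (ArSing.xMap k s X)) = nu k r (ArSing.xMap k r (EE k X)) by
        rw [xMap_X, hφx, EE_X]; simp only [map_pow, xMap_X])
    exact DFunLike.congr_fun h f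
  · have h := algHom_ext_X ((μ.comp φ).comp (ArSing.xMap k s))
        ((μ.comp (ArSing.xMap k r)).comp (EE k))
      (show μ (φ (ArSing.xMap k s X)) = μ (ArSing.xMap k r (EE k X)) by
        rw [xMap_X, hφx, EE_X]; simp only [map_pow, xMap_X])
    exact DFunLike.congr_fun h f

theorem memX (h2 : (2:k) ≠ 0) (a b : PowerSeries k) :
    ArSing.xMap k r a + ArSing.xMap k r b * ArSing.y k r ∈ Ideal.span {ArSing.x k r} ↔
      X ∣ a ∧ X ∣ b := by
  constructor
  · intro h
    obtain ⟨c, hc⟩ := Ideal.mem_span_singleton'.mp h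
    obtain ⟨c1, c2, rfl⟩ := nf k r c
    have h0 : ArSing.xMap k r (c1 * X) + ArSing.xMap k r (c2 * X) * ArSing.y k r =
        ArSing.xMap k r a + ArSing.xMap k r b * ArSing.y k r := by
      rw [map_mul, map_mul, xMap_X]; linear_combination hc
    obtain ⟨ha, hb⟩ := nf_ext k r h2 h0
    exact ⟨⟨c1, by rw [← ha, mul_comm]⟩, ⟨c2, by rw [← hb, mul_comm]⟩⟩
  · rintro ⟨⟨a', rfl⟩, ⟨b', rfl⟩⟩
    exact Ideal.mem_span_singleton'.mpr
      ⟨ArSing.xMap k r a' + ArSing.xMap k r b' * ArSing.y k r, by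
        rw [map_mul, map_mul, xMap_X]; ring⟩

theorem x_nzd (h2 : (2:k) ≠ 0) : ArSing.x k r ∈ nonZeroDivisors (ArSing.ring k r) := by
  rw [mem_nonZeroDivisors_iff_right]
  intro α hα
  obtain ⟨a, b, rfl⟩ := nf k r α
  have h0 : ArSing.xMap k r (a * X) + ArSing.xMap k r (b * X) * ArSing.y k r = 0 := by
    rw [map_mul, map_mul, xMap_X]; linear_combination hα
  obtain ⟨ha, hb⟩ := nf_unique k r h2 _ _ h0
  have ha' : a = 0 := (mul_eq_zero.mp ha).resolve_right X_ne_zero
  have hb' : b = 0 := (mul_eq_zero.mp hb).resolve_right X_ne_zero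
  rw [ha', hb', map_zero, zero_mul, add_zero]

theorem hxc (h2 : (2:k) ≠ 0) : ArSing.xMap k r (C (2⁻¹ : k)) * 2 = 1 := by
  have := congrArg (ArSing.xMap k r) (hC2K h2)
  rwa [map_mul, map_ofNat, map_one] at this

theorem length_K1 (h2 : (2:k) ≠ 0) : Module.length (ArSing.ring k r)
    (ArSing.ring k r ⧸ Ideal.span {ArSing.y k r, ArSing.x k r ^ 1}) = 1 := by
  rw [Module.length_eq_one_iff, isSimpleModule_iff_quot_maximal]
  exact ⟨_, K1_max k r h2, ⟨LinearEquiv.refl _ _⟩⟩

theorem length_quot_x (h2 : (2:k) ≠ 0) : Module.length (ArSing.ring k r)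
    (ArSing.ring k r ⧸ Ideal.span {ArSing.x k r}) = 2 := by
  have h1r : 1 ≤ r + 1 := Nat.le_add_left 1 r
  have key := length_step (Ideal.span {ArSing.y k r, ArSing.x k r ^ 1})
    (Ideal.span {ArSing.y k r, ArSing.x k r ^ 1}) (Ideal.span {ArSing.x k r}) (ArSing.y k r)
    (by
      intro z hz
      obtain ⟨c, d, rfl⟩ := Ideal.mem_span_pair.mp hz
      exact Ideal.mem_span_singleton'.mpr ⟨c * ArSing.x k r ^ r + d * ArSing.y k r, by
        linear_combination (-c) * y_sq k r⟩)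
    (by
      intro z hz
      obtain ⟨a, b, rfl⟩ := nf k r z
      have e : ArSing.y k r * (ArSing.xMap k r a + ArSing.xMap k r b * ArSing.y k r) =
          ArSing.xMap k r (b * X ^ (r + 1)) + ArSing.xMap k r a * ArSing.y k r := by
        rw [map_mul, map_pow, xMap_X]; linear_combination ArSing.xMap k r b * y_sq k r
      rw [e, memX k r h2] at hz
      rw [memK k r h2 1 h1r, pow_one]
      exact hz.2)
    (by
      rw [Ideal.span_le, Set.singleton_subset_iff]
      exact Ideal.subset_span (Set.mem_insert_of_mem _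
        (Set.mem_singleton_iff.mpr (pow_one _).symm)))
    (by
      intro z hz
      obtain ⟨a, b, rfl⟩ := nf k r z
      rw [memK k r h2 1 h1r, pow_one] at hz
      obtain ⟨a', rfl⟩ := hz
      refine ⟨ArSing.xMap k r b, Ideal.mem_span_singleton'.mpr ⟨ArSing.xMap k r a', ?_⟩⟩
      rw [map_mul, xMap_X]; ring)
    (by
      intro z
      exact Ideal.mul_mem_right _ _ (Ideal.subset_span (Set.mem_insert _ _)))
  rw [key, length_K1 k r h2]
  exact one_add_one_eq_two

theorem x_notMem_span_y (h2 : (2:k) ≠ 0) (hr2 : 2 ≤ r + 1) :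
    ArSing.x k r ∉ Ideal.span {ArSing.y k r} := by
  intro hxy
  rw [← K_last k r] at hxy
  have h' : ArSing.xMap k r X + ArSing.xMap k r 0 * ArSing.y k r ∈
      Ideal.span {ArSing.y k r, ArSing.x k r ^ (r + 1)} := by
    rw [xMap_X, map_zero, zero_mul, add_zero]; exact hxy
  rw [memK k r h2 (r + 1) le_rfl] at h'
  exact not_X_sq_dvd_X hr2 h'

theorem y_notMem_span_x (h2 : (2:k) ≠ 0) :
    ArSing.y k r ∉ Ideal.span {ArSing.x k r} := by
  intro hyx
  have h' : ArSing.xMap k r 0 + ArSing.xMap k r 1 * ArSing.y k r ∈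
      Ideal.span {ArSing.x k r} := by
    rw [map_zero, map_one, zero_add, one_mul]; exact hyx
  rw [memX k r h2] at h'
  have h1 := X_dvd_iff.mp h'.2
  rw [map_one] at h1
  exact one_ne_zero h1

/-- the maximal ideal `(y, x)` of `A_r` (`r ≥ 1`) is not generated by a nonzerodivisor -/
theorem not_principal (h2 : (2:k) ≠ 0) (hr2 : 2 ≤ r + 1) :
    ¬ ∃ g : ArSing.ring k r, g ∈ nonZeroDivisors (ArSing.ring k r) ∧
      Ideal.span {ArSing.y k r, ArSing.x k r ^ 1} = Ideal.span {g} := by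
  rintro ⟨g, hg, hK⟩
  haveI := ringA_local k r
  have hxg : ArSing.x k r ∈ Ideal.span {g} := by
    rw [← hK]
    exact Ideal.subset_span (Set.mem_insert_of_mem _
      (Set.mem_singleton_iff.mpr (pow_one _).symm))
  have hyg : ArSing.y k r ∈ Ideal.span {g} := by
    rw [← hK]; exact Ideal.subset_span (Set.mem_insert _ _)
  have hgK : g ∈ Ideal.span {ArSing.y k r, ArSing.x k r ^ 1} := by
    rw [hK]; exact Ideal.mem_span_singleton_self g
  obtain ⟨u, hu⟩ := Ideal.mem_span_singleton'.mp hxg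
  obtain ⟨v, hv⟩ := Ideal.mem_span_singleton'.mp hyg
  obtain ⟨p, q, hpq⟩ := Ideal.mem_span_pair.mp hgK
  have h1 : p * v + q * u = 1 := by
    have hz : (p * v + q * u - 1) * g = 0 := by
      linear_combination p * hv + q * hu + hpq
    exact sub_eq_zero.mp ((mem_nonZeroDivisors_iff_right.mp hg) _ hz)
  rcases IsLocalRing.isUnit_or_isUnit_of_add_one h1 with hU | hU
  · have hvU : IsUnit v := isUnit_of_mul_isUnit_right hU
    obtain ⟨v', hv'⟩ := hvU.exists_left_inv
    apply x_notMem_span_y k r h2 hr2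
    refine Ideal.mem_span_singleton'.mpr ⟨u * v', ?_⟩
    linear_combination (u * g) * hv' + hu - u * v' * hv
  · have huU : IsUnit u := isUnit_of_mul_isUnit_right hU
    obtain ⟨u', hu'⟩ := huU.exists_left_inv
    apply y_notMem_span_x k r h2
    refine Ideal.mem_span_singleton'.mpr ⟨v * u', ?_⟩
    linear_combination (v * g) * hu' + hv - v * u' * hu

end ALevel

end Groth.Agent.H76.NodeInv
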