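import Mathlib
import Groth.Prelude.Def_W4c2arithlefschetzNode
import Groth.Agent.H76.NodeAlg

set_option autoImplicit false
set_option linter.unusedSectionVars false
set_option linter.unusedVariables false
set_option linter.style.longLine false

universe u

namespace Groth.Agent.H76.PSFix

open Groth.Agent.H76.NodeAlg

theorem C_dvd_iff {B : Type*} [CommRing B] [IsDomain B] [IsDiscreteValuationRing B] {π : B}
    (hπ : Irreducible π) (g : PowerSeries B) :
    PowerSeries.C π ∣ g ↔ PowerSeries.map (IsLocalRing.residue B) g = 0 := by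
  constructor
  · rintro ⟨h, rfl⟩
    rw [map_mul, PowerSeries.map_C]
    have : IsLocalRing.residue B π = 0 := by
      rw [IsLocalRing.residue_eq_zero_iff, hπ.maximalIdeal_eq]
      exact Ideal.mem_span_singleton_self π
    rw [this, map_zero, zero_mul]
  · intro h
    have hc : ∀ n, ∃ c, PowerSeries.coeff n g = π * c := by
      intro n
      have h0 : IsLocalRing.residue B (PowerSeries.coeff n g) = 0 := by
        have := congrArg (PowerSeries.coeff n) h
        rwa [PowerSeries.coeff_map, map_zero] at this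
      rw [IsLocalRing.residue_eq_zero_iff, hπ.maximalIdeal_eq, Ideal.mem_span_singleton] at h0
      exact h0
    choose c hc using hc
    refine ⟨PowerSeries.mk c, ?_⟩
    ext n
    rw [PowerSeries.coeff_C_mul, PowerSeries.coeff_mk, hc]

/-- Generators of the fixed ideal of an automorphism of `B[[X]]`. -/
theorem ps_fixIdeal_le {B : Type u} [CommRing B] [IsLocalRing B] [IsNoetherianRing B]
    (σ : PowerSeries B ≃+* PowerSeries B) (J : Ideal (PowerSeries B))
    (hB : ∀ b : B, σ (PowerSeries.C b) - PowerSeries.C b ∈ J)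
    (hX : σ PowerSeries.X - PowerSeries.X ∈ J) : ArLef.fixIdeal σ ≤ J := by
  have hadd : ∀ r s, σ r - r ∈ J → σ s - s ∈ J → σ (r + s) - (r + s) ∈ J := by
    intro r s hr hs
    have : σ (r + s) - (r + s) = (σ r - r) + (σ s - s) := by rw [map_add]; ring
    rw [this]; exact J.add_mem hr hs
  have hmul : ∀ r s, σ r - r ∈ J → σ s - s ∈ J → σ (r * s) - r * s ∈ J := by
    intro r s hr hs
    have : σ (r * s) - r * s = σ r * (σ s - s) + (σ r - r) * s := by rw [map_mul]; ring
    rw [this]; exact J.add_mem (J.mul_mem_left _ hs) (J.mul_mem_right _ hr)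
  have hpow : ∀ N : ℕ, σ (PowerSeries.X ^ N) - PowerSeries.X ^ N ∈ J := by
    intro N
    induction N with
    | zero => simp
    | succ N ih => rw [pow_succ]; exact hmul _ _ ih hX
  have hdecomp : ∀ (N : ℕ) (r : PowerSeries B), ∃ s r', σ s - s ∈ J ∧
      r = s + PowerSeries.X ^ N * r' := by
    intro N
    induction N with
    | zero => intro r; exact ⟨0, r, by simp, by simp⟩
    | succ N ih =>
      intro r
      obtain ⟨s, r', hs, rfl⟩ := ih r
      refine ⟨s + PowerSeries.X ^ N * PowerSeries.C (PowerSeries.constantCoeff r'),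
        PowerSeries.mk fun p => PowerSeries.coeff (p + 1) r', ?_, ?_⟩
      · exact hadd _ _ hs (hmul _ _ (hpow N) (hB _))
      · conv_lhs => rw [PowerSeries.eq_X_mul_shift_add_const r']
        ring
  have hXnu : ¬ IsUnit (PowerSeries.X : PowerSeries B) := by
    rw [PowerSeries.isUnit_iff_constantCoeff, PowerSeries.constantCoeff_X]
    exact not_isUnit_zero
  have hXm : (PowerSeries.X : PowerSeries B) ∈ IsLocalRing.maximalIdeal (PowerSeries B) := by
    rw [IsLocalRing.mem_maximalIdeal, mem_nonunits_iff]; exact hXnu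
  have hσXm : σ (PowerSeries.X : PowerSeries B) ∈ IsLocalRing.maximalIdeal (PowerSeries B) := by
    rw [IsLocalRing.mem_maximalIdeal, mem_nonunits_iff]
    intro hu
    have h2 : IsUnit (σ.symm (σ (PowerSeries.X : PowerSeries B))) := hu.map σ.symm
    rw [RingEquiv.symm_apply_apply] at h2
    exact hXnu h2
  unfold ArLef.fixIdeal
  rw [Ideal.span_le]
  rintro _ ⟨r, rfl⟩
  change σ r - r ∈ J
  have key : ∀ n : ℕ, σ r - r ∈ J ⊔ (IsLocalRing.maximalIdeal (PowerSeries B)) ^ n := by
    intro n
    obtain ⟨s, r', hs, hr⟩ := hdecomp n r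
    have e1 : σ r - r = (σ s - s) + (σ PowerSeries.X ^ n * σ r' - PowerSeries.X ^ n * r') := by
      conv_lhs => rw [hr]
      simp only [map_add, map_mul, map_pow]
      ring
    rw [e1]
    refine Ideal.add_mem _ (Ideal.mem_sup_left hs) (Ideal.mem_sup_right ?_)
    exact Ideal.sub_mem _ (Ideal.mul_mem_right _ _ (Ideal.pow_mem_pow hσXm n))
      (Ideal.mul_mem_right _ _ (Ideal.pow_mem_pow hXm n))
  have hx : (Submodule.Quotient.mk (σ r - r) : PowerSeries B ⧸ J) = 0 := by
    apply IsHausdorff.haus (inferInstance : IsHausdorff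
      (IsLocalRing.maximalIdeal (PowerSeries B)) (PowerSeries B ⧸ J))
    intro n
    rw [SModEq.zero]
    obtain ⟨y, hy, z, hz, hyz⟩ := Submodule.mem_sup.mp (key n)
    have h3 : (Submodule.Quotient.mk (σ r - r) : PowerSeries B ⧸ J) =
        z • (Submodule.Quotient.mk 1 : PowerSeries B ⧸ J) := by
      rw [← hyz, Submodule.Quotient.mk_add, (Submodule.Quotient.mk_eq_zero J).mpr hy, zero_add,
        ← Submodule.Quotient.mk_smul, smul_eq_mul, mul_one]
    rw [h3]
    exact Submodule.smul_mem_smul hz Submodule.mem_top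
  exact (Submodule.Quotient.mk_eq_zero J).mp hx

/-- Length of `B[[X]]/(f, π^n)` for `π ∤ f`. -/
theorem ps_length {B : Type u} [CommRing B] [IsDomain B] [IsDiscreteValuationRing B] {π : B}
    (hπ : Irreducible π) (f : PowerSeries B) (h0 : ¬ PowerSeries.C π ∣ f) (n : ℕ) :
    Module.length (PowerSeries B)
      (PowerSeries B ⧸ (Ideal.span {f} ⊔ Ideal.span {PowerSeries.C π ^ n})) =
      (n : ℕ∞) * Module.length (PowerSeries (IsLocalRing.ResidueField B))
        (PowerSeries (IsLocalRing.ResidueField B) ⧸
          Ideal.span {PowerSeries.map (IsLocalRing.residue B) f}) := by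
  classical
  have hDvd := fun g => C_dvd_iff hπ g
  have hres : IsLocalRing.residue B π = 0 := by
    rw [IsLocalRing.residue_eq_zero_iff, hπ.maximalIdeal_eq]
    exact Ideal.mem_span_singleton_self π
  have hφsurj : Function.Surjective (PowerSeries.map (IsLocalRing.residue B)) := by
    intro v
    refine ⟨PowerSeries.mk fun n =>
      (IsLocalRing.residue_surjective (PowerSeries.coeff n v)).choose, ?_⟩
    ext n
    rw [PowerSeries.coeff_map, PowerSeries.coeff_mk]
    exact (IsLocalRing.residue_surjective (PowerSeries.coeff n v)).choose_spec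
  have hπ0 : PowerSeries.C π ≠ 0 := by
    intro h
    have h1 := congrArg PowerSeries.constantCoeff h
    rw [PowerSeries.constantCoeff_C, map_zero] at h1
    exact hπ.ne_zero h1
  have hprime : ∀ x y : PowerSeries B, PowerSeries.C π ∣ x * y →
      PowerSeries.C π ∣ x ∨ PowerSeries.C π ∣ y := by
    intro x y h
    have h' := (hDvd (x * y)).mp h
    rw [map_mul, mul_eq_zero] at h'
    exact h'.imp (hDvd x).mpr (hDvd y).mpr
  have hreg : ∀ x, PowerSeries.C π * x ∈ Ideal.span {f} → x ∈ Ideal.span {f} := by
    intro x hx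
    obtain ⟨y, hy⟩ := Ideal.mem_span_singleton'.mp hx
    have h1 : PowerSeries.C π ∣ y * f := ⟨x, hy⟩
    rcases hprime y f h1 with h2 | h2
    · obtain ⟨y', rfl⟩ := h2
      have : x = y' * f := by
        apply mul_left_cancel₀ hπ0
        rw [← hy]; ring
      rw [this]; exact Ideal.mem_span_singleton'.mpr ⟨y', rfl⟩
    · exact absurd h2 h0
  rw [length_chain (Ideal.span {f}) (PowerSeries.C π) hreg n]
  congr 1
  letI alg : Algebra (PowerSeries B) (PowerSeries (IsLocalRing.ResidueField B)) :=
    (PowerSeries.map (IsLocalRing.residue B)).toAlgebra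
  have hsurj' : Function.Surjective
      (algebraMap (PowerSeries B) (PowerSeries (IsLocalRing.ResidueField B))) := hφsurj
  rw [← Module.length_eq_of_surjective (S := PowerSeries B)
    (R := PowerSeries (IsLocalRing.ResidueField B))
    (M := PowerSeries (IsLocalRing.ResidueField B) ⧸
      Ideal.span {PowerSeries.map (IsLocalRing.residue B) f}) hsurj']
  let ψ : PowerSeries B →ₗ[PowerSeries B] (PowerSeries (IsLocalRing.ResidueField B) ⧸
      Ideal.span {PowerSeries.map (IsLocalRing.residue B) f}) :=
    ((Submodule.mkQ (Ideal.span {PowerSeries.map (IsLocalRing.residue B) f})).restrictScalars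
      (PowerSeries B)).comp
      (Algebra.linearMap (PowerSeries B) (PowerSeries (IsLocalRing.ResidueField B)))
  have hψ : ∀ x, ψ x = Submodule.Quotient.mk (PowerSeries.map (IsLocalRing.residue B) x) :=
    fun x => rfl
  have hψsurj : Function.Surjective ψ := by
    intro y
    obtain ⟨v, rfl⟩ := Submodule.Quotient.mk_surjective _ y
    obtain ⟨x, rfl⟩ := hφsurj v
    exact ⟨x, hψ x⟩
  have hker : Ideal.span {f} ⊔ Ideal.span {PowerSeries.C π} = LinearMap.ker ψ := by
    ext x
    rw [LinearMap.mem_ker, hψ, Submodule.Quotient.mk_eq_zero, Ideal.mem_span_singleton',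
      mem_sup_span]
    constructor
    · rintro ⟨i, hi, y, rfl⟩
      obtain ⟨z, rfl⟩ := Ideal.mem_span_singleton'.mp hi
      refine ⟨PowerSeries.map (IsLocalRing.residue B) z, ?_⟩
      rw [map_add, map_mul, map_mul, PowerSeries.map_C, hres, map_zero, mul_zero, add_zero]
    · rintro ⟨yb, hy⟩
      obtain ⟨y, rfl⟩ := hφsurj yb
      have h1 : PowerSeries.C π ∣ x - y * f := by
        rw [hDvd, map_sub, map_mul, hy, sub_self]
      obtain ⟨w, hw⟩ := h1
      exact ⟨y * f, Ideal.mem_span_singleton'.mpr ⟨y, rfl⟩, w, by rw [mul_comm w, ← hw]; ring⟩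
  exact ((Submodule.quotEquivOfEq _ _ hker).trans
    (LinearMap.quotKerEquivOfSurjective ψ hψsurj)).length_eq

end Groth.Agent.H76.PSFix
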