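import Mathlib
import Groth.Prelude.Def_PolLaw
import Groth.Agent.H76.PolLawBC

/-!
# Helper library (helper76): first-order terms of polynomial laws `B → A`

`line f S x y = F(x + V y) ∈ S[V]`, `D f S x y` its coefficient of `V`; naturality, homogeneity, additivity in `y`;
the universal derivative `DU` for a finite `B`, and the characteristic-zero criterion
`mem_kerBC_of_DU_eq_zero`.
-/

set_option autoImplicit false
universe u
open scoped TensorProduct

namespace Groth.Agent.H76.PolLawBC

section Deriv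

variable {A : Type u} [CommRing A] {B : Type u} [CommRing B] [Algebra A B]

local notation "cst[" S "]" =>
  Algebra.TensorProduct.map (Polynomial.CAlgHom : S →ₐ[A] Polynomial S) (AlgHom.id A B)

/-- evaluation `S[V] → T`, `V ↦ t`, coefficients through `g`, as an algebra map over the base ring. -/
noncomputable def ev2 {S T : Type u} [CommSemiring S] [Algebra A S] [CommSemiring T] [Algebra A T]
    (g : S →ₐ[A] T) (t : T) : Polynomial S →ₐ[A] T :=
  { toRingHom := Polynomial.eval₂RingHom (g : S →+* T) t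
    commutes' := fun a => by
      show Polynomial.eval₂ (g : S →+* T) t (algebraMap A (Polynomial S) a) = algebraMap A T a
      rw [Polynomial.algebraMap_apply, Polynomial.eval₂_C]
      exact g.commutes a }

theorem ev2_apply {S T : Type u} [CommSemiring S] [Algebra A S] [CommSemiring T] [Algebra A T]
    (g : S →ₐ[A] T) (t : T) (p : Polynomial S) :
    ev2 g t p = Polynomial.eval₂ (g : S →+* T) t p := rfl

theorem ev2_comp_C {S T : Type u} [CommSemiring S] [Algebra A S] [CommSemiring T] [Algebra A T]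
    (g : S →ₐ[A] T) (t : T) :
    (ev2 g t).comp (Polynomial.CAlgHom : S →ₐ[A] Polynomial S) = g := by
  refine AlgHom.ext (fun s => ?_)
  show Polynomial.eval₂ (g : S →+* T) t (Polynomial.C s) = g s
  rw [Polynomial.eval₂_C]
  rfl

theorem ev2_X {S T : Type u} [CommSemiring S] [Algebra A S] [CommSemiring T] [Algebra A T]
    (g : S →ₐ[A] T) (t : T) : ev2 g t Polynomial.X = t :=
  Polynomial.eval₂_X _ _

/-- `F(x + V y)` as a polynomial in `V`. -/
noncomputable def line (f : B →ₚₗ[A] A) (S : Type u) [CommSemiring S] [Algebra A S]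
    (x y : S ⊗[A] B) : Polynomial S :=
  val f (Polynomial S) (cst[S] x + ((Polynomial.X : Polynomial S) ⊗ₜ[A] (1 : B)) * cst[S] y)

theorem ev2_line (f : B →ₚₗ[A] A) {S T : Type u} [CommSemiring S] [Algebra A S] [CommSemiring T]
    [Algebra A T] (g : S →ₐ[A] T) (t : T) (x y : S ⊗[A] B) :
    ev2 g t (line f S x y) = val f T (Algebra.TensorProduct.map g (AlgHom.id A B) x +
      (t ⊗ₜ[A] (1 : B)) * Algebra.TensorProduct.map g (AlgHom.id A B) y) := by
  unfold line
  rw [← val_map, map_add, map_mul, map_map_apply, map_map_apply, ev2_comp_C,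
    Algebra.TensorProduct.map_tmul, ev2_X, AlgHom.id_apply]

theorem line_map (f : B →ₚₗ[A] A) {S S' : Type u} [CommSemiring S] [Algebra A S] [CommSemiring S']
    [Algebra A S'] (φ : S →ₐ[A] S') (x y : S ⊗[A] B) :
    (line f S x y).map (φ : S →+* S') =
      line f S' (Algebra.TensorProduct.map φ (AlgHom.id A B) x)
        (Algebra.TensorProduct.map φ (AlgHom.id A B) y) := by
  have h := ev2_line f ((Polynomial.CAlgHom : S' →ₐ[A] Polynomial S').comp φ)
    (Polynomial.X : Polynomial S') x y
  have h2 : ev2 ((Polynomial.CAlgHom : S' →ₐ[A] Polynomial S').comp φ)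
      (Polynomial.X : Polynomial S') (line f S x y) = (line f S x y).map (φ : S →+* S') := rfl
  rw [← h2, h]
  unfold line
  rw [map_map_apply, map_map_apply]

/-- the first-order term of `F(x + V y)`. -/
noncomputable def D (f : B →ₚₗ[A] A) (S : Type u) [CommSemiring S] [Algebra A S]
    (x y : S ⊗[A] B) : S :=
  (line f S x y).coeff 1

theorem D_map (f : B →ₚₗ[A] A) {S S' : Type u} [CommSemiring S] [Algebra A S] [CommSemiring S']
    [Algebra A S'] (φ : S →ₐ[A] S') (x y : S ⊗[A] B) :
    φ (D f S x y) = D f S' (Algebra.TensorProduct.map φ (AlgHom.id A B) x)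
      (Algebra.TensorProduct.map φ (AlgHom.id A B) y) := by
  unfold D
  rw [← line_map, Polynomial.coeff_map]
  rfl

theorem D_smul (f : B →ₚₗ[A] A) (S : Type u) [CommSemiring S] [Algebra A S] (x y : S ⊗[A] B)
    (s : S) : D f S x ((s ⊗ₜ[A] (1 : B)) * y) = s * D f S x y := by
  have h := ev2_line f (Polynomial.CAlgHom : S →ₐ[A] Polynomial S)
    (Polynomial.C s * Polynomial.X) x y
  have h2 : ev2 (Polynomial.CAlgHom : S →ₐ[A] Polynomial S) (Polynomial.C s * Polynomial.X)
      (line f S x y) = (line f S x y).comp (Polynomial.C s * Polynomial.X) := rfl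
  have h3 : line f S x ((s ⊗ₜ[A] (1 : B)) * y) =
      (line f S x y).comp (Polynomial.C s * Polynomial.X) := by
    rw [← h2, h]
    unfold line
    rw [map_mul, Algebra.TensorProduct.map_tmul, Polynomial.CAlgHom_apply, AlgHom.id_apply,
      ← mul_assoc, Algebra.TensorProduct.tmul_mul_tmul, mul_one,
      mul_comm Polynomial.X (Polynomial.C s)]
  unfold D
  rw [h3, Polynomial.comp_C_mul_X_coeff, pow_one, mul_comm]

theorem D_zero (f : B →ₚₗ[A] A) (S : Type u) [CommSemiring S] [Algebra A S] (x : S ⊗[A] B) :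
    D f S x 0 = 0 := by
  have h := D_smul f S x 0 0
  rw [mul_zero, zero_mul] at h
  exact h

theorem coeff_one_identity {S : Type u} [CommSemiring S] (K : Polynomial (Polynomial S)) :
    (Polynomial.eval Polynomial.X K).coeff 1 = (Polynomial.eval 0 K).coeff 1 +
      (Polynomial.eval₂ (Polynomial.C.comp (Polynomial.evalRingHom (0 : S))) Polynomial.X K).coeff 1 := by
  refine Polynomial.induction_on' K (fun p q hp hq => ?_) (fun j q => ?_)
  · rw [Polynomial.eval_add, Polynomial.eval_add, Polynomial.eval₂_add, Polynomial.coeff_add,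
      Polynomial.coeff_add, Polynomial.coeff_add, hp, hq]
    abel
  · rw [Polynomial.eval_monomial, Polynomial.eval_monomial, Polynomial.eval₂_monomial]
    rcases j with _ | _ | j
    · simp
    · simp [Polynomial.coeff_zero_eq_eval_zero]
    · simp [Polynomial.coeff_mul_X_pow']

theorem D_add (f : B →ₚₗ[A] A) (S : Type u) [CommSemiring S] [Algebra A S] (x y y' : S ⊗[A] B) :
    D f S x (y + y') = D f S x y + D f S x y' := by
  obtain ⟨x₂, hx₂⟩ : ∃ x₂ : Polynomial S ⊗[A] B, x₂ = cst[S] x +
      ((Polynomial.X : Polynomial S) ⊗ₜ[A] (1 : B)) * cst[S] y := ⟨_, rfl⟩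
  have hα := ev2_line f (AlgHom.id A (Polynomial S)) (0 : Polynomial S) x₂ (cst[S] y')
  have hδ := ev2_line f (AlgHom.id A (Polynomial S)) (Polynomial.X : Polynomial S) x₂ (cst[S] y')
  have hβ := ev2_line f ((Polynomial.CAlgHom : S →ₐ[A] Polynomial S).comp (evA (A := A) (0 : S)))
    (Polynomial.X : Polynomial S) x₂ (cst[S] y')
  rw [map_id_apply, map_id_apply, TensorProduct.zero_tmul, zero_mul, add_zero] at hα
  rw [map_id_apply, map_id_apply] at hδ
  have e1 : Algebra.TensorProduct.map ((Polynomial.CAlgHom : S →ₐ[A] Polynomial S).comp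
      (evA (A := A) (0 : S))) (AlgHom.id A B) x₂ = cst[S] x := by
    rw [← map_map_apply, hx₂, map_add, map_mul, map_map_apply, map_map_apply, evA_comp_C,
      map_id_apply, map_id_apply, Algebra.TensorProduct.map_tmul, evA_apply, Polynomial.eval_X,
      TensorProduct.zero_tmul, zero_mul, add_zero]
  have e2 : Algebra.TensorProduct.map ((Polynomial.CAlgHom : S →ₐ[A] Polynomial S).comp
      (evA (A := A) (0 : S))) (AlgHom.id A B) (cst[S] y') = cst[S] y' := by
    rw [← map_map_apply, map_map_apply (evA (A := A) (0 : S)), evA_comp_C, map_id_apply]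
  rw [e1, e2] at hβ
  have hα' : Polynomial.eval 0 (line f (Polynomial S) x₂ (cst[S] y')) = line f S x y := by
    rw [hx₂] at hα ⊢
    exact hα
  have hδ' : Polynomial.eval Polynomial.X (line f (Polynomial S) x₂ (cst[S] y')) =
      line f S x (y + y') := by
    have : line f S x (y + y') = val f (Polynomial S) (x₂ +
        ((Polynomial.X : Polynomial S) ⊗ₜ[A] (1 : B)) * cst[S] y') := by
      unfold line
      rw [hx₂, map_add, mul_add, add_assoc]
    rw [this]
    exact hδ
  have hβ' : Polynomial.eval₂ (Polynomial.C.comp (Polynomial.evalRingHom (0 : S))) Polynomial.X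
      (line f (Polynomial S) x₂ (cst[S] y')) = line f S x y' := hβ
  unfold D
  rw [← hδ', coeff_one_identity, hα', hβ']

end Deriv

section DerivUniv

variable {A : Type u} [CommRing A] {B : Type u} [CommRing B] [Algebra A B] {n : ℕ} (e : Fin n → B)

local notation "cst[" S "]" =>
  Algebra.TensorProduct.map (Polynomial.CAlgHom : S →ₐ[A] Polynomial S) (AlgHom.id A B)

/-- the universal first-order term. -/
noncomputable def DU (f : B →ₚₗ[A] A) (A' : Type u) [CommRing A'] [Algebra A A'] (c : A' ⊗[A] B) :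
    MvPolynomial (Fin n ⊕ Fin n) A' :=
  D f _ (xu e A') (wu e A' * Algebra.TensorProduct.map
    (IsScalarTower.toAlgHom A A' (MvPolynomial (Fin n ⊕ Fin n) A')) (AlgHom.id A B) c)

theorem D_eq_eval (f : B →ₚₗ[A] A) (A' : Type u) [CommRing A'] [Algebra A A'] (R : Type u)
    [CommSemiring R] [Algebra A R] [Algebra A' R] [IsScalarTower A A' R] (s s' : Fin n → R)
    (c : A' ⊗[A] B) :
    D f R (∑ i, s i ⊗ₜ[A] e i) ((∑ i, s' i ⊗ₜ[A] e i) *
      Algebra.TensorProduct.map (IsScalarTower.toAlgHom A A' R) (AlgHom.id A B) c) =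
      evalHom (A := A) A' R (Sum.elim s s') (DU e f A' c) := by
  unfold DU
  rw [D_map, map_mul, map_xu, map_wu, map_map_apply, evalHom_comp]
  simp only [evalHom_X, Sum.elim_inl, Sum.elim_inr]

theorem DU_map (f : B →ₚₗ[A] A) {A₁ A₂ : Type u} [CommRing A₁] [Algebra A A₁] [CommRing A₂]
    [Algebra A A₂] (g : A₁ →ₐ[A] A₂) (c : A₁ ⊗[A] B) :
    MvPolynomial.mapAlgHom g (DU e f A₁ c) =
      DU e f A₂ (Algebra.TensorProduct.map g (AlgHom.id A B) c) := by
  unfold DU
  rw [D_map, map_mul, map_xu, map_wu, map_map_apply, map_map_apply, mapAlgHom_comp_toAlgHom]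
  simp only [MvPolynomial.mapAlgHom_apply, MvPolynomial.map_X, xu, wu]

theorem DU_add (f : B →ₚₗ[A] A) (A' : Type u) [CommRing A'] [Algebra A A'] (c c' : A' ⊗[A] B) :
    DU e f A' (c + c') = DU e f A' c + DU e f A' c' := by
  unfold DU
  rw [map_add, mul_add, D_add]

theorem DU_zero (f : B →ₚₗ[A] A) (A' : Type u) [CommRing A'] [Algebra A A'] :
    DU e f A' (0 : A' ⊗[A] B) = 0 := by
  unfold DU
  rw [map_zero, mul_zero, D_zero]

theorem DU_tmul_mul (f : B →ₚₗ[A] A) (A' : Type u) [CommRing A'] [Algebra A A'] (a : A')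
    (c : A' ⊗[A] B) : DU e f A' ((a ⊗ₜ[A] (1 : B)) * c) = a • DU e f A' c := by
  unfold DU
  rw [map_mul, Algebra.TensorProduct.map_tmul, map_one, mul_left_comm, D_smul, Algebra.smul_def]
  rfl

theorem DU_eq_zero_of_mem (f : B →ₚₗ[A] A) (A' : Type u) [CommRing A'] [Algebra A A']
    {c : A' ⊗[A] B} (hc : c ∈ PolLaw.kerBC f A') : DU e f A' c = 0 := by
  have h := hc (Polynomial (MvPolynomial (Fin n ⊕ Fin n) A'))
    (cst[MvPolynomial (Fin n ⊕ Fin n) A'] (xu e A'))
    (((Polynomial.X : Polynomial (MvPolynomial (Fin n ⊕ Fin n) A')) ⊗ₜ[A] (1 : B)) *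
      cst[MvPolynomial (Fin n ⊕ Fin n) A'] (wu e A'))
  rw [toFun'_eq_iff, val_map, Polynomial.CAlgHom_apply] at h
  have e0 : (Polynomial.CAlgHom : MvPolynomial (Fin n ⊕ Fin n) A' →ₐ[A] _).comp
      (IsScalarTower.toAlgHom A A' (MvPolynomial (Fin n ⊕ Fin n) A')) =
      IsScalarTower.toAlgHom A A' (Polynomial (MvPolynomial (Fin n ⊕ Fin n) A')) :=
    AlgHom.ext (fun a => rfl)
  unfold DU D line
  rw [map_mul, map_map_apply, e0, ← mul_assoc, h, Polynomial.coeff_C, if_neg one_ne_zero]

theorem mem_kerBC_of_DU_eq_zero [Algebra ℚ A] (he : Submodule.span A (Set.range e) = ⊤)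
    (f : B →ₚₗ[A] A) (A' : Type u) [CommRing A'] [Algebra A A'] {c : A' ⊗[A] B}
    (h : DU e f A' c = 0) : c ∈ PolLaw.kerBC f A' := by
  intro R _ _ _ _ x w
  rw [toFun'_eq_iff]
  obtain ⟨y, hy⟩ : ∃ y : R ⊗[A] B, y = w * Algebra.TensorProduct.map
      (IsScalarTower.toAlgHom A A' R) (AlgHom.id A B) c := ⟨_, rfl⟩
  rw [← hy]
  obtain ⟨G, hG⟩ : ∃ G : Polynomial R, G = line f R x y := ⟨_, rfl⟩
  have hev : ∀ r : R, Polynomial.eval r G = val f R (x + (r ⊗ₜ[A] (1 : B)) * y) := by
    intro r
    rw [hG]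
    exact eval_val_line f R x y r
  have hder : Polynomial.derivative G = 0 := by
    obtain ⟨x₂, hx₂⟩ : ∃ x₂ : Polynomial R ⊗[A] B, x₂ = cst[R] x +
        ((Polynomial.X : Polynomial R) ⊗ₜ[A] (1 : B)) * cst[R] y := ⟨_, rfl⟩
    have hA : D f (Polynomial R) x₂ (cst[R] y) = 0 := by
      obtain ⟨s, hs⟩ := exists_rep e he (Polynomial R) x₂
      obtain ⟨s', hs'⟩ := exists_rep e he (Polynomial R) (cst[R] w)
      have e0 : (Polynomial.CAlgHom : R →ₐ[A] Polynomial R).comp (IsScalarTower.toAlgHom A A' R) =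
          IsScalarTower.toAlgHom A A' (Polynomial R) := AlgHom.ext (fun a => rfl)
      have e1 : cst[R] y = (∑ i, s' i ⊗ₜ[A] e i) * Algebra.TensorProduct.map
          (IsScalarTower.toAlgHom A A' (Polynomial R)) (AlgHom.id A B) c := by
        rw [hy, map_mul, hs', map_map_apply, e0]
      rw [hs, e1, D_eq_eval, h, map_zero]
    have hB : D f (Polynomial R) x₂ (cst[R] y) = Polynomial.derivative G := by
      have hθ := ev2_line f ((Polynomial.CAlgHom : Polynomial R →ₐ[A] Polynomial (Polynomial R)).comp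
        (Polynomial.CAlgHom : R →ₐ[A] Polynomial R))
        (Polynomial.X + Polynomial.C Polynomial.X : Polynomial (Polynomial R)) x y
      have earg : cst[Polynomial R] x₂ +
          ((Polynomial.X : Polynomial (Polynomial R)) ⊗ₜ[A] (1 : B)) * cst[Polynomial R] (cst[R] y) =
          Algebra.TensorProduct.map ((Polynomial.CAlgHom : Polynomial R →ₐ[A]
            Polynomial (Polynomial R)).comp (Polynomial.CAlgHom : R →ₐ[A] Polynomial R))
            (AlgHom.id A B) x +
          ((Polynomial.X + Polynomial.C Polynomial.X : Polynomial (Polynomial R)) ⊗ₜ[A] (1 : B)) *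
          Algebra.TensorProduct.map ((Polynomial.CAlgHom : Polynomial R →ₐ[A]
            Polynomial (Polynomial R)).comp (Polynomial.CAlgHom : R →ₐ[A] Polynomial R))
            (AlgHom.id A B) y := by
        rw [hx₂, map_add, map_mul, Algebra.TensorProduct.map_tmul, Polynomial.CAlgHom_apply,
          AlgHom.id_apply, map_map_apply, map_map_apply, TensorProduct.add_tmul, add_mul]
        abel
      have e2 : line f (Polynomial R) x₂ (cst[R] y) =
          ev2 ((Polynomial.CAlgHom : Polynomial R →ₐ[A] Polynomial (Polynomial R)).comp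
            (Polynomial.CAlgHom : R →ₐ[A] Polynomial R))
            (Polynomial.X + Polynomial.C Polynomial.X : Polynomial (Polynomial R)) G := by
        rw [hG, hθ, ← earg]
        rfl
      have e3 : ev2 ((Polynomial.CAlgHom : Polynomial R →ₐ[A] Polynomial (Polynomial R)).comp
            (Polynomial.CAlgHom : R →ₐ[A] Polynomial R))
            (Polynomial.X + Polynomial.C Polynomial.X : Polynomial (Polynomial R)) G =
          Polynomial.taylor (Polynomial.X : Polynomial R) (G.map Polynomial.C) := by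
        rw [Polynomial.taylor_apply, Polynomial.comp, Polynomial.eval₂_map]
        rfl
      unfold D
      rw [e2, e3, Polynomial.taylor_coeff_one, Polynomial.derivative_map, Polynomial.eval_map,
        Polynomial.eval₂_C_X]
    rw [← hB, hA]
  have hc : ∀ k : ℕ, G.coeff (k + 1) = 0 := by
    intro k
    have h1 := congrArg (fun p => Polynomial.coeff p k) hder
    simp only [Polynomial.coeff_derivative, Polynomial.coeff_zero] at h1
    have hu : ((k : R) + 1) * algebraMap A R (algebraMap ℚ A ((k : ℚ) + 1)⁻¹) = 1 := by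
      have h2 : ((k : R) + 1) = algebraMap A R (algebraMap ℚ A ((k : ℚ) + 1)) := by simp
      rw [h2, ← map_mul, ← map_mul, mul_inv_cancel₀ (by positivity), map_one, map_one]
    calc G.coeff (k + 1) = G.coeff (k + 1) * (((k : R) + 1) *
          algebraMap A R (algebraMap ℚ A ((k : ℚ) + 1)⁻¹)) := by rw [hu, mul_one]
      _ = 0 := by rw [← mul_assoc, h1, zero_mul]
  have hconst : ∀ r : R, Polynomial.eval r G = G.coeff 0 := by
    intro r
    rw [Polynomial.eval_eq_sum_range, Finset.sum_range_succ', pow_zero, mul_one,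
      Finset.sum_eq_zero, zero_add]
    intro k _
    rw [hc k, zero_mul]
  have h1 := hev 1
  have h0 := hev 0
  rw [hconst] at h1 h0
  rw [TensorProduct.zero_tmul, zero_mul, add_zero] at h0
  rw [← Algebra.TensorProduct.one_def, one_mul] at h1
  rw [← h1, h0]

end DerivUniv

end Groth.Agent.H76.PolLawBC
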