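import Mathlib

set_option autoImplicit false
set_option linter.unusedSectionVars false
set_option linter.unusedVariables false
set_option linter.style.longLine false

universe u

/-!
# The polynomial node `V[X₀,X₁]/(X₀X₁ - ϖ)` and its localisations `B = Q[1/h]`

Normal forms, the two "branch" homomorphisms to `k⟦T⟧`, the Euler derivation
(`X₀ ↦ X₀`, `X₁ ↦ -X₁`), and consequences of generic unramifiedness.
-/

namespace Groth.Agent.H76.PolyNode

open MvPolynomial

/-! ### Fin 2 helpers -/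

theorem fin2_cases {i j : Fin 2} (h : i ≠ j) (k : Fin 2) : k = i ∨ k = j := by
  have h1 := k.isLt
  have h2 := i.isLt
  have h3 := j.isLt
  rw [Ne, Fin.ext_iff] at h
  rw [Fin.ext_iff, Fin.ext_iff]
  omega

theorem exists_ne (i : Fin 2) : ∃ j : Fin 2, i ≠ j := by
  fin_cases i
  · exact ⟨1, by decide⟩
  · exact ⟨0, by decide⟩

theorem exists_ne' (j : Fin 2) : ∃ i : Fin 2, i ≠ j := by
  obtain ⟨i, hi⟩ := exists_ne j
  exact ⟨i, hi.symm⟩

/-! ### signs -/

/-- the weight of the variable `X l` : `+1` for `l = 0`, `-1` for `l = 1` -/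
def sg (R : Type*) [Ring R] (l : Fin 2) : R := if l = 0 then 1 else -1

theorem sg_zero (R : Type*) [Ring R] : sg R 0 = 1 := by
  unfold sg
  rw [if_pos rfl]

theorem sg_one (R : Type*) [Ring R] : sg R 1 = -1 := by
  unfold sg
  rw [if_neg (by decide)]

theorem map_sg {R S : Type*} [Ring R] [Ring S] (φ : R →+* S) (l : Fin 2) :
    φ (sg R l) = sg S l := by
  unfold sg
  split_ifs <;> simp

theorem sg_ne_zero (R : Type*) [Ring R] [Nontrivial R] (l : Fin 2) : sg R l ≠ 0 := by
  unfold sg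
  split_ifs <;> simp

/-! ### a divisibility lemma -/

theorem isUnit_of_mul_eq {B : Type*} [CommRing B] (x y : B)
    (hpx : ∀ a b, x ∣ a * b → x ∣ a ∨ x ∣ b) (hpy : ∀ a b, y ∣ a * b → y ∣ a ∨ y ∣ b)
    (hcx : ∀ b, x * b = 0 → b = 0) (hcy : ∀ b, y * b = 0 → b = 0)
    (g : B) (hgx : ¬ x ∣ g) (hgy : ¬ y ∣ g) :
    ∀ (n a b : ℕ) (g' : B), a + b = n → g * g' = x ^ a * y ^ b → IsUnit g := by
  intro n
  induction n with
  | zero =>
    intro a b g' hab hg
    have ha : a = 0 := by omega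
    have hb : b = 0 := by omega
    subst ha hb
    rw [pow_zero, pow_zero, mul_one] at hg
    exact IsUnit.of_mul_eq_one g' hg
  | succ n ih =>
    intro a b g' hab hg
    rcases Nat.eq_zero_or_pos a with ha | ha
    · subst ha
      have hb : b = n + 1 := by omega
      subst hb
      have h1 : y ∣ g * g' := ⟨y ^ n, by rw [hg, pow_zero, one_mul, pow_succ']⟩
      rcases hpy _ _ h1 with h2 | ⟨g'', rfl⟩
      · exact absurd h2 hgy
      · apply ih 0 n g'' (by omega)
        have h3 : y * (g * g'' - x ^ 0 * y ^ n) = 0 := by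
          have h4 : y * (g * g'') = x ^ 0 * y ^ (n + 1) := by rw [← hg]; ring
          rw [mul_sub, h4, pow_succ]; ring
        exact sub_eq_zero.mp (hcy _ h3)
    · obtain ⟨a', rfl⟩ : ∃ a', a = a' + 1 := ⟨a - 1, by omega⟩
      have h1 : x ∣ g * g' := ⟨x ^ a' * y ^ b, by rw [hg, pow_succ']; ring⟩
      rcases hpx _ _ h1 with h2 | ⟨g'', rfl⟩
      · exact absurd h2 hgx
      · apply ih a' b g'' (by omega)
        have h3 : x * (g * g'' - x ^ a' * y ^ b) = 0 := by
          have h4 : x * (g * g'') = x ^ (a' + 1) * y ^ b := by rw [← hg]; ring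
          rw [mul_sub, h4, pow_succ]; ring
        exact sub_eq_zero.mp (hcx _ h3)

/-! ### extending a derivation to a localisation -/

theorem exists_der_loc {V Q : Type u} [CommRing V] [CommRing Q] [Algebra V Q] (h : Q)
    (B : Type u) [CommRing B] [Algebra Q B] [Algebra V B] [IsScalarTower V Q B]
    [IsLocalization.Away h B] (d : Derivation V Q Q) :
    ∃ δ : Derivation V B B, ∀ a, δ (algebraMap Q B a) = algebraMap Q B (d a) := by
  let dB : Derivation V Q B := (Algebra.linearMap Q B).compDer d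
  let l0 : KaehlerDifferential V Q →ₗ[Q] B := dB.liftKaehlerDifferential
  haveI : IsLocalizedModule (Submonoid.powers h) (Algebra.linearMap Q B) :=
    isLocalizedModule_iff_isLocalization.mpr inferInstance
  have hu : ∀ s : Submonoid.powers h, IsUnit (algebraMap Q (Module.End Q B) s) :=
    IsLocalizedModule.map_units (Algebra.linearMap Q B)
  let l1 : KaehlerDifferential V B →ₗ[Q] B :=
    IsLocalizedModule.lift (Submonoid.powers h) (KaehlerDifferential.map V V Q B) l0 hu
  let l2 : KaehlerDifferential V B →ₗ[B] B :=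
    l1.extendScalarsOfIsLocalization (Submonoid.powers h) B
  refine ⟨l2.compDer (KaehlerDifferential.D V B), fun a => ?_⟩
  show l1 (KaehlerDifferential.D V B (algebraMap Q B a)) = _
  rw [← KaehlerDifferential.map_D V V Q B, IsLocalizedModule.lift_apply]
  show dB.liftKaehlerDifferential (KaehlerDifferential.D V Q a) = _
  rw [Derivation.liftKaehlerDifferential_comp_D]
  rfl

/-! ### consequence of generic unramifiedness -/

theorem dvd_of_unramified {V B : Type u} [CommRing V] [CommRing B] [Algebra V B]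
    (f : B) (δ : Derivation V B B) (x : B) (ϖB : B)
    (B' : Type u) [CommRing B'] [Algebra B B'] [IsLocalization.Away ϖB B']
    (hf : ((algebraMap B B').comp
      (Polynomial.aeval f : Polynomial V →ₐ[V] B).toRingHom).FormallyUnramified) :
    ∃ N : ℕ, δ f ∣ ϖB ^ N * δ x := by
  letI algAB : Algebra (Polynomial V) B :=
    (Polynomial.aeval f : Polynomial V →ₐ[V] B).toRingHom.toAlgebra
  letI algAB' : Algebra (Polynomial V) B' :=
    ((algebraMap B B').comp (Polynomial.aeval f : Polynomial V →ₐ[V] B).toRingHom).toAlgebra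
  haveI tower : IsScalarTower (Polynomial V) B B' := IsScalarTower.of_algebraMap_eq (fun _ => rfl)
  haveI hunr : Algebra.FormallyUnramified (Polynomial V) B' := hf
  have h0 : KaehlerDifferential.map (Polynomial V) (Polynomial V) B B'
      (KaehlerDifferential.D (Polynomial V) B x) = 0 := Subsingleton.elim _ _
  obtain ⟨⟨c, N, rfl⟩, hc⟩ := (IsLocalizedModule.eq_zero_iff (Submonoid.powers ϖB)
    (KaehlerDifferential.map (Polynomial V) (Polynomial V) B B')).mp h0
  rw [Submonoid.smul_def] at hc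
  let d' : Derivation (Polynomial V) B (B ⧸ Ideal.span {δ f}) :=
    { toLinearMap :=
        { toFun := fun b => Ideal.Quotient.mk (Ideal.span {δ f}) (δ b)
          map_add' := fun a b => by rw [map_add, map_add]
          map_smul' := fun p b => by
            have hpb : p • b = Polynomial.aeval f p * b := Algebra.smul_def p b
            have h1 : δ (p • b) = Polynomial.aeval f p * δ b
                + (b * Polynomial.aeval f (Polynomial.derivative p)) * δ f := by
              rw [hpb, Derivation.leibniz, Derivation.map_aeval]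
              simp only [smul_eq_mul]
              ring
            have h2 : Ideal.Quotient.mk (Ideal.span {δ f}) (δ (p • b))
                = Ideal.Quotient.mk (Ideal.span {δ f}) (Polynomial.aeval f p * δ b) := by
              rw [h1, map_add]
              have h3 : Ideal.Quotient.mk (Ideal.span {δ f})
                  ((b * Polynomial.aeval f (Polynomial.derivative p)) * δ f) = 0 :=
                Ideal.Quotient.eq_zero_iff_mem.mpr
                  (Ideal.mul_mem_left _ _ (Ideal.subset_span rfl))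
              rw [h3, add_zero]
            show Ideal.Quotient.mk (Ideal.span {δ f}) (δ (p • b))
              = p • Ideal.Quotient.mk (Ideal.span {δ f}) (δ b)
            rw [h2]
            rfl }
      map_one_eq_zero' := by
        show Ideal.Quotient.mk (Ideal.span {δ f}) (δ 1) = 0
        rw [Derivation.map_one_eq_zero, map_zero]
      leibniz' := fun a b => by
        show Ideal.Quotient.mk (Ideal.span {δ f}) (δ (a * b))
          = a • Ideal.Quotient.mk (Ideal.span {δ f}) (δ b)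
            + b • Ideal.Quotient.mk (Ideal.span {δ f}) (δ a)
        rw [Derivation.leibniz, map_add]
        rfl }
  have h3 := congrArg d'.liftKaehlerDifferential hc
  rw [map_smul, Derivation.liftKaehlerDifferential_comp_D, map_zero] at h3
  have h4 : Ideal.Quotient.mk (Ideal.span {δ f}) (ϖB ^ N * δ x) = 0 := h3
  exact ⟨N, Ideal.mem_span_singleton.mp (Ideal.Quotient.eq_zero_iff_mem.mp h4)⟩

/-! ### polynomial level -/

section PolyLevel

variable {V : Type u} [CommRing V]

/-- `e j` : the ring hom `V[X₀,X₁] → V[T]` with `X j ↦ T` and the other variable `↦ 0`. -/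
noncomputable def e (j : Fin 2) : MvPolynomial (Fin 2) V →+* Polynomial V :=
  eval₂Hom Polynomial.C (fun l => if l = j then Polynomial.X else 0)

theorem e_C (j : Fin 2) (a : V) : e j (C a) = Polynomial.C a := by
  simp [e]

theorem e_X_same (j : Fin 2) : e j (X j : MvPolynomial (Fin 2) V) = Polynomial.X := by
  simp [e]

theorem e_X_ne {i j : Fin 2} (h : i ≠ j) : e j (X i : MvPolynomial (Fin 2) V) = 0 := by
  simp [e, h]

theorem e_aeval (j : Fin 2) (r : Polynomial V) :
    e j (Polynomial.aeval (X j : MvPolynomial (Fin 2) V) r) = r := by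
  have h : (e j).comp (Polynomial.aeval (X j : MvPolynomial (Fin 2) V)).toRingHom
      = RingHom.id _ := by
    apply Polynomial.ringHom_ext
    · intro a
      simp [e_C, MvPolynomial.algebraMap_eq]
    · simp [e_X_same]
  exact RingHom.congr_fun h r

theorem nf_P {i j : Fin 2} (hij : i ≠ j) (c : MvPolynomial (Fin 2) V) :
    ∃ (c' : MvPolynomial (Fin 2) V) (r : Polynomial V),
      c = X i * c' + Polynomial.aeval (X j : MvPolynomial (Fin 2) V) r := by
  induction c using MvPolynomial.induction_on with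
  | C a => exact ⟨0, Polynomial.C a, by simp [MvPolynomial.algebraMap_eq]⟩
  | add p q hp hq =>
    obtain ⟨p', r, rfl⟩ := hp
    obtain ⟨q', s, rfl⟩ := hq
    refine ⟨p' + q', r + s, ?_⟩
    rw [map_add]
    ring
  | mul_X p l hp =>
    obtain ⟨p', r, rfl⟩ := hp
    rcases fin2_cases hij l with rfl | rfl
    · exact ⟨_, 0, by rw [map_zero, add_zero, mul_comm]⟩
    · refine ⟨p' * X l, r * Polynomial.X, ?_⟩
      rw [map_mul, Polynomial.aeval_X]
      ring

theorem X_dvd_of_e_eq_zero {i j : Fin 2} (hij : i ≠ j) (c : MvPolynomial (Fin 2) V)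
    (hc : e j c = 0) : (X i : MvPolynomial (Fin 2) V) ∣ c := by
  obtain ⟨c', r, rfl⟩ := nf_P hij c
  rw [map_add, map_mul, e_X_ne hij, zero_mul, zero_add, e_aeval] at hc
  rw [hc, map_zero, add_zero]
  exact dvd_mul_right _ _

variable (ϖ : V)

/-- the node relation -/
noncomputable abbrev rel : MvPolynomial (Fin 2) V := X 0 * X 1 - C ϖ

/-- the ideal of the node relation -/
noncomputable abbrev J : Ideal (MvPolynomial (Fin 2) V) := Ideal.span {rel ϖ}

/-- the node algebra -/
abbrev Q : Type u := MvPolynomial (Fin 2) V ⧸ J ϖ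

theorem e_rel (j : Fin 2) : e j (rel ϖ) = - Polynomial.C ϖ := by
  rw [map_sub, map_mul, e_C]
  rcases fin2_cases (show (0 : Fin 2) ≠ 1 by decide) j with rfl | rfl
  · rw [e_X_ne (show (1 : Fin 2) ≠ 0 by decide)]
    ring
  · rw [e_X_ne (show (0 : Fin 2) ≠ 1 by decide)]
    ring

/-- the generators -/
noncomputable def gen (i : Fin 2) : Q ϖ := Ideal.Quotient.mk (J ϖ) (X i)

theorem mk_C (a : V) : Ideal.Quotient.mk (J ϖ) (C a) = algebraMap V (Q ϖ) a := rfl

theorem gen_mul : gen ϖ 0 * gen ϖ 1 = algebraMap V (Q ϖ) ϖ := by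
  have h : Ideal.Quotient.mk (J ϖ) (rel ϖ) = 0 :=
    Ideal.Quotient.eq_zero_iff_mem.mpr (Ideal.subset_span rfl)
  rw [map_sub, sub_eq_zero, map_mul] at h
  rw [← mk_C]
  exact h

theorem gen_mul' {i j : Fin 2} (hij : i ≠ j) : gen ϖ i * gen ϖ j = algebraMap V (Q ϖ) ϖ := by
  fin_cases i <;> fin_cases j
  · exact absurd rfl hij
  · exact gen_mul ϖ
  · rw [mul_comm]; exact gen_mul ϖ
  · exact absurd rfl hij

theorem gen_mem (l : Fin 2) : gen ϖ l ∈ Ideal.span ({gen ϖ 0, gen ϖ 1} : Set (Q ϖ)) := by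
  apply Ideal.subset_span
  fin_cases l
  · exact Set.mem_insert _ _
  · exact Set.mem_insert_of_mem _ rfl

theorem nf_Q {i j : Fin 2} (hij : i ≠ j) (q : Q ϖ) :
    ∃ (q' : Q ϖ) (r : Polynomial V), q = gen ϖ i * q' + Polynomial.aeval (gen ϖ j) r := by
  obtain ⟨c, rfl⟩ := Ideal.Quotient.mk_surjective q
  obtain ⟨c', r, rfl⟩ := nf_P hij c
  refine ⟨Ideal.Quotient.mk _ c', r, ?_⟩
  rw [map_add, map_mul]
  congr 1
  exact (Polynomial.aeval_algHom_apply (Ideal.Quotient.mkₐ V (J ϖ)) (X j) r).symm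

theorem gen_cancel [IsDomain V] (hϖ0 : ϖ ≠ 0) (i : Fin 2) (q : Q ϖ) (hq : gen ϖ i * q = 0) :
    q = 0 := by
  obtain ⟨j, hij⟩ := exists_ne i
  obtain ⟨p, rfl⟩ := Ideal.Quotient.mk_surjective q
  have h1 : X i * p ∈ J ϖ := by
    rw [← Ideal.Quotient.eq_zero_iff_mem, map_mul]
    exact hq
  obtain ⟨c, hc⟩ := Ideal.mem_span_singleton'.mp h1
  have h2 : e j c = 0 := by
    have h3 := congrArg (e j) hc
    rw [map_mul, map_mul, e_X_ne hij, zero_mul, e_rel] at h3
    rcases mul_eq_zero.mp h3 with h | h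
    · exact h
    · exfalso
      rw [neg_eq_zero, Polynomial.C_eq_zero] at h
      exact hϖ0 h
  obtain ⟨c', rfl⟩ := X_dvd_of_e_eq_zero hij c h2
  have h4 : p = c' * rel ϖ := by
    have hX : (X i : MvPolynomial (Fin 2) V) ≠ 0 := MvPolynomial.X_ne_zero i
    apply mul_left_cancel₀ hX
    rw [← hc]
    ring
  rw [h4]
  exact Ideal.Quotient.eq_zero_iff_mem.mpr (Ideal.mul_mem_left _ _ (Ideal.subset_span rfl))

/-! ### the Euler derivation -/

/-- the Euler derivation on the polynomial ring -/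
noncomputable def deltaP : Derivation V (MvPolynomial (Fin 2) V) (MvPolynomial (Fin 2) V) :=
  mkDerivation V (fun l => sg (MvPolynomial (Fin 2) V) l * X l)

theorem deltaP_X (l : Fin 2) :
    deltaP (X l : MvPolynomial (Fin 2) V) = sg (MvPolynomial (Fin 2) V) l * X l :=
  mkDerivation_X V _ l

theorem deltaP_rel : deltaP (rel ϖ) = 0 := by
  rw [map_sub, Derivation.leibniz, deltaP_X, deltaP_X, MvPolynomial.derivation_C, sg_zero, sg_one]
  simp only [smul_eq_mul]
  ring

theorem deltaP_mem (p : MvPolynomial (Fin 2) V) (hp : Ideal.Quotient.mkₐ V (J ϖ) p = 0) :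
    Ideal.Quotient.mkₐ V (J ϖ) (deltaP p) = 0 := by
  rw [Ideal.Quotient.mkₐ_eq_mk, Ideal.Quotient.eq_zero_iff_mem] at hp ⊢
  obtain ⟨c, rfl⟩ := Ideal.mem_span_singleton'.mp hp
  rw [Derivation.leibniz, deltaP_rel, smul_zero, zero_add, smul_eq_mul]
  exact Ideal.mul_mem_right _ _ (Ideal.subset_span rfl)

/-- the Euler derivation on the node algebra -/
noncomputable def deltaQ : Derivation V (Q ϖ) (Q ϖ) :=
  Derivation.liftOfSurjective (f := Ideal.Quotient.mkₐ V (J ϖ))
    (Ideal.Quotient.mkₐ_surjective V (J ϖ)) (d := deltaP) (deltaP_mem ϖ)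

theorem deltaQ_mk (p : MvPolynomial (Fin 2) V) :
    deltaQ ϖ (Ideal.Quotient.mk (J ϖ) p) = Ideal.Quotient.mk (J ϖ) (deltaP p) :=
  Derivation.liftOfSurjective_apply (f := Ideal.Quotient.mkₐ V (J ϖ))
    (Ideal.Quotient.mkₐ_surjective V (J ϖ)) (deltaP_mem ϖ) p

theorem deltaQ_gen (l : Fin 2) : deltaQ ϖ (gen ϖ l) = sg (Q ϖ) l * gen ϖ l := by
  show deltaQ ϖ (Ideal.Quotient.mk (J ϖ) (X l)) = _
  rw [deltaQ_mk, deltaP_X, map_mul, map_sg]
  rfl

end PolyLevel

/-! ### the branch homomorphisms -/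

section Branch

variable {V : Type u} [CommRing V] [IsLocalRing V] (ϖ : V)

/-- `V[X₀,X₁] → k⟦T⟧` : `X j ↦ T`, the other variable to `0`, coefficients reduced. -/
noncomputable def psiP (j : Fin 2) :
    MvPolynomial (Fin 2) V →+* PowerSeries (IsLocalRing.ResidueField V) :=
  (Polynomial.coeToPowerSeries.ringHom).comp
    ((Polynomial.mapRingHom (IsLocalRing.residue V)).comp (e j))

theorem psiP_apply (j : Fin 2) (c : MvPolynomial (Fin 2) V) :
    psiP j c = (((e j c).map (IsLocalRing.residue V) : Polynomial (IsLocalRing.ResidueField V)) :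
      PowerSeries (IsLocalRing.ResidueField V)) := rfl

theorem psiP_rel (hϖ : ϖ ∈ IsLocalRing.maximalIdeal V) (j : Fin 2) : psiP j (rel ϖ) = 0 := by
  rw [psiP_apply, e_rel]
  simp [(IsLocalRing.residue_eq_zero_iff ϖ).mpr hϖ]

/-- the branch homomorphism `Q → k⟦T⟧` -/
noncomputable def psi (hϖ : ϖ ∈ IsLocalRing.maximalIdeal V) (j : Fin 2) :
    Q ϖ →+* PowerSeries (IsLocalRing.ResidueField V) :=
  Ideal.Quotient.lift (J ϖ) (psiP j) (by
    intro a ha
    obtain ⟨c, rfl⟩ := Ideal.mem_span_singleton'.mp ha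
    rw [map_mul, psiP_rel ϖ hϖ, mul_zero])

variable (hϖ : ϖ ∈ IsLocalRing.maximalIdeal V)

theorem psi_mk (j : Fin 2) (c : MvPolynomial (Fin 2) V) :
    psi ϖ hϖ j (Ideal.Quotient.mk (J ϖ) c) = psiP j c := rfl

theorem psi_gen_same (j : Fin 2) : psi ϖ hϖ j (gen ϖ j) = PowerSeries.X := by
  show psiP j (X j) = _
  rw [psiP_apply, e_X_same, Polynomial.map_X, Polynomial.coe_X]

theorem psi_gen_ne {i j : Fin 2} (h : i ≠ j) : psi ϖ hϖ j (gen ϖ i) = 0 := by
  show psiP j (X i) = _
  rw [psiP_apply, e_X_ne h, Polynomial.map_zero, Polynomial.coe_zero]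

theorem psi_algebraMap (j : Fin 2) (a : V) :
    psi ϖ hϖ j (algebraMap V (Q ϖ) a) = PowerSeries.C (IsLocalRing.residue V a) := by
  show psiP j (C a) = _
  rw [psiP_apply, e_C, Polynomial.map_C, Polynomial.coe_C]

theorem gen_dvd_of_psi_eq_zero (hm : IsLocalRing.maximalIdeal V = Ideal.span {ϖ})
    {i j : Fin 2} (hij : i ≠ j) (q : Q ϖ) (hq : psi ϖ hϖ j q = 0) : gen ϖ i ∣ q := by
  obtain ⟨c, rfl⟩ := Ideal.Quotient.mk_surjective q
  obtain ⟨c', r, rfl⟩ := nf_P hij c
  rw [psi_mk, psiP_apply, Polynomial.coe_eq_zero_iff] at hq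
  rw [map_add, map_mul, e_X_ne hij, zero_mul, zero_add, e_aeval] at hq
  have h2 : Polynomial.C ϖ ∣ r := by
    rw [Polynomial.C_dvd_iff_dvd_coeff]
    intro n
    have h3 : IsLocalRing.residue V (r.coeff n) = 0 := by
      rw [← Polynomial.coeff_map, hq, Polynomial.coeff_zero]
    rw [IsLocalRing.residue_eq_zero_iff, hm, Ideal.mem_span_singleton] at h3
    exact h3
  obtain ⟨r', rfl⟩ := h2
  rw [map_add, map_mul]
  apply dvd_add (dvd_mul_right _ _)
  rw [map_mul, Polynomial.aeval_C, map_mul]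
  apply Dvd.dvd.mul_right
  have h5 : Ideal.Quotient.mk (J ϖ) (algebraMap V (MvPolynomial (Fin 2) V) ϖ)
      = gen ϖ i * gen ϖ j := (gen_mul' ϖ hij).symm
  rw [h5]
  exact dvd_mul_right _ _

theorem constantCoeff_psi_ne_zero (hm : IsLocalRing.maximalIdeal V = Ideal.span {ϖ})
    (j : Fin 2) (q : Q ϖ) (hq : q ∉ Ideal.span ({gen ϖ 0, gen ϖ 1} : Set (Q ϖ))) :
    PowerSeries.constantCoeff (psi ϖ hϖ j q) ≠ 0 := by
  intro h0
  apply hq
  obtain ⟨i, hij⟩ := exists_ne' j
  obtain ⟨q', r, rfl⟩ := nf_Q ϖ hij q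
  have hr : r = Polynomial.divX r * Polynomial.X + Polynomial.C (r.coeff 0) :=
    (Polynomial.divX_mul_X_add r).symm
  have h1 : Polynomial.aeval (gen ϖ j) r
      = Polynomial.aeval (gen ϖ j) (Polynomial.divX r) * gen ϖ j
        + algebraMap V (Q ϖ) (r.coeff 0) := by
    conv_lhs => rw [hr]
    rw [map_add, map_mul, Polynomial.aeval_X, Polynomial.aeval_C]
  rw [h1] at h0 ⊢
  simp only [map_add, map_mul, psi_gen_ne ϖ hϖ hij, psi_gen_same, psi_algebraMap, zero_mul,
    zero_add, PowerSeries.constantCoeff_X, mul_zero, PowerSeries.constantCoeff_C] at h0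
  rw [IsLocalRing.residue_eq_zero_iff, hm, Ideal.mem_span_singleton] at h0
  obtain ⟨v', hv'⟩ := h0
  refine Ideal.add_mem _ (Ideal.mul_mem_right _ _ (gen_mem ϖ i))
    (Ideal.add_mem _ (Ideal.mul_mem_left _ _ (gen_mem ϖ j)) ?_)
  rw [hv', map_mul, ← gen_mul' ϖ hij, mul_assoc]
  exact Ideal.mul_mem_right _ _ (gen_mem ϖ i)

end Branch

/-! ### the localisation `B = Q[1/h]` -/

section Loc

variable {V : Type u} [CommRing V] (ϖ : V)
  (B : Type u) [CommRing B] [Algebra (Q ϖ) B] [Algebra V B] [IsScalarTower V (Q ϖ) B]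
  (h : Q ϖ) [IsLocalization.Away h B]

include h in
theorem B_induction {Pred : B → Prop}
    (hC : ∀ v : V, Pred (algebraMap V B v))
    (hX : ∀ i : Fin 2, Pred (algebraMap (Q ϖ) B (gen ϖ i)))
    (hadd : ∀ a b, Pred a → Pred b → Pred (a + b))
    (hmul : ∀ a b, Pred a → Pred b → Pred (a * b))
    (hdiv : ∀ b s, Pred (b * s) → Pred s → IsUnit s → Pred b) : ∀ b, Pred b := by
  have hQ : ∀ a : Q ϖ, Pred (algebraMap (Q ϖ) B a) := by
    intro a
    obtain ⟨p, rfl⟩ := Ideal.Quotient.mk_surjective a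
    induction p using MvPolynomial.induction_on with
    | C v =>
      have h1 : algebraMap (Q ϖ) B (Ideal.Quotient.mk (J ϖ) (C v)) = algebraMap V B v := by
        rw [mk_C, ← IsScalarTower.algebraMap_apply]
      rw [h1]
      exact hC v
    | add p q hp hq =>
      rw [map_add, map_add]
      exact hadd _ _ hp hq
    | mul_X p l hp =>
      rw [map_mul, map_mul]
      exact hmul _ _ hp (hX l)
  intro b
  obtain ⟨a, s, rfl⟩ := IsLocalization.exists_mk'_eq (Submonoid.powers h) b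
  apply hdiv _ (algebraMap (Q ϖ) B s)
  · rw [IsLocalization.mk'_spec]
    exact hQ a
  · exact hQ s
  · exact IsLocalization.map_units B s

theorem genB_mem (l : Fin 2) : algebraMap (Q ϖ) B (gen ϖ l) ∈
    Ideal.span ({algebraMap (Q ϖ) B (gen ϖ 0), algebraMap (Q ϖ) B (gen ϖ 1)} : Set B) := by
  apply Ideal.subset_span
  fin_cases l
  · exact Set.mem_insert _ _
  · exact Set.mem_insert_of_mem _ rfl

theorem genB_mul {i j : Fin 2} (hij : i ≠ j) :
    algebraMap (Q ϖ) B (gen ϖ i) * algebraMap (Q ϖ) B (gen ϖ j) = algebraMap V B ϖ := by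
  rw [← map_mul, gen_mul' ϖ hij, ← IsScalarTower.algebraMap_apply]

include h in
theorem genB_cancel [IsDomain V] (hϖ0 : ϖ ≠ 0) (i : Fin 2) (b : B)
    (hb : algebraMap (Q ϖ) B (gen ϖ i) * b = 0) : b = 0 := by
  obtain ⟨a, s, rfl⟩ := IsLocalization.exists_mk'_eq (Submonoid.powers h) b
  rw [IsLocalization.mul_mk'_eq_mk'_of_mul, IsLocalization.mk'_eq_zero_iff] at hb
  obtain ⟨m, hm⟩ := hb
  have h1 : gen ϖ i * (↑m * a) = 0 := by
    rw [← hm]
    ring
  have h2 := gen_cancel ϖ hϖ0 i _ h1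
  rw [IsLocalization.mk'_eq_zero_iff]
  exact ⟨m, h2⟩

/-! derivations on `B` extending the Euler derivation -/

include h in
theorem exists_deltaB :
    ∃ δ : Derivation V B B, ∀ a, δ (algebraMap (Q ϖ) B a) = algebraMap (Q ϖ) B (deltaQ ϖ a) :=
  exists_der_loc h B (deltaQ ϖ)

variable (δ : Derivation V B B)
  (hδ : ∀ a, δ (algebraMap (Q ϖ) B a) = algebraMap (Q ϖ) B (deltaQ ϖ a))

include hδ in
theorem delta_genB (l : Fin 2) :
    δ (algebraMap (Q ϖ) B (gen ϖ l)) = sg B l * algebraMap (Q ϖ) B (gen ϖ l) := by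
  rw [hδ, deltaQ_gen, map_mul, map_sg]

include h hδ in
theorem delta_mem (b : B) : δ b ∈
    Ideal.span ({algebraMap (Q ϖ) B (gen ϖ 0), algebraMap (Q ϖ) B (gen ϖ 1)} : Set B) := by
  refine B_induction ϖ B h (Pred := fun b => δ b ∈ Ideal.span
    ({algebraMap (Q ϖ) B (gen ϖ 0), algebraMap (Q ϖ) B (gen ϖ 1)} : Set B)) ?_ ?_ ?_ ?_ ?_ b
  · intro v
    show δ (algebraMap V B v) ∈ _
    rw [Derivation.map_algebraMap]
    exact Ideal.zero_mem _
  · intro l
    show δ (algebraMap (Q ϖ) B (gen ϖ l)) ∈ _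
    rw [delta_genB ϖ B δ hδ]
    exact Ideal.mul_mem_left _ _ (genB_mem ϖ B l)
  · intro a b ha hb
    show δ (a + b) ∈ _
    rw [map_add]
    exact Ideal.add_mem _ ha hb
  · intro a b ha hb
    show δ (a * b) ∈ _
    rw [Derivation.leibniz]
    exact Ideal.add_mem _ (Ideal.mul_mem_left _ _ hb) (Ideal.mul_mem_left _ _ ha)
  · intro b s hbs hs hu
    show δ b ∈ _
    replace hbs : δ (b * s) ∈ Ideal.span
      ({algebraMap (Q ϖ) B (gen ϖ 0), algebraMap (Q ϖ) B (gen ϖ 1)} : Set B) := hbs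
    replace hs : δ s ∈ Ideal.span
      ({algebraMap (Q ϖ) B (gen ϖ 0), algebraMap (Q ϖ) B (gen ϖ 1)} : Set B) := hs
    rw [Derivation.leibniz] at hbs
    have h1 : s • δ b ∈ Ideal.span
        ({algebraMap (Q ϖ) B (gen ϖ 0), algebraMap (Q ϖ) B (gen ϖ 1)} : Set B) := by
      have h2 := Ideal.sub_mem _ hbs (Ideal.mul_mem_left _ b hs)
      rwa [smul_eq_mul, add_sub_cancel_left] at h2
    obtain ⟨t, ht⟩ := hu.exists_left_inv
    have h3 : δ b = t * (s • δ b) := by
      rw [smul_eq_mul, ← mul_assoc, ht, one_mul]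
    rw [h3]
    exact Ideal.mul_mem_left _ _ h1

end Loc

/-! ### branch homomorphisms on `B` -/

section LocBranch

variable {V : Type u} [CommRing V] [IsLocalRing V] (ϖ : V)
  (hϖ : ϖ ∈ IsLocalRing.maximalIdeal V)
  (B : Type u) [CommRing B] [Algebra (Q ϖ) B] [Algebra V B] [IsScalarTower V (Q ϖ) B]
  (h : Q ϖ) [IsLocalization.Away h B]
  (j : Fin 2) (Ψ : B →+* PowerSeries (IsLocalRing.ResidueField V))
  (hΨ : ∀ a, Ψ (algebraMap (Q ϖ) B a) = psi ϖ hϖ j a)

include hΨ in
theorem Psi_algebraMap (v : V) : Ψ (algebraMap V B v) = PowerSeries.C (IsLocalRing.residue V v) := by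
  rw [IsScalarTower.algebraMap_apply V (Q ϖ) B, hΨ, psi_algebraMap]

include hΨ in
theorem Psi_genB_same : Ψ (algebraMap (Q ϖ) B (gen ϖ j)) = PowerSeries.X := by
  rw [hΨ, psi_gen_same]

include hΨ in
theorem Psi_genB_ne {i : Fin 2} (hij : i ≠ j) : Ψ (algebraMap (Q ϖ) B (gen ϖ i)) = 0 := by
  rw [hΨ, psi_gen_ne ϖ hϖ hij]

include h hΨ in
theorem genB_dvd_of_Psi_eq_zero (hm : IsLocalRing.maximalIdeal V = Ideal.span {ϖ})
    {i : Fin 2} (hij : i ≠ j) (b : B) (hb : Ψ b = 0) :
    algebraMap (Q ϖ) B (gen ϖ i) ∣ b := by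
  obtain ⟨a, s, rfl⟩ := IsLocalization.exists_mk'_eq (Submonoid.powers h) b
  have h1 : Ψ (algebraMap (Q ϖ) B a) = 0 := by
    rw [← IsLocalization.mk'_spec B a s, map_mul, hb, zero_mul]
  rw [hΨ] at h1
  obtain ⟨a', rfl⟩ := gen_dvd_of_psi_eq_zero ϖ hϖ hm hij a h1
  exact ⟨IsLocalization.mk' B a' s, (IsLocalization.mul_mk'_eq_mk'_of_mul _ _ _).symm⟩

include hΨ in
theorem Psi_eq_zero_of_genB_dvd {i : Fin 2} (hij : i ≠ j) (b : B)
    (hb : algebraMap (Q ϖ) B (gen ϖ i) ∣ b) : Ψ b = 0 := by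
  obtain ⟨c, rfl⟩ := hb
  rw [map_mul, Psi_genB_ne ϖ hϖ B j Ψ hΨ hij, zero_mul]

include h hΨ in
theorem genB_dvd_mul (hm : IsLocalRing.maximalIdeal V = Ideal.span {ϖ})
    {i : Fin 2} (hij : i ≠ j) (a b : B) (hab : algebraMap (Q ϖ) B (gen ϖ i) ∣ a * b) :
    algebraMap (Q ϖ) B (gen ϖ i) ∣ a ∨ algebraMap (Q ϖ) B (gen ϖ i) ∣ b := by
  have h1 := Psi_eq_zero_of_genB_dvd ϖ hϖ B j Ψ hΨ hij _ hab
  rw [map_mul] at h1
  rcases mul_eq_zero.mp h1 with h2 | h2
  · exact Or.inl (genB_dvd_of_Psi_eq_zero ϖ hϖ B h j Ψ hΨ hm hij a h2)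
  · exact Or.inr (genB_dvd_of_Psi_eq_zero ϖ hϖ B h j Ψ hΨ hm hij b h2)

include hΨ in
theorem span_genB_ne_top :
    Ideal.span ({algebraMap (Q ϖ) B (gen ϖ 0), algebraMap (Q ϖ) B (gen ϖ 1)} : Set B) ≠ ⊤ := by
  intro htop
  have hle : Ideal.span ({algebraMap (Q ϖ) B (gen ϖ 0), algebraMap (Q ϖ) B (gen ϖ 1)} : Set B)
      ≤ RingHom.ker ((PowerSeries.constantCoeff).comp Ψ) := by
    rw [Ideal.span_le]
    intro z hz
    have hl : ∀ l : Fin 2, PowerSeries.constantCoeff (Ψ (algebraMap (Q ϖ) B (gen ϖ l))) = 0 := by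
      intro l
      by_cases hlj : l = j
      · subst hlj
        rw [Psi_genB_same ϖ hϖ B l Ψ hΨ, PowerSeries.constantCoeff_X]
      · rw [Psi_genB_ne ϖ hϖ B j Ψ hΨ hlj, map_zero]
    rw [Set.mem_insert_iff, Set.mem_singleton_iff] at hz
    rcases hz with rfl | rfl
    · exact hl 0
    · exact hl 1
  have h1 : (1 : B) ∈ RingHom.ker ((PowerSeries.constantCoeff).comp Ψ) := by
    apply hle
    rw [htop]
    exact Submodule.mem_top
  rw [RingHom.mem_ker, map_one] at h1
  exact one_ne_zero h1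

variable (δ : Derivation V B B)
  (hδ : ∀ a, δ (algebraMap (Q ϖ) B a) = algebraMap (Q ϖ) B (deltaQ ϖ a))

include h hΨ hδ in
theorem Psi_delta (b : B) :
    Ψ (δ b) = sg _ j * (PowerSeries.X *
      PowerSeries.derivative (IsLocalRing.ResidueField V) (Ψ b)) := by
  refine B_induction ϖ B h (Pred := fun b => Ψ (δ b) = sg _ j * (PowerSeries.X *
      PowerSeries.derivative (IsLocalRing.ResidueField V) (Ψ b))) ?_ ?_ ?_ ?_ ?_ b
  · intro v
    show Ψ (δ (algebraMap V B v)) = sg _ j * (PowerSeries.X *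
      PowerSeries.derivative (IsLocalRing.ResidueField V) (Ψ (algebraMap V B v)))
    rw [Derivation.map_algebraMap, map_zero, Psi_algebraMap ϖ hϖ B j Ψ hΨ,
      PowerSeries.derivative_C, mul_zero, mul_zero]
  · intro l
    show Ψ (δ (algebraMap (Q ϖ) B (gen ϖ l))) = sg _ j * (PowerSeries.X *
      PowerSeries.derivative (IsLocalRing.ResidueField V) (Ψ (algebraMap (Q ϖ) B (gen ϖ l))))
    rw [delta_genB ϖ B δ hδ, map_mul, map_sg]
    by_cases hlj : l = j
    · subst hlj
      rw [Psi_genB_same ϖ hϖ B l Ψ hΨ, PowerSeries.derivative_X, mul_one]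
    · rw [Psi_genB_ne ϖ hϖ B j Ψ hΨ hlj, map_zero, mul_zero, mul_zero, mul_zero]
  · intro a b ha hb
    show Ψ (δ (a + b)) = sg _ j * (PowerSeries.X *
      PowerSeries.derivative (IsLocalRing.ResidueField V) (Ψ (a + b)))
    replace ha : Ψ (δ a) = sg _ j * (PowerSeries.X *
      PowerSeries.derivative (IsLocalRing.ResidueField V) (Ψ a)) := ha
    replace hb : Ψ (δ b) = sg _ j * (PowerSeries.X *
      PowerSeries.derivative (IsLocalRing.ResidueField V) (Ψ b)) := hb
    rw [map_add, map_add, map_add, map_add, ha, hb]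
    ring
  · intro a b ha hb
    show Ψ (δ (a * b)) = sg _ j * (PowerSeries.X *
      PowerSeries.derivative (IsLocalRing.ResidueField V) (Ψ (a * b)))
    replace ha : Ψ (δ a) = sg _ j * (PowerSeries.X *
      PowerSeries.derivative (IsLocalRing.ResidueField V) (Ψ a)) := ha
    replace hb : Ψ (δ b) = sg _ j * (PowerSeries.X *
      PowerSeries.derivative (IsLocalRing.ResidueField V) (Ψ b)) := hb
    rw [Derivation.leibniz, smul_eq_mul, smul_eq_mul, map_add, map_mul, map_mul, ha, hb,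
      map_mul, Derivation.leibniz, smul_eq_mul, smul_eq_mul]
    ring
  · intro b s hbs hs hu
    show Ψ (δ b) = sg _ j * (PowerSeries.X *
      PowerSeries.derivative (IsLocalRing.ResidueField V) (Ψ b))
    replace hbs : Ψ (δ (b * s)) = sg _ j * (PowerSeries.X *
      PowerSeries.derivative (IsLocalRing.ResidueField V) (Ψ (b * s))) := hbs
    replace hs : Ψ (δ s) = sg _ j * (PowerSeries.X *
      PowerSeries.derivative (IsLocalRing.ResidueField V) (Ψ s)) := hs
    have hne : Ψ s ≠ 0 := (hu.map Ψ).ne_zero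
    have e1 : Ψ (δ (b * s)) = Ψ b * Ψ (δ s) + Ψ s * Ψ (δ b) := by
      rw [Derivation.leibniz, smul_eq_mul, smul_eq_mul, map_add, map_mul, map_mul]
    have e2 : PowerSeries.derivative (IsLocalRing.ResidueField V) (Ψ (b * s))
        = Ψ b * PowerSeries.derivative (IsLocalRing.ResidueField V) (Ψ s)
          + Ψ s * PowerSeries.derivative (IsLocalRing.ResidueField V) (Ψ b) := by
      rw [map_mul, Derivation.leibniz, smul_eq_mul, smul_eq_mul]
    rw [e1, e2, hs] at hbs
    apply mul_left_cancel₀ hne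
    linear_combination hbs

end LocBranch

end Groth.Agent.H76.PolyNode
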