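import Mathlib
import Groth.Prelude
import Groth.Agent.H42.QH_Def
import Groth.Agent.H39.OmegaA
set_option autoImplicit false
universe w₁ w₂ v₁ v₂ u₁ u₂ u
open CategoryTheory CategoryTheory.Limits AlgebraicGeometry
open Groth.Agent.H42.QH

namespace Groth.Agent.H76.QH_Q6

/-- restriction along the inverse of an isomorphism is the pushforward along the isomorphism -/
noncomputable def restrictInvIsoPushforward {X Y : Scheme.{u}} (e : X ≅ Y) (M : X.Modules) :
    (Scheme.Modules.restrictFunctor e.inv).obj M ≅ (Scheme.Modules.pushforward e.hom).obj M :=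
  (Scheme.Modules.restrictFunctorIsoPullback e.inv).app M ≪≫
    (Groth.Agent.H39.OmegaA.pullbackIsoPushforwardInv e.symm).app M

/-- (Q6) for helper42's S14112. -/
theorem Q6 {X Y : Scheme.{u}} (e : X ≅ Y) (M : X.Modules) (hM : Coh.IsQCoh M) :
    Coh.IsQCoh ((Scheme.Modules.pushforward e.hom).obj M) := by
  have : M.IsQuasicoherent := hM
  have h1 : ((Scheme.Modules.restrictFunctor e.inv).obj M).IsQuasicoherent := inferInstance
  exact (SheafOfModules.isQuasicoherent Y.ringCatSheaf).prop_of_iso (restrictInvIsoPushforward e M) h1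

/-- (ET) for helper42's S14112. -/
theorem ET {X Y : Scheme.{u}} (e : X ≅ Y) :
    Nonempty ((Scheme.Modules.pushforward e.hom).obj (SheafOfModules.unit X.ringCatSheaf) ≅
      SheafOfModules.unit Y.ringCatSheaf) :=
  ⟨(restrictInvIsoPushforward e (SheafOfModules.unit X.ringCatSheaf)).symm ≪≫
    Scheme.Modules.restrictUnitIso e.inv⟩

end Groth.Agent.H76.QH_Q6
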