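import Groth.Agent.S15009
import Mathlib

/-!
# Stronger form of the core lemma of S15009: a generic basis inside a lattice

For a finitely generated `O`-module `M` embedded in an `n`-dimensional `K`-vector space `V` and
spanning it, with `A ⊆ K` a semilocal PID containing `O` with fraction field `K` (e.g. the
normalization of a one-dimensional local domain with infinite residue field), there is a
`K`-basis `b` of `V` consisting of elements of `M` such that `M ⊆ ⊕ A b_i`.
-/

set_option autoImplicit false
universe u
open Groth.Agent.S15009 TensorProduct Module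

namespace Groth.Agent.H76.TFCoreBasis

set_option maxHeartbeats 1600000 in
theorem core_basis (O : Type u) [CommRing O] [IsDomain O] [IsLocalRing O]
    [Infinite (IsLocalRing.ResidueField O)]
    (K : Type u) [Field K] [Algebra O K] [IsFractionRing O K]
    (A : Subalgebra O K) [IsPrincipalIdealRing A] [IsFractionRing A K]
    (hmax : {P : Ideal A | P.IsMaximal}.Finite)
    (M : Type u) [AddCommGroup M] [Module O M] [Module.Finite O M]
    (V : Type u) [AddCommGroup V] [Module K V] [Module O V] [IsScalarTower O K V]
    (ι₀ : M →ₗ[O] V) (hinj : Function.Injective ι₀)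
    (hspan0 : Submodule.span K (Set.range ι₀) = ⊤)
    (n : ℕ) (hn : Module.finrank K V = n) :
    ∃ b : Module.Basis (Fin n) K V, (∀ i, b i ∈ Set.range ι₀) ∧
      ∀ x : M, ι₀ x ∈ Submodule.span A (Set.range b) := by
  classical
  obtain ⟨S, hS⟩ := (Module.Finite.fg_top : (⊤ : Submodule O M).FG)
  let N : Submodule A (V) := Submodule.span A (ι₀ '' (S : Set M))
  have hιN : ∀ x : M, ι₀ x ∈ N := by
    intro x
    have hx : x ∈ Submodule.span O (S : Set M) := by rw [hS]; exact Submodule.mem_top
    induction hx using Submodule.span_induction with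
    | mem y hy => exact Submodule.subset_span ⟨y, hy, rfl⟩
    | zero => rw [map_zero]; exact N.zero_mem
    | add y z _ _ hy hz => rw [map_add]; exact N.add_mem hy hz
    | smul a y _ hy =>
      rw [map_smul, ← algebraMap_smul A a (ι₀ y)]
      exact N.smul_mem _ hy
  haveI hNfin : Module.Finite A N := Module.Finite.span_of_finite A ((S.finite_toSet).image ι₀)
  haveI hNtf : Module.IsTorsionFree A N := by
    refine ⟨fun a ha x y hxy => ?_⟩
    have hane : (a : K) ≠ 0 := fun h => ha.ne_zero (Subtype.ext h)
    have h1 : (a : K) • (x : V) = (a : K) • (y : V) := congrArg Subtype.val hxy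
    exact Subtype.ext ((smul_right_inj hane).mp h1)
  obtain ⟨r, ⟨c⟩⟩ : ∃ r : ℕ, Nonempty (Basis (Fin r) A N) := ⟨_, ⟨Module.finBasis A N⟩⟩
  let ι : M →ₗ[O] N :=
    { toFun := fun x => ⟨ι₀ x, hιN x⟩
      map_add' := fun x y => Subtype.ext (map_add ι₀ x y)
      map_smul' := fun a x => Subtype.ext (map_smul ι₀ a x) }
  have hιspan : Submodule.span A (Set.range ι) = ⊤ := by
    rw [eq_top_iff]
    rintro ⟨v, hv⟩ -
    induction hv using Submodule.span_induction with
    | mem y hy =>
      obtain ⟨z, hz, rfl⟩ := hy
      exact Submodule.subset_span ⟨z, rfl⟩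
    | zero => exact Submodule.zero_mem _
    | add y z hy hz hy' hz' => exact Submodule.add_mem _ hy' hz'
    | smul a y hy hy' => exact Submodule.smul_mem _ a hy'
  let ρ : ∀ P : Ideal A, N →ₗ[A] (Fin r → A ⧸ P) := fun P =>
    ((Ideal.Quotient.mkₐ A P).toLinearMap.compLeft (Fin r)).comp c.equivFun.toLinearMap
  have hρ : ∀ (P : Ideal A) (x : N) (k : Fin r),
      ρ P x k = Ideal.Quotient.mk P (c.repr x k) := fun P x k => rfl
  let f : ∀ P : Ideal A, M →ₗ[O] (Fin r → A ⧸ P) := fun P =>
    ((ρ P).restrictScalars O).comp ι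
  have hf : ∀ P : Ideal A, Submodule.span (A ⧸ P) (Set.range (f P)) = ⊤ := by
    intro P
    rw [eq_top_iff]
    intro w _
    obtain ⟨a, ha⟩ : ∃ a : Fin r → A, ∀ k, Ideal.Quotient.mk P (a k) = w k :=
      ⟨fun k => (Ideal.Quotient.mk_surjective (w k)).choose,
        fun k => (Ideal.Quotient.mk_surjective (w k)).choose_spec⟩
    have hw : w = ρ P (∑ k, a k • c k) := by
      ext k
      rw [hρ, Basis.repr_sum_self, ha]
    rw [hw]
    have hmem : (∑ k, a k • c k) ∈ Submodule.span A (Set.range ι) := by
      rw [hιspan]; exact Submodule.mem_top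
    generalize (∑ k, a k • c k) = y at hmem
    induction hmem using Submodule.span_induction with
    | mem y hy =>
      obtain ⟨z, rfl⟩ := hy
      exact Submodule.subset_span ⟨z, rfl⟩
    | zero => rw [map_zero]; exact Submodule.zero_mem _
    | add y z _ _ hy hz => rw [map_add]; exact Submodule.add_mem _ hy hz
    | smul t y _ hy =>
      have hsm : ρ P (t • y) = (Ideal.Quotient.mk P t) • ρ P y := by
        ext k
        rw [Pi.smul_apply, hρ, hρ, map_smul, Finsupp.smul_apply, smul_eq_mul, map_mul,
          smul_eq_mul]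
      rw [hsm]
      exact Submodule.smul_mem _ _ hy
  obtain ⟨m, hm⟩ := generic_indep hmax.toFinset (fun P hP => hmax.mem_toFinset.mp hP) r f
    (fun P _ => hf P) r le_rfl
  have hdet : IsUnit (c.det (⇑ι ∘ m)) := by
    rw [Basis.det_apply, ← Matrix.det_transpose]
    apply isUnit_det_of_indep
    intro P hP
    exact hm P (hmax.mem_toFinset.mpr hP)
  obtain ⟨hli, hsp⟩ := (Basis.is_basis_iff_det c).mpr hdet
  let v' : Fin r → V := fun i => ι₀ (m i)
  have hliA : LinearIndependent A v' := hli.map' N.subtype (Submodule.ker_subtype N)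
  have hliK : LinearIndependent K v' := (LinearIndependent.iff_fractionRing A K).mp hliA
  have hxA : ∀ x : M, ι₀ x ∈ Submodule.span A (Set.range v') := by
    intro x
    have h : ι x ∈ Submodule.span A (Set.range (⇑ι ∘ m)) := by rw [hsp]; exact Submodule.mem_top
    have h2 := Submodule.mem_map_of_mem (f := N.subtype) h
    rw [Submodule.map_span, ← Set.range_comp] at h2
    exact h2
  have hspK : ⊤ ≤ Submodule.span K (Set.range v') := by
    rw [← hspan0, Submodule.span_le]
    rintro _ ⟨x, rfl⟩
    exact Submodule.span_le_restrictScalars A K _ (hxA x)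
  let b : Basis (Fin r) K (V) := Basis.mk hliK hspK
  have hb : ∀ i, b i = ι₀ (m i) := fun i => Basis.mk_apply hliK hspK i
  have hr : n = r := by
    rw [← hn, Module.finrank_eq_card_basis b, Fintype.card_fin]
  subst hr
  refine ⟨b, fun i => ⟨m i, (hb i).symm⟩, fun x => ?_⟩
  have hrange : Set.range (⇑b) = Set.range v' := congrArg Set.range (funext hb)
  rw [hrange]
  exact hxA x

end Groth.Agent.H76.TFCoreBasis
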