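import Groth.Prelude.Def_Omega3
import Mathlib.RingTheory.Ideal.Quotient.Nilpotent
import Mathlib.RingTheory.Localization.Basic

set_option autoImplicit false
universe u

namespace Groth.Agent.H76

/-- Localizing a surjection with square-zero kernel. -/
theorem loc_surj_sqzero {B' B : Type*} [CommRing B'] [CommRing B] (π : B' →+* B)
    (hsurj : Function.Surjective π) (hN : RingHom.ker π ^ 2 = ⊥)
    (M' : Submonoid B') (M : Submonoid B)
    (h2 : ∀ m : M, ∃ m' : M', π (m' : B') = (m : B))
    {B'S BS : Type*} [CommRing B'S] [CommRing BS] [Algebra B' B'S] [IsLocalization M' B'S]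
    [Algebra B BS] [IsLocalization M BS]
    (πS : B'S →+* BS) (hπS : ∀ x : B', πS (algebraMap B' B'S x) = algebraMap B BS (π x)) :
    Function.Surjective πS ∧ RingHom.ker πS ^ 2 = ⊥ := by
  constructor
  · intro y
    obtain ⟨⟨b, m⟩, rfl⟩ := IsLocalization.mk'_surjective M y
    obtain ⟨b', rfl⟩ := hsurj b
    obtain ⟨m', hm'eq⟩ := h2 m
    refine ⟨IsLocalization.mk' B'S b' m', ?_⟩
    have e1 : algebraMap B BS (m : B) = πS (algebraMap B' B'S (m' : B')) := by
      rw [hπS, hm'eq]
    show πS (IsLocalization.mk' B'S b' m') = IsLocalization.mk' BS (π b') m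
    rw [IsLocalization.eq_mk'_iff_mul_eq, e1, ← map_mul, IsLocalization.mk'_spec, hπS]
  · have hform : ∀ z ∈ RingHom.ker πS, ∃ n ∈ RingHom.ker π, ∃ t : M',
        z * algebraMap B' B'S (t : B') = algebraMap B' B'S n := by
      intro z hz
      obtain ⟨⟨b', m'⟩, rfl⟩ := IsLocalization.mk'_surjective M' z
      have hz' : πS (IsLocalization.mk' B'S b' m') = 0 := RingHom.mem_ker.mp hz
      have hz0 : algebraMap B BS (π b') = 0 := by
        rw [← hπS, ← IsLocalization.mk'_spec B'S b' m', map_mul, hz', zero_mul]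
      obtain ⟨m2, hm2⟩ := (IsLocalization.map_eq_zero_iff M BS _).mp hz0
      obtain ⟨m2', hm2'⟩ := h2 m2
      refine ⟨(m2' : B') * b', ?_, m2' * m', ?_⟩
      · rw [RingHom.mem_ker, map_mul, hm2', hm2]
      · show IsLocalization.mk' B'S b' m' * algebraMap B' B'S ((m2' * m' : M') : B') = _
        rw [Submonoid.coe_mul, map_mul, map_mul, ← IsLocalization.mk'_spec B'S b' m']
        ring
    rw [eq_bot_iff, pow_two, Ideal.mul_le]
    intro z1 hz1 z2 hz2
    obtain ⟨n1, hn1, t1, e1⟩ := hform z1 hz1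
    obtain ⟨n2, hn2, t2, e2⟩ := hform z2 hz2
    have hnn : n1 * n2 = 0 := by
      have h : n1 * n2 ∈ RingHom.ker π ^ 2 := by
        rw [pow_two]; exact Ideal.mul_mem_mul hn1 hn2
      rwa [hN, Ideal.mem_bot] at h
    have hu : IsUnit (algebraMap B' B'S ((t1 * t2 : M') : B')) :=
      IsLocalization.map_units B'S (t1 * t2)
    have hprod : z1 * z2 * algebraMap B' B'S ((t1 * t2 : M') : B') = 0 := by
      rw [Submonoid.coe_mul, map_mul]
      calc z1 * z2 * (algebraMap B' B'S t1 * algebraMap B' B'S t2)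
          = (z1 * algebraMap B' B'S t1) * (z2 * algebraMap B' B'S t2) := by ring
        _ = 0 := by rw [e1, e2, ← map_mul, hnn, map_zero]
    rw [Ideal.mem_bot]
    exact hu.mul_left_eq_zero.mp hprod

/-- The universal lifting property of a universal first order thickening passes to
localizations (over the same base). -/
theorem loc_univ {A B' B : Type u} [CommRing A] [CommRing B'] [CommRing B] [Algebra A B']
    [Algebra A B]
    (π : B' →ₐ[A] B) (hπ : OmegaSh.IsUnivThickeningRing A B B' π)
    (M' : Submonoid B') (M : Submonoid B) (h1 : ∀ m' : M', π (m' : B') ∈ M)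
    {B'S BS : Type u} [CommRing B'S] [CommRing BS] [Algebra B' B'S] [IsLocalization M' B'S]
    [Algebra B BS] [IsLocalization M BS] [Algebra A B'S] [IsScalarTower A B' B'S]
    [Algebra A BS] [IsScalarTower A B BS]
    (πS : B'S →ₐ[A] BS) (hπS : ∀ x : B', πS (algebraMap B' B'S x) = algebraMap B BS (π x))
    (T : Type u) [CommRing T] [Algebra A T] (I : Ideal T) (hI : I ^ 2 = ⊥)
    (a : BS →ₐ[A] T ⧸ I) :
    ∃! a' : B'S →ₐ[A] T, (Ideal.Quotient.mkₐ A I).comp a' = a.comp πS := by
  unfold OmegaSh.IsUnivThickeningRing at hπ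
  obtain ⟨-, -, huniv⟩ := hπ
  let a0 : B →ₐ[A] T ⧸ I := a.comp (IsScalarTower.toAlgHom A B BS)
  obtain ⟨a0', ha0', huniq⟩ := huniv T I hI a0
  have hmk : ∀ b' : B', Ideal.Quotient.mk I (a0' b') = a (algebraMap B BS (π b')) :=
    fun b' => DFunLike.congr_fun ha0' b'
  have hunit : ∀ m' : M', IsUnit (a0'.toRingHom (m' : B')) := by
    intro m'
    have hu1 : IsUnit (algebraMap B BS (π (m' : B'))) :=
      IsLocalization.map_units BS (⟨_, h1 m'⟩ : M)
    have hu2 : IsUnit (Ideal.Quotient.mk I (a0' (m' : B'))) := by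
      rw [hmk]; exact hu1.map a
    exact (IsNilpotent.isUnit_quotient_mk_iff ⟨2, hI⟩).mp hu2
  let a'r : B'S →+* T := IsLocalization.lift (M := M') (g := a0'.toRingHom) hunit
  have ha'r : ∀ b' : B', a'r (algebraMap B' B'S b') = a0' b' :=
    fun b' => IsLocalization.lift_eq _ _
  let a' : B'S →ₐ[A] T :=
    { toRingHom := a'r
      commutes' := fun r => by
        show a'r (algebraMap A B'S r) = algebraMap A T r
        rw [IsScalarTower.algebraMap_apply A B' B'S, ha'r, AlgHom.commutes] }
  refine ⟨a', ?_, ?_⟩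
  · apply AlgHom.coe_ringHom_injective
    apply IsLocalization.ringHom_ext M'
    ext b'
    show Ideal.Quotient.mk I (a'r (algebraMap B' B'S b')) = a (πS (algebraMap B' B'S b'))
    rw [ha'r, hmk, hπS]
  · intro a'' ha''
    have hres : (a''.comp (IsScalarTower.toAlgHom A B' B'S)) = a0' := by
      apply huniq
      apply AlgHom.ext
      intro b'
      show Ideal.Quotient.mk I (a'' (algebraMap B' B'S b')) = a (algebraMap B BS (π b'))
      have h := DFunLike.congr_fun ha'' (algebraMap B' B'S b')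
      rw [← hπS]; exact h
    apply AlgHom.coe_ringHom_injective
    apply IsLocalization.ringHom_ext M'
    ext b'
    show a'' (algebraMap B' B'S b') = a'r (algebraMap B' B'S b')
    rw [ha'r, ← hres]; rfl

end Groth.Agent.H76
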